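import Cfsg.Agent.H871.Par6
import Cfsg.Agent.H921.SporM24

/-!
# `3^2:Q8` and `11:5` in the Mathieu groups
-/

set_option autoImplicit false

universe u v w

namespace Cfsg.Agent.H871.Par

open Cfsg Cfsg.Agent.SporadicA.GolayBase Cfsg.Agent.SporadicA.GolayPerm
open Cfsg.Agent.SporadicStructure.M24El Cfsg.Agent.H921.Spor Cfsg.Agent.H921.Spor.M24

theorem quat9_of_mk {T : Type v} [Group T] {u v i j : T} (h1 : u * u * u = 1) (h2 : u ≠ 1) (h3 : u * v = v * u)
    (h4 : i * u = v * i) (h5 : u * (i * v) = i) (h6 : j * u = u * v * j) (h7 : j * v = u * v * v * j)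
    (hv3 : v * v * v = 1) (h8 : i * i = j * j) (h9 : i * j = i * i * (j * i)) : Quat9 T := by
  have e8 : v * v = v⁻¹ := eq_inv_of_mul_eq_one_left hv3
  refine ⟨u, v, i, j, by rw [pow_succ, pow_two]; exact h1, h2, h3, mul_inv_eq_iff_eq_mul.2 h4, ?_,
    mul_inv_eq_iff_eq_mul.2 h6, ?_, h8, h9⟩
  · rw [mul_inv_eq_iff_eq_mul, eq_inv_mul_iff_mul_eq]; exact h5
  · rw [mul_inv_eq_iff_eq_mul, ← e8, h7, mul_assoc u v v]

/-- the check for `Quat9` -/
def chkQ (u v i j : ℕ) : Bool :=
  ok u && ok v && ok i && ok j && Nat.beq (pcomp (pcomp u u) u) idP && Nat.beq (pcomp u v) (pcomp v u) &&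
    Nat.beq (pcomp i u) (pcomp v i) && Nat.beq (pcomp u (pcomp i v)) i && Nat.beq (pcomp j u) (pcomp (pcomp u v) j) &&
    Nat.beq (pcomp j v) (pcomp (pcomp (pcomp u v) v) j) && Nat.beq (pcomp (pcomp v v) v) idP &&
    Nat.beq (pcomp i i) (pcomp j j) && Nat.beq (pcomp i j) (pcomp (pcomp i i) (pcomp j i)) &&
    (Nat.blt 0 (papp u 1 - 1 + (1 - papp u 1)) || Nat.blt 0 (papp u 2 - 2 + (2 - papp u 2)))

theorem quat9_of_chk {u v i j : ℕ} (h : chkQ u v i j = true) (H : Subgroup (Equiv.Perm GolayPt))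
    (hu : (el u : Equiv.Perm GolayPt) ∈ H) (hv : (el v : Equiv.Perm GolayPt) ∈ H) (hi : (el i : Equiv.Perm GolayPt) ∈ H)
    (hj : (el j : Equiv.Perm GolayPt) ∈ H) : Quat9 H := by
  unfold chkQ at h
  simp only [Bool.and_eq_true] at h
  obtain ⟨⟨⟨⟨⟨⟨⟨⟨⟨⟨⟨⟨⟨ou, ov⟩, oi⟩, oj⟩, h1⟩, h3⟩, h4⟩, h5⟩, h6⟩, h7⟩, h8⟩, h9⟩, h10⟩, h11⟩ := h
  have ouu := ok_pcomp ou ou
  have ouv := ok_pcomp ou ov
  have oiv := ok_pcomp oi ov
  have ovv := ok_pcomp ov ov
  have ouvv := ok_pcomp ouv ov
  have oii := ok_pcomp oi oi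
  have oji := ok_pcomp oj oi
  have k1 := congrArg el (Nat.eq_of_beq_eq_true h1)
  have k3 := congrArg el (Nat.eq_of_beq_eq_true h3)
  have k4 := congrArg el (Nat.eq_of_beq_eq_true h4)
  have k5 := congrArg el (Nat.eq_of_beq_eq_true h5)
  have k6 := congrArg el (Nat.eq_of_beq_eq_true h6)
  have k7 := congrArg el (Nat.eq_of_beq_eq_true h7)
  have k8 := congrArg el (Nat.eq_of_beq_eq_true h8)
  have k9 := congrArg el (Nat.eq_of_beq_eq_true h9)
  have k10 := congrArg el (Nat.eq_of_beq_eq_true h10)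
  rw [el_pcomp ouu ou, el_pcomp ou ou, el_idP] at k1
  rw [el_pcomp ou ov, el_pcomp ov ou] at k3
  rw [el_pcomp oi ou, el_pcomp ov oi] at k4
  rw [el_pcomp ou oiv, el_pcomp oi ov] at k5
  rw [el_pcomp oj ou, el_pcomp ouv oj, el_pcomp ou ov] at k6
  rw [el_pcomp oj ov, el_pcomp ouvv oj, el_pcomp ouv ov, el_pcomp ou ov] at k7
  rw [el_pcomp ovv ov, el_pcomp ov ov, el_idP] at k8
  rw [el_pcomp oi oi, el_pcomp oj oj] at k9
  rw [el_pcomp oi oj, el_pcomp oii oji, el_pcomp oi oi, el_pcomp oj oi] at k10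
  have hne : el u ≠ 1 := by
    rw [Bool.or_eq_true] at h11
    rcases h11 with h | h
    · refine el_ne_one ou (i := 1) (by norm_num) ?_
      intro h0
      rw [h0] at h
      exact absurd h (by decide)
    · refine el_ne_one ou (i := 2) (by norm_num) ?_
      intro h0
      rw [h0] at h
      exact absurd h (by decide)
  have c : ∀ {g g' : M24}, g = g' → (g : Equiv.Perm GolayPt) = (g' : Equiv.Perm GolayPt) := fun h => congrArg Subtype.val h
  refine quat9_of_mk (T := H) (u := ⟨_, hu⟩) (v := ⟨_, hv⟩) (i := ⟨_, hi⟩) (j := ⟨_, hj⟩) (Subtype.ext (c k1)) ?_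
    (Subtype.ext (c k3)) (Subtype.ext (c k4)) (Subtype.ext (c k5)) (Subtype.ext (c k6)) (Subtype.ext (c k7))
    (Subtype.ext (c k8)) (Subtype.ext (c k9)) (Subtype.ext (c k10))
  intro h
  have h' : (el u : Equiv.Perm GolayPt) = 1 := congrArg Subtype.val h
  exact hne (Subtype.ext h')

/-- the check for `Frob11` -/
def chkF (x y : ℕ) : Bool :=
  ok x && ok y && Nat.beq (ppow x 11) idP && Nat.beq (pcomp y x) (pcomp (ppow x 3) y) &&
    (Nat.blt 0 (papp x 1 - 1 + (1 - papp x 1)) || Nat.blt 0 (papp x 2 - 2 + (2 - papp x 2)))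

theorem frob11_of_chk {x y : ℕ} (h : chkF x y = true) (H : Subgroup (Equiv.Perm GolayPt))
    (hx : (el x : Equiv.Perm GolayPt) ∈ H) (hy : (el y : Equiv.Perm GolayPt) ∈ H) : Frob11 H := by
  unfold chkF at h
  simp only [Bool.and_eq_true] at h
  obtain ⟨⟨⟨⟨ox, oy⟩, h1⟩, h2⟩, h3⟩ := h
  have k1 := congrArg el (Nat.eq_of_beq_eq_true h1)
  have k2 := congrArg el (Nat.eq_of_beq_eq_true h2)
  rw [el_ppow ox, el_idP] at k1
  rw [el_pcomp oy ox, el_pcomp (ok_ppow ox 3) oy, el_ppow ox] at k2
  have hne : el x ≠ 1 := by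
    rw [Bool.or_eq_true] at h3
    rcases h3 with h | h
    · refine el_ne_one ox (i := 1) (by norm_num) ?_
      intro h0
      rw [h0] at h
      exact absurd h (by decide)
    · refine el_ne_one ox (i := 2) (by norm_num) ?_
      intro h0
      rw [h0] at h
      exact absurd h (by decide)
  refine ⟨⟨_, hx⟩, ⟨_, hy⟩, ?_, ?_, ?_⟩
  · apply Subtype.ext
    rw [Subgroup.coe_pow]
    have := congrArg Subtype.val k1
    rw [Subgroup.coe_pow] at this
    exact this
  · intro h
    have h' : (el x : Equiv.Perm GolayPt) = 1 := congrArg Subtype.val h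
    exact hne (Subtype.ext h')
  · rw [mul_inv_eq_iff_eq_mul]
    apply Subtype.ext
    rw [Subgroup.coe_mul, Subgroup.coe_mul, Subgroup.coe_pow]
    have := congrArg Subtype.val k2
    rw [Subgroup.coe_mul, Subgroup.coe_mul, Subgroup.coe_pow] at this
    exact this

theorem quat9_M11 : Quat9 Spor.M11 :=
  quat9_of_chk (u := 630527314624693978108974233905804352) (v := 649977193065808983368352309132570752)
    (i := 933547632980979056642724571197355104) (j := 479778703989985584980805159268978048) (by decide +kernel) _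
    (mem_M11 (by decide +kernel)) (mem_M11 (by decide +kernel)) (mem_M11 (by decide +kernel))
    (mem_M11 (by decide +kernel))

theorem frob11_M11 : Frob11 Spor.M11 :=
  frob11_of_chk (x := 221539224934219212257031234801320352) (y := 482463145814578371037647286143366240)
    (by decide +kernel) _ (mem_M11 (by decide +kernel)) (mem_M11 (by decide +kernel))

theorem quat9_M22 : Quat9 Spor.M22 :=
  quat9_of_chk (u := 982218091567328395089312977384480928) (v := 976541149526496420920905000441463840)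
    (i := 974004575852828482443744070120626464) (j := 976887628028742564228740957297822944) (by decide +kernel) _
    (mem_M22 (by decide +kernel)) (mem_M22 (by decide +kernel)) (mem_M22 (by decide +kernel))
    (mem_M22 (by decide +kernel))

theorem frob11_M22 : Frob11 Spor.M22 :=
  frob11_of_chk (x := 983435072843990828779021698901151808) (y := 974380510768821363662145534143076928)
    (by decide +kernel) _ (mem_M22 (by decide +kernel)) (mem_M22 (by decide +kernel))

theorem quat9_M12 : Quat9 Spor.M12 :=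
  quat9_M11.of_inj (Subgroup.inclusion inf_le_left) (Subgroup.inclusion_injective _)

theorem frob11_M12 : Frob11 Spor.M12 :=
  frob11_M11.of_inj (Subgroup.inclusion inf_le_left) (Subgroup.inclusion_injective _)

theorem quat9_M23 : Quat9 Spor.M23 :=
  quat9_M22.of_inj (Subgroup.inclusion inf_le_left) (Subgroup.inclusion_injective _)

theorem frob11_M23 : Frob11 Spor.M23 :=
  frob11_M22.of_inj (Subgroup.inclusion inf_le_left) (Subgroup.inclusion_injective _)

theorem quat9_M24 : Quat9 M24 :=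
  quat9_M23.of_inj (Subgroup.inclusion inf_le_left) (Subgroup.inclusion_injective _)

theorem frob11_M24 : Frob11 M24 :=
  frob11_M23.of_inj (Subgroup.inclusion inf_le_left) (Subgroup.inclusion_injective _)

/-! ### `PSL_2(11)` -/

theorem frob11_psl2 {K : Type w} [Field K] [CharP K 11] : Frob11 (Matrix.ProjectiveSpecialLinearGroup (Fin 2) K) := by
  have : Fact (Nat.Prime 11) := ⟨by norm_num⟩
  have h5 : (5 : K) ≠ 0 := by
    intro h
    have h1 : ((5 : ℕ) : K) = 0 := by exact_mod_cast h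
    have h2 := (CharP.cast_eq_zero_iff K 11 5).1 h1
    omega
  have h11 : (11 : K) = 0 := by exact_mod_cast CharP.cast_eq_zero K 11
  have hp : ∀ n : ℕ, (ut (1 : K)) ^ n = ut (n : K) := by
    intro n
    induction n with
    | zero =>
      rw [pow_zero, Nat.cast_zero]
      apply Subtype.ext
      change (1 : Matrix (Fin 2) (Fin 2) K) = !![(1 : K), 0; 0, 1]
      exact Matrix.one_fin_two
    | succ n ih => rw [pow_succ, ih, ut_mul, Nat.cast_succ]
  have h0 : ut (0 : K) = 1 := by
    have := hp 0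
    rw [pow_zero, Nat.cast_zero] at this
    exact this.symm
  have h1 : Frob11 (Matrix.SpecialLinearGroup (Fin 2) K) := by
    refine ⟨ut 1, dg 5 h5, ?_, ?_, ?_⟩
    · rw [hp, ← h0]
      congr 1
    · intro h
      rw [← h0] at h
      exact one_ne_zero (ut_inj h)
    · rw [dg_ut, hp]
      congr 1
      push_cast
      linear_combination 2 * h11
  exact h1.quot

end Cfsg.Agent.H871.Par
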