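import Cfsg.Agent.H871.Sp8Odd
import Cfsg.Agent.H905.JDCard

/-!
# S5824: assembly
-/

set_option autoImplicit false
set_option linter.unusedSectionVars false

namespace Cfsg.Agent.H871.Sp8

open Matrix Cfsg Cfsg.Geo Cfsg.Agent.H915.LD

universe u

variable {F : Type u} [Field F] [Fintype F]

/-- the input for `p = 2` -/
def TwoRow (F : Type u) [Field F] [Fintype F] : Prop :=
  ∀ {P : Subgroup (GL (Fin 4 ⊕ Fin 4) F)}, CharP F 2 → Core P → FixA P → ¬ FixQ P → IsKnownSimple' (Soc P) →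
    (Nonempty (Soc P ≃* ProjectiveSpecialLinearGroup (Fin 2) (ZMod 17)) ∧ Fintype.card F = 2) ∨
    (Nonempty (Soc P ≃* alternatingGroup (Fin 10)) ∧ Fintype.card F = 2) ∨ H925.Nat.CjOf (spGL 4 F) P

theorem row5824 (hcfsg : ∀ (G : Type u) [Group G] [Finite G] [IsSimpleGroup G], IsKnownSimple' G)
    (h2 : TwoRow F) {H : Subgroup (GL (Fin 4 ⊕ Fin 4) F)} (hH : IsMaximalIn (spGL 4 F) H)
    (hS : InSymplecticResidualClass H) :
    ∃ (P : Subgroup (GL (Fin 4 ⊕ Fin 4) F)) (p : ℕ), IsResidualCore H P ∧ p.Prime ∧ CharP F p ∧ Concl P p := by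
  obtain ⟨P, hc, hQ, -⟩ := hS
  obtain ⟨p, hFp⟩ := CharP.exists F
  have hpp := CharP.char_is_prime F p
  have hp : Fact p.Prime := ⟨hpp⟩
  refine ⟨P, p, hc, hpp, hFp, ?_⟩
  have hC := core_of_residual hc
  have hs := hC.simple
  have hk : IsKnownSimple' (Soc P) := hcfsg (Soc P)
  have hle : P ≤ spGL 4 F := hc.le.trans hH.1.le
  have hA : FixA P := ⟨_, H924.isSymplecticForm_sympForm, by
    rintro _ ⟨g, hg, rfl⟩ u v
    exact hle hg u v⟩
  by_cases hp2 : p = 2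
  · subst hp2
    rcases h2 hFp hC hA hQ hk with ⟨h, hF⟩ | h | h
    · exact Or.inr (Or.inr (Or.inl ⟨h, Or.inl ⟨hF, by norm_num⟩⟩))
    · exact Or.inr (Or.inr (Or.inr (Or.inl h)))
    · exact (h.not_maximal_sp hc hH).elim
  · refine odd_row p hp2 hH hc hk fun hJ => ?_
    have h6 := H905.JD.J2_six hC hJ (by simp)
    simp at h6

end Cfsg.Agent.H871.Sp8
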