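import Cfsg.Agent.H871.Par2

/-!
# Parity bounds for symplectic and self-dual projective representations, II

* `PA.quat` : `E` an abelian `r`-subgroup (`r` odd), `t = i ^ 2 = j ^ 2 = [i, j]` inverts `E`, `S` acts freely : `2 |S| ≤ n`;
* `PD.free`, `PD.prime` : `S` and `-1` act freely on `E` : `2 |S| ≤ n`;
* `pa_of_fixA`, `pd_of_fixA`, `pd_of_fixQ`, `pd_of_sd`.
-/

set_option autoImplicit false

universe u v w

namespace Cfsg.Agent.H871.Par

open Module Cfsg.Agent.H912.Bd Cfsg Cfsg.Geo Matrix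

variable {F : Type u} [Field F] {n : ℕ} {T : Type v} [Group T]

section lift

variable {L : Type u} [Group L] {π : L →* T} (hπ : Function.Surjective π)
  {V : Type u} [AddCommGroup V] [Module (AlgebraicClosure F) V] [FiniteDimensional (AlgebraicClosure F) V]
  {ρ : L →* Module.End (AlgebraicClosure F) V} (hρ : Function.Injective ρ)
  (hker : ∀ x, π x = 1 → ρ x = 1 ∨ ρ x = -1)
  (B : LinearMap.BilinForm (AlgebraicClosure F) V) (hnd : ∀ u, (∀ v, B u v = 0) → u = 0)
  (hinv : ∀ g u v, B (ρ g u) (ρ g v) = B u v)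

include hπ hρ hker hnd hinv in
theorem inv_bound (halt : B.IsAlt) (h2 : (2 : F) ≠ 0) {r : ℕ} (hr : r.Prime) (hr2 : r ≠ 2) (hrF : (r : F) ≠ 0)
    (E : Subgroup T) [Finite E]
    (hE : ∀ a ∈ E, ∀ b ∈ E, a * b = b * a) (hEr : IsPGroup r E) (hE1 : E ≠ ⊥) {t : L} (ht : t * t = 1)
    (htE : ∀ e ∈ E, π t * e * (π t)⁻¹ = e⁻¹) (S : Finset T) (hS : ∀ s ∈ S, ∀ e ∈ E, s * e * s⁻¹ ∈ E)
    (hSf : ∀ s ∈ S, ∀ s' ∈ S, s ≠ s' → ∀ e ∈ E, s * e * s⁻¹ = s' * e * s'⁻¹ → e = 1) :
    2 * S.card ≤ finrank (AlgebraicClosure F) V := by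
  classical
  have hc := ker_central hρ hker
  have hcop := ker_coprime hρ hker hr hr2
  obtain ⟨A, hA, hAc, ⟨N, hN, hAN⟩, hlift, hnorm⟩ := exists_data (F := F) hπ hc hcop hr hrF hE hEr
  obtain ⟨e₀, he₀, he₀1⟩ : ∃ e₀ : T, e₀ ∈ E ∧ e₀ ≠ 1 := by
    obtain ⟨x, hx⟩ := Subgroup.ne_bot_iff_exists_ne_one.1 hE1
    exact ⟨x.1, x.2, fun h => hx (Subtype.ext h)⟩
  obtain ⟨c, hcA, hce⟩ := hlift e₀ he₀
  obtain ⟨σ, hσ⟩ := hπ.hasRightInverse
  have hσinj : Function.Injective σ := hσ.injective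
  have hck : ρ c ≠ 1 := by
    intro h1
    have h3 : c = 1 := hρ (h1.trans (map_one ρ).symm)
    rw [h3, map_one] at hce
    exact he₀1 hce.symm
  have htA : ∀ a ∈ A, t * a * t⁻¹ = a⁻¹ := by
    intro a ha
    obtain ⟨h1, k, hk⟩ := (hA a).1 ha
    refine lift_unique hc hcop (k := k) (l := k) ?_ ?_ ?_
    · rw [map_mul, map_mul, map_inv, map_inv, htE _ h1]
    · rw [conj_pow, hk]; group
    · rw [inv_pow, hk, inv_one]
  have hle := two_mul_card_le_of_even ρ hAc hN hAN hcA hck (S.image σ) (by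
    intro s hs a ha
    obtain ⟨t, ht, rfl⟩ := Finset.mem_image.1 hs
    exact hnorm (σ t) (by rw [hσ t]; exact hS t ht) a ha) (by
    intro s hs t ht hst
    obtain ⟨s', hs', rfl⟩ := Finset.mem_image.1 hs
    obtain ⟨t', ht', rfl⟩ := Finset.mem_image.1 ht
    obtain ⟨e, he, hee⟩ := diff_of_free hE he₀ (hS s' hs') (hS t' ht') (hSf s' hs' t' ht' (fun h => hst (by rw [h])))
    obtain ⟨a, ha, hae⟩ := hlift e he
    refine ⟨a, ha, ?_⟩
    have h1 : σ s' * a * (σ s')⁻¹ ∈ A := hnorm (σ s') (by rw [hσ s']; exact hS s' hs') a ha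
    have h2 : σ t' * a * (σ t')⁻¹ ∈ A := hnorm (σ t') (by rw [hσ t']; exact hS t' ht') a ha
    obtain ⟨-, k, hk⟩ := (hA _).1 (A.mul_mem h1 (A.inv_mem h2))
    obtain ⟨-, l, hl⟩ := (hA _).1 hcA
    refine lift_unique hc hcop ?_ hk hl
    simp only [map_mul, map_inv, hσ s', hσ t', hae, hce]
    exact hee)
    (fun χ hχ => even_wt_of_inv ρ hAc hN hAN B hnd hinv halt (two_ne h2) ht htA hχ)
  rwa [Finset.card_image_of_injective _ hσinj] at hle

end lift

/-- **Inversion parity**: the involution `t` inverting `E` is `i ^ 2 = j ^ 2 = [i, j]`. -/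
theorem PA.quat (h : PA F n T) (h2 : (2 : F) ≠ 0) {r : ℕ} (hr : r.Prime) (hr2 : r ≠ 2) (hrF : (r : F) ≠ 0)
    (E : Subgroup T) [Finite E]
    (hE : ∀ a ∈ E, ∀ b ∈ E, a * b = b * a) (hEr : IsPGroup r E) (hE1 : E ≠ ⊥) {i j t : T} (hi : i * i = t)
    (hj : j * j = t) (hij : i * j = t * (j * i))
    (htE : ∀ e ∈ E, t * e * t⁻¹ = e⁻¹) (S : Finset T) (hS : ∀ s ∈ S, ∀ e ∈ E, s * e * s⁻¹ ∈ E)
    (hSf : ∀ s ∈ S, ∀ s' ∈ S, s ≠ s' → ∀ e ∈ E, s * e * s⁻¹ = s' * e * s'⁻¹ → e = 1) : 2 * S.card ≤ n := by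
  obtain ⟨L, _, π, V, _, _, _, ρ, B, hπ, hρ, hker, hnd, hinv, halt, rfl⟩ := h
  have hc := ker_central hρ hker
  have hsq := @ker_sq _ _ _ _ _ _ π _ _ _ ρ hρ hker
  obtain ⟨a, rfl⟩ := hπ i
  obtain ⟨b, rfl⟩ := hπ j
  -- `t' = [a, b]`
  set t' : L := a * b * a⁻¹ * b⁻¹ with ht'
  have hπt : π t' = t := by
    rw [ht', map_mul, map_mul, map_mul, map_inv, map_inv, hij]
    group
  have e1 : a * b = t' * (b * a) := by rw [ht']; group
  have h3 : π (t' * (a * a)⁻¹) = 1 := by rw [map_mul, map_inv, hπt, map_mul, hi, mul_inv_cancel]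
  have h4 : π (t' * (b * b)⁻¹) = 1 := by rw [map_mul, map_inv, hπt, map_mul, hj, mul_inv_cancel]
  have ha : a * t' = t' * a := by
    have h5 := hc _ h3 a
    calc a * t' = a * (t' * (a * a)⁻¹) * (a * a) := by group
      _ = (t' * (a * a)⁻¹ * a) * (a * a) := by rw [h5]
      _ = t' * a := by group
  have hb : b * t' = t' * b := by
    have h5 := hc _ h4 b
    calc b * t' = b * (t' * (b * b)⁻¹) * (b * b) := by group
      _ = (t' * (b * b)⁻¹ * b) * (b * b) := by rw [h5]
      _ = t' * b := by group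
  have hbaa : b * (a * a) = (a * a) * b := by
    obtain ⟨w, hw⟩ : ∃ w, w = t' * (a * a)⁻¹ := ⟨_, rfl⟩
    have hwc : b * w⁻¹ = w⁻¹ * b := by
      have h5 : Commute w b := by rw [hw]; exact hc _ h3 b
      exact h5.symm.inv_right.eq
    have h6 : a * a = w⁻¹ * t' := by rw [hw]; simp
    rw [h6, ← mul_assoc, hwc, mul_assoc, hb, ← mul_assoc]
  have htt : t' * t' = 1 := by
    have h5 : a * a * b = t' * t' * (b * (a * a)) := by
      calc a * a * b = a * (a * b) := by group
        _ = a * (t' * (b * a)) := by rw [e1]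
        _ = (a * t') * (b * a) := by group
        _ = (t' * a) * (b * a) := by rw [ha]
        _ = t' * (a * b) * a := by group
        _ = t' * (t' * (b * a)) * a := by rw [e1]
        _ = t' * t' * (b * (a * a)) := by group
    rw [hbaa] at h5
    have h6 : 1 * (a * a * b) = t' * t' * (a * a * b) := by rw [one_mul]; exact h5
    exact (mul_right_cancel h6).symm
  exact inv_bound hπ hρ hker B hnd hinv halt h2 hr hr2 hrF E hE hEr hE1 htt (by rw [hπt]; exact htE) S hS hSf

/-- **Self-dual orbit bound.** -/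
theorem PD.free (h : PD F n T) {r : ℕ} (hr : r.Prime) (hr2 : r ≠ 2) (hrF : (r : F) ≠ 0)
    (E : Subgroup T) [Finite E]
    (hE : ∀ a ∈ E, ∀ b ∈ E, a * b = b * a) (hEr : IsPGroup r E) (hE1 : E ≠ ⊥)
    (S : Finset T) (hS : ∀ s ∈ S, ∀ e ∈ E, s * e * s⁻¹ ∈ E)
    (hSf : ∀ s ∈ S, ∀ s' ∈ S, s ≠ s' → ∀ e ∈ E, s * e * s⁻¹ = s' * e * s'⁻¹ → e = 1)
    (hSd : ∀ s ∈ S, ∀ s' ∈ S, ∀ e ∈ E, s * e * s⁻¹ = (s' * e * s'⁻¹)⁻¹ → e = 1) : 2 * S.card ≤ n := by
  classical
  obtain ⟨L, _, π, V, _, _, _, ρ, B, hπ, hρ, hker, hnd, hinv, rfl⟩ := h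
  have hc := ker_central hρ hker
  have hcop := ker_coprime hρ hker hr hr2
  obtain ⟨A, hA, hAc, ⟨N, hN, hAN⟩, hlift, hnorm⟩ := exists_data (F := F) hπ hc hcop hr hrF hE hEr
  obtain ⟨e₀, he₀, he₀1⟩ : ∃ e₀ : T, e₀ ∈ E ∧ e₀ ≠ 1 := by
    obtain ⟨x, hx⟩ := Subgroup.ne_bot_iff_exists_ne_one.1 hE1
    exact ⟨x.1, x.2, fun h => hx (Subtype.ext h)⟩
  obtain ⟨c, hcA, hce⟩ := hlift e₀ he₀
  obtain ⟨σ, hσ⟩ := hπ.hasRightInverse
  have hσinj : Function.Injective σ := hσ.injective
  have hck : ρ c ≠ 1 := by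
    intro h1
    have h3 : c = 1 := hρ (h1.trans (map_one ρ).symm)
    rw [h3, map_one] at hce
    exact he₀1 hce.symm
  have hle := two_mul_card_le_of_dual ρ hAc hN hAN B hnd hinv hcA hck (S.image σ) (by
    intro s hs a ha
    obtain ⟨t, ht, rfl⟩ := Finset.mem_image.1 hs
    exact hnorm (σ t) (by rw [hσ t]; exact hS t ht) a ha) (by
    intro s hs t ht hst
    obtain ⟨s', hs', rfl⟩ := Finset.mem_image.1 hs
    obtain ⟨t', ht', rfl⟩ := Finset.mem_image.1 ht
    obtain ⟨e, he, hee⟩ := diff_of_free hE he₀ (hS s' hs') (hS t' ht') (hSf s' hs' t' ht' (fun h => hst (by rw [h])))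
    obtain ⟨a, ha, hae⟩ := hlift e he
    refine ⟨a, ha, ?_⟩
    have h1 : σ s' * a * (σ s')⁻¹ ∈ A := hnorm (σ s') (by rw [hσ s']; exact hS s' hs') a ha
    have h2 : σ t' * a * (σ t')⁻¹ ∈ A := hnorm (σ t') (by rw [hσ t']; exact hS t' ht') a ha
    obtain ⟨-, k, hk⟩ := (hA _).1 (A.mul_mem h1 (A.inv_mem h2))
    obtain ⟨-, l, hl⟩ := (hA _).1 hcA
    refine lift_unique hc hcop ?_ hk hl
    simp only [map_mul, map_inv, hσ s', hσ t', hae, hce]
    exact hee) (by
    intro s hs t ht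
    obtain ⟨s', hs', rfl⟩ := Finset.mem_image.1 hs
    obtain ⟨t', ht', rfl⟩ := Finset.mem_image.1 ht
    obtain ⟨e, he, hee⟩ : ∃ e ∈ E, (s' * e * s'⁻¹) * (t' * e * t'⁻¹) = e₀ := by
      let f : E → E := fun e => ⟨(s' * e * s'⁻¹) * (t' * e * t'⁻¹), E.mul_mem (hS s' hs' e e.2) (hS t' ht' e e.2)⟩
      have hhom : ∀ x y : E, (f (x * y) : T) = f x * f y := by
        intro x y
        change s' * ((x : T) * y) * s'⁻¹ * (t' * ((x : T) * y) * t'⁻¹) =
          s' * (x : T) * s'⁻¹ * (t' * (x : T) * t'⁻¹) * (s' * (y : T) * s'⁻¹ * (t' * (y : T) * t'⁻¹))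
        have h5 := hE _ (hS s' hs' y y.2) _ (hS t' ht' x x.2)
        calc s' * ((x : T) * y) * s'⁻¹ * (t' * ((x : T) * y) * t'⁻¹)
            = s' * (x : T) * s'⁻¹ * ((s' * (y : T) * s'⁻¹) * (t' * (x : T) * t'⁻¹)) * (t' * (y : T) * t'⁻¹) := by group
          _ = s' * (x : T) * s'⁻¹ * ((t' * (x : T) * t'⁻¹) * (s' * (y : T) * s'⁻¹)) * (t' * (y : T) * t'⁻¹) := by rw [h5]
          _ = _ := by group
      have hinj : Function.Injective f := by
        intro x y hxy
        have h6 : (f (x * y⁻¹) : T) * f y = f x := by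
          rw [← hhom, inv_mul_cancel_right]
        have h7 : (f (x * y⁻¹) : T) = 1 := by
          rw [hxy] at h6
          exact mul_eq_right.1 h6
        have h8 : s' * ((x * y⁻¹ : E) : T) * s'⁻¹ * (t' * ((x * y⁻¹ : E) : T) * t'⁻¹) = 1 := h7
        have h9 := hSd s' hs' t' ht' _ (x * y⁻¹).2 (eq_inv_of_mul_eq_one_left h8)
        have h10 : x * y⁻¹ = 1 := Subtype.ext h9
        exact mul_inv_eq_one.1 h10
      obtain ⟨e, he⟩ := Finite.surjective_of_injective hinj ⟨e₀, he₀⟩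
      exact ⟨e, e.2, congrArg Subtype.val he⟩
    obtain ⟨a, ha, hae⟩ := hlift e he
    refine ⟨a, ha, ?_⟩
    have h1 : σ s' * a * (σ s')⁻¹ ∈ A := hnorm (σ s') (by rw [hσ s']; exact hS s' hs') a ha
    have h2 : σ t' * a * (σ t')⁻¹ ∈ A := hnorm (σ t') (by rw [hσ t']; exact hS t' ht') a ha
    obtain ⟨-, k, hk⟩ := (hA _).1 (A.mul_mem h1 h2)
    obtain ⟨-, l, hl⟩ := (hA _).1 hcA
    refine lift_unique hc hcop ?_ hk hl
    simp only [map_mul, map_inv, hσ s', hσ t', hae, hce]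
    exact hee)
  rwa [Finset.card_image_of_injective _ hσinj] at hle

/-- **Self-dual, prime order**: `x` of odd prime order `r`, `y x y⁻¹ = x ^ k`, the `± k ^ i`, `i < m`, distinct modulo `r`. -/
theorem PD.prime (h : PD F n T) {r : ℕ} (hr : r.Prime) (hr2 : r ≠ 2) (hrF : (r : F) ≠ 0) {x y : T} (hx : orderOf x = r)
    {k : ℕ} (hk : y * x * y⁻¹ = x ^ k) (m : ℕ) (hk1 : ∀ i < m, 0 < i → k ^ i % r ≠ 1 % r)
    (hk2 : ∀ i < m, ¬ r ∣ k ^ i + 1) : 2 * m ≤ n := by
  classical
  have hfx : IsOfFinOrder x := orderOf_pos_iff.1 (by rw [hx]; exact hr.pos)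
  have : Finite (Subgroup.zpowers x) := hfx.finite_zpowers
  have hx1 : x ≠ 1 := by
    rintro rfl
    rw [orderOf_one] at hx
    exact hr.one_lt.ne hx
  have : Fact r.Prime := ⟨hr⟩
  have hmem : ∀ e ∈ Subgroup.zpowers x, ∃ j : ℕ, x ^ j = e := fun e he => hfx.mem_powers_iff_mem_zpowers.2 he
  have hnorm : ∀ i : ℕ, ∀ j : ℕ, y ^ i * x ^ j * (y ^ i)⁻¹ = x ^ (j * k ^ i) := fun i j => pow_conj hk i j
  -- `r` does not divide `k`
  have hkr : 0 < m → 1 < m → ¬ r ∣ k := by
    intro _ _ hd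
    have h1 : x ^ k = 1 := by rw [← orderOf_dvd_iff_pow_eq_one, hx]; exact hd
    rw [h1] at hk
    have : y * x = y := by rwa [mul_inv_eq_one] at hk
    exact hx1 (mul_eq_left.1 this)
  have hcopk : ∀ i : ℕ, i < m → Nat.Coprime r (k ^ i) := by
    intro i hi
    rcases Nat.eq_zero_or_pos i with rfl | h0
    · simp
    · exact Nat.Coprime.pow_right i ((Nat.Prime.coprime_iff_not_dvd hr).2 (hkr (by omega) (by omega)))
  have hcj : ∀ j : ℕ, x ^ j ≠ 1 → Nat.Coprime r j := by
    intro j hj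
    refine (Nat.Prime.coprime_iff_not_dvd hr).2 fun hd => hj ?_
    rw [← orderOf_dvd_iff_pow_eq_one, hx]; exact hd
  have key : ∀ i j : ℕ, i < j → j < m → ∀ l : ℕ, x ^ (l * k ^ i) = x ^ (l * k ^ j) → x ^ l = 1 := by
    intro i j hij hj l hl
    by_contra hne
    have h1 : l * k ^ i ≡ l * k ^ j [MOD r] := by rw [← hx]; exact pow_eq_pow_iff_modEq.1 hl
    have h2 := Nat.ModEq.cancel_left_of_coprime (hcj l hne) h1
    have h3 : k ^ j = k ^ i * k ^ (j - i) := by rw [← pow_add]; congr 1; omega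
    have h4 : k ^ i * 1 ≡ k ^ i * k ^ (j - i) [MOD r] := by rw [mul_one, ← h3]; exact h2
    have h5 := Nat.ModEq.cancel_left_of_coprime (hcopk i (by omega)) h4
    exact hk1 (j - i) (by omega) (by omega) h5.symm
  have key2 : ∀ i j : ℕ, i ≤ j → j < m → ∀ l : ℕ, x ^ (l * k ^ i) * x ^ (l * k ^ j) = 1 → x ^ l = 1 := by
    intro i j hij hj l hl
    by_contra hne
    have h3 : k ^ j = k ^ i * k ^ (j - i) := by rw [← pow_add]; congr 1; omega
    have h1 : r ∣ l * (k ^ i * (k ^ (j - i) + 1)) := by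
      rw [← hx, orderOf_dvd_iff_pow_eq_one, ← hl, ← pow_add]
      congr 1
      rw [h3]; ring
    rcases (Nat.Prime.dvd_mul hr).1 h1 with h4 | h4
    · exact (Nat.Prime.coprime_iff_not_dvd hr).1 (hcj l hne) h4
    rcases (Nat.Prime.dvd_mul hr).1 h4 with h5 | h5
    · exact (Nat.Prime.coprime_iff_not_dvd hr).1 (hcopk i (by omega)) h5
    · exact hk2 (j - i) (by omega) h5
  have hinj : Set.InjOn (fun i : ℕ => y ^ i) (Finset.range m : Set ℕ) := by
    have aux : ∀ i j : ℕ, i < j → j < m → y ^ i ≠ y ^ j := by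
      intro i j hij hj h
      have h1 := hnorm i 1
      have h2 := hnorm j 1
      rw [h, h2] at h1
      have := key i j hij hj 1 h1.symm
      rw [pow_one] at this
      exact hx1 this
    intro i hi j hj hij
    simp only [Finset.coe_range, Set.mem_Iio] at hi hj
    rcases lt_trichotomy i j with h1 | h1 | h1
    · exact absurd hij (aux i j h1 hj)
    · exact h1
    · exact absurd hij.symm (aux j i h1 hi)
  have := h.free hr hr2 hrF (Subgroup.zpowers x) (by
    rintro _ ⟨i, rfl⟩ _ ⟨j, rfl⟩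
    simp only
    rw [← _root_.zpow_add, ← _root_.zpow_add, add_comm]) (IsPGroup.of_card (n := 1) (by rw [Nat.card_zpowers, hx, pow_one])) (by
    intro h0
    rw [Subgroup.zpowers_eq_bot] at h0
    exact hx1 h0) ((Finset.range m).image (fun i => y ^ i)) (by
    intro s hs e he
    obtain ⟨i, -, rfl⟩ := Finset.mem_image.1 hs
    obtain ⟨j, rfl⟩ := hmem e he
    rw [hnorm]
    exact Subgroup.pow_mem _ (Subgroup.mem_zpowers x) _) (by
    intro s hs s' hs' hne e he h1
    obtain ⟨i, hi, rfl⟩ := Finset.mem_image.1 hs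
    obtain ⟨j, hj, rfl⟩ := Finset.mem_image.1 hs'
    obtain ⟨l, rfl⟩ := hmem e he
    rw [hnorm, hnorm] at h1
    rw [Finset.mem_range] at hi hj
    rcases lt_trichotomy i j with h3 | h3 | h3
    · exact key i j h3 hj l h1
    · exact absurd (by rw [h3]) hne
    · exact key j i h3 hi l h1.symm) (by
    intro s hs s' hs' e he h1
    obtain ⟨i, hi, rfl⟩ := Finset.mem_image.1 hs
    obtain ⟨j, hj, rfl⟩ := Finset.mem_image.1 hs'
    obtain ⟨l, rfl⟩ := hmem e he
    rw [hnorm, hnorm] at h1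
    rw [Finset.mem_range] at hi hj
    have h4 : x ^ (l * k ^ i) * x ^ (l * k ^ j) = 1 := by rw [h1, inv_mul_cancel]
    rcases le_total i j with h3 | h3
    · exact key2 i j h3 hj l h4
    · refine key2 j i h3 hi l ?_
      rw [← pow_add, add_comm, pow_add]
      exact h4)
  rwa [Finset.card_image_of_injOn hinj, Finset.card_range] at this

/-! ### construction -/

section construct

variable {ι : Type} [Fintype ι] [DecidableEq ι] {P : Subgroup (GL ι F)}

/-- the Gram matrix -/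
def gram (f : (ι → F) → (ι → F) → F) : Matrix ι ι F := Matrix.of fun i j => f (Pi.single i 1) (Pi.single j 1)

theorem gram_apply {f : (ι → F) → (ι → F) → F} (hf : IsBilinearForm f) (u v : ι → F) :
    f u v = u ⬝ᵥ (gram f *ᵥ v) := by
  have hz : ∀ v, f 0 v = 0 := fun v => by
    have := hf.smul_left 0 0 v
    rwa [zero_smul, zero_mul] at this
  have hz' : ∀ v, f v 0 = 0 := fun v => by
    have := hf.smul_right 0 v 0
    rwa [zero_smul, zero_mul] at this
  have h1 : ∀ (s : Finset ι) (v : ι → F), f (∑ i ∈ s, u i • Pi.single i 1) v = ∑ i ∈ s, u i * f (Pi.single i 1) v := by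
    intro s v
    induction s using Finset.induction_on with
    | empty => simp [hz]
    | insert a s ha ih => rw [Finset.sum_insert ha, Finset.sum_insert ha, hf.add_left, hf.smul_left, ih]
  have h2 : ∀ (w : ι → F) (s : Finset ι), f w (∑ j ∈ s, v j • Pi.single j 1) = ∑ j ∈ s, v j * f w (Pi.single j 1) := by
    intro w s
    induction s using Finset.induction_on with
    | empty => simp [hz']
    | insert a s ha ih => rw [Finset.sum_insert ha, Finset.sum_insert ha, hf.add_right, hf.smul_right, ih]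
  have hu : ∀ u : ι → F, u = ∑ i, u i • Pi.single i (1 : F) := fun u => by
    ext j; simp [Finset.sum_apply, Pi.single_apply]
  conv_lhs => rw [hu u, hu v]
  rw [h1]
  unfold dotProduct
  refine Finset.sum_congr rfl fun i _ => ?_
  rw [h2]
  congr 1
  unfold mulVec dotProduct gram
  refine Finset.sum_congr rfl fun j _ => ?_
  simp only [of_apply]
  ring

theorem gram_isUnit {f : (ι → F) → (ι → F) → F} (hf : IsBilinearForm f) (hn : IsNondegenerateForm f) :
    (gram f).det ≠ 0 := by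
  intro h0
  obtain ⟨v, hv0, hv⟩ := Matrix.exists_mulVec_eq_zero_iff.2 h0
  obtain ⟨⟨x, hx⟩, -⟩ := hn v hv0
  apply hx
  rw [gram_apply hf, hv, dotProduct_zero]

theorem gram_fix {f : (ι → F) → (ι → F) → F} (hf : IsBilinearForm f) (hfix : FixesForm (matrixSet P) f) {g : GL ι F}
    (hg : g ∈ P) : (g : Matrix ι ι F)ᵀ * gram f * (g : Matrix ι ι F) = gram f := by
  ext i j
  have h1 := hfix _ ⟨g, hg, rfl⟩ (Pi.single i 1) (Pi.single j 1)
  rw [gram_apply hf, gram_apply hf] at h1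
  have h2 : ∀ M : Matrix ι ι F, Pi.single i (1 : F) ⬝ᵥ (M *ᵥ Pi.single j 1) = M i j := by
    intro M
    simp
  rw [h2] at h1
  rw [← h1, ← h2 ((g : Matrix ι ι F)ᵀ * gram f * (g : Matrix ι ι F))]
  rw [← Matrix.mulVec_mulVec, ← Matrix.mulVec_mulVec, Matrix.dotProduct_mulVec, Matrix.vecMul_transpose]

/-- the representation of `P` over the algebraic closure -/
noncomputable def repP (P : Subgroup (GL ι F)) : P →* Module.End (AlgebraicClosure F) (ι → AlgebraicClosure F) :=
  ((Matrix.toLinAlgEquiv' : Matrix ι ι (AlgebraicClosure F) ≃ₐ[AlgebraicClosure F] _) :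
    Matrix ι ι (AlgebraicClosure F) →* _).comp
    ((Units.coeHom _).comp ((Matrix.GeneralLinearGroup.map (algebraMap F (AlgebraicClosure F))).comp P.subtype))

theorem repP_apply (g : P) (v : ι → AlgebraicClosure F) :
    repP P g v = ((g : GL ι F) : Matrix ι ι F).map (algebraMap F (AlgebraicClosure F)) *ᵥ v := rfl

theorem repP_injective (P : Subgroup (GL ι F)) : Function.Injective (repP P) := by
  intro g h hgh
  have h1 : ((g : GL ι F) : Matrix ι ι F).map (algebraMap F (AlgebraicClosure F)) =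
      ((h : GL ι F) : Matrix ι ι F).map (algebraMap F (AlgebraicClosure F)) := by
    apply (Matrix.toLinAlgEquiv' : Matrix ι ι (AlgebraicClosure F) ≃ₐ[AlgebraicClosure F] _).injective
    exact hgh
  apply Subtype.ext
  apply Units.ext
  ext i j
  exact (algebraMap F (AlgebraicClosure F)).injective (congrFun (congrFun h1 i) j)

theorem exists_form {f : (ι → F) → (ι → F) → F} (hf : IsBilinearForm f) (hn : IsNondegenerateForm f)
    (hfix : FixesForm (matrixSet P) f) :
    ∃ B : LinearMap.BilinForm (AlgebraicClosure F) (ι → AlgebraicClosure F),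
      (∀ u, (∀ v, B u v = 0) → u = 0) ∧ (∀ g u v, B (repP P g u) (repP P g v) = B u v) ∧
      (∀ u v, B u v = u ⬝ᵥ ((gram f).map (algebraMap F (AlgebraicClosure F)) *ᵥ v)) := by
  set J := (gram f).map (algebraMap F (AlgebraicClosure F)) with hJ
  have hB : ∀ u v, Matrix.toBilin' J u v = u ⬝ᵥ (J *ᵥ v) := fun u v => Matrix.toBilin'_apply' J u v
  refine ⟨Matrix.toBilin' J, ?_, ?_, hB⟩
  · intro u hu
    have hdet : J.det ≠ 0 := by
      have h1 : J.det = algebraMap F (AlgebraicClosure F) (gram f).det := by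
        rw [RingHom.map_det]; rfl
      rw [h1]
      exact (map_ne_zero _).2 (gram_isUnit hf hn)
    have h1 : u ᵥ* J = 0 := by
      apply dotProduct_eq_zero_iff.1
      intro v
      rw [← Matrix.dotProduct_mulVec, ← hB]
      exact hu v
    by_contra h0
    exact hdet (Matrix.exists_vecMul_eq_zero_iff.1 ⟨u, h0, h1⟩)
  · intro g u v
    rw [hB, hB, repP_apply, repP_apply]
    set M := ((g : GL ι F) : Matrix ι ι F).map (algebraMap F (AlgebraicClosure F)) with hM
    have h1 : Mᵀ * J * M = J := by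
      have := congrArg (fun X : Matrix ι ι F => X.map (algebraMap F (AlgebraicClosure F))) (gram_fix hf hfix g.2)
      simpa only [Matrix.map_mul, Matrix.transpose_map] using this
    conv_rhs => rw [← h1]
    rw [← Matrix.mulVec_mulVec, ← Matrix.mulVec_mulVec, Matrix.dotProduct_mulVec u, Matrix.vecMul_transpose]

/-- scalars fixing a form -/
theorem scalar_of_fix {f : (ι → F) → (ι → F) → F} (hf : IsBilinearForm f) (hn : IsNondegenerateForm f)
    (hfix : FixesForm (matrixSet P) f) [Nonempty ι] {g : P} (hg : (g : GL ι F) ∈ scalars ι F) :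
    repP P g = 1 ∨ repP P g = -1 := by
  rw [mem_scalars_iff] at hg
  obtain ⟨c, hc⟩ := hg
  have hne : (Pi.single (Classical.arbitrary ι) (1 : F) : ι → F) ≠ 0 := by
    intro h
    have := congrFun h (Classical.arbitrary ι)
    simp at this
  obtain ⟨⟨x, hx⟩, -⟩ := hn _ hne
  have h1 := hfix ((g : GL ι F) : Matrix ι ι F) ⟨g, g.2, rfl⟩ x (Pi.single (Classical.arbitrary ι) 1)
  rw [hc, Matrix.smul_mulVec, Matrix.one_mulVec, Matrix.smul_mulVec, Matrix.one_mulVec,
    hf.smul_left, hf.smul_right] at h1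
  have h2 : ((c : F) - 1) * ((c : F) + 1) = 0 := by
    have h3 : (((c : F) - 1) * ((c : F) + 1)) * f x (Pi.single (Classical.arbitrary ι) 1) = 0 := by
      linear_combination h1
    exact (mul_eq_zero.1 h3).resolve_right hx
  have h3 : (c : F) = 1 ∨ (c : F) = -1 := by
    rcases mul_eq_zero.1 h2 with h | h
    · exact Or.inl (sub_eq_zero.1 h)
    · exact Or.inr (eq_neg_of_add_eq_zero_left h)
  have h4 : ((1 : Matrix ι ι F)).map (algebraMap F (AlgebraicClosure F)) = 1 :=
    Matrix.map_one _ (map_zero _) (map_one _)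
  rcases h3 with h | h
  · left
    apply LinearMap.ext
    intro v
    rw [repP_apply, hc, h, one_smul, h4, Matrix.one_mulVec]
    rfl
  · right
    apply LinearMap.ext
    intro v
    have h5 : ((-1 : F) • (1 : Matrix ι ι F)).map (algebraMap F (AlgebraicClosure F)) = -1 := by
      ext i j
      rw [Matrix.map_apply, Matrix.smul_apply, smul_eq_mul, neg_one_mul, map_neg, Matrix.neg_apply, ← h4, Matrix.map_apply]
    rw [repP_apply, hc, h, h5, Matrix.neg_mulVec, Matrix.one_mulVec]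
    rfl

open Cfsg.Agent.H915.LD in
theorem pa_of_fixA [Nonempty ι] (hA : FixA P) (h2 : (2 : F) ≠ 0) (e : Soc P ≃* T) : PA F (Fintype.card ι) T := by
  obtain ⟨f, hf, hfix⟩ := hA
  obtain ⟨B, h1, h3, h4⟩ := exists_form hf.bilinear hf.nondegenerate hfix
  refine ⟨P, inferInstance, e.toMonoidHom.comp (toSoc P), ι → AlgebraicClosure F, inferInstance, inferInstance,
    inferInstance, repP P, B, e.surjective.comp (toSoc_surjective P), repP_injective P, ?_, h1, h3, ?_, ?_⟩
  · intro x hx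
    have h5 : x ∈ (scalars ι F).subgroupOf P := by
      rw [← ker_comp e]; exact hx
    exact scalar_of_fix hf.bilinear hf.nondegenerate hfix (Subgroup.mem_subgroupOf.1 h5)
  · have hskew : (gram f)ᵀ = - gram f := by
      ext i j
      exact hf.skew _ _
    intro u
    have h5 : B u u = - B u u := by
      conv_lhs => rw [h4, Matrix.dotProduct_mulVec, ← Matrix.mulVec_transpose, dotProduct_comm]
      rw [h4, ← Matrix.transpose_map, hskew]
      have h6 : (-gram f).map (algebraMap F (AlgebraicClosure F)) = - (gram f).map (algebraMap F (AlgebraicClosure F)) := by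
        ext i j
        simp
      rw [h6, Matrix.neg_mulVec, dotProduct_neg]
    have h6 : (2 : AlgebraicClosure F) * B u u = 0 := by linear_combination h5
    exact (mul_eq_zero.1 h6).resolve_left (two_ne h2)
  · rw [Module.finrank_fintype_fun_eq_card]

open Cfsg.Agent.H915.LD in
theorem pd_of_form [Nonempty ι] {f : (ι → F) → (ι → F) → F} (hf : IsBilinearForm f) (hn : IsNondegenerateForm f)
    (hfix : FixesForm (matrixSet P) f) (e : Soc P ≃* T) : PD F (Fintype.card ι) T := by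
  obtain ⟨B, h1, h3, h4⟩ := exists_form hf hn hfix
  refine ⟨P, inferInstance, e.toMonoidHom.comp (toSoc P), ι → AlgebraicClosure F, inferInstance, inferInstance,
    inferInstance, repP P, B, e.surjective.comp (toSoc_surjective P), repP_injective P, ?_, h1, h3, ?_⟩
  · intro x hx
    have h5 : x ∈ (scalars ι F).subgroupOf P := by
      rw [← ker_comp e]; exact hx
    exact scalar_of_fix hf hn hfix (Subgroup.mem_subgroupOf.1 h5)
  · rw [Module.finrank_fintype_fun_eq_card]

open Cfsg.Agent.H915.LD in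
theorem pd_of_sd (hC : Core P) (h : SD P) (e : Soc P ≃* T) : PD F (Fintype.card ι) T := by
  have hne := hC.nonempty
  obtain ⟨f, hf, hn, hfix, -⟩ := H906.exists_bilinear_of_trace hC.absIrred h
  exact pd_of_form hf hn hfix e

end construct

end Cfsg.Agent.H871.Par
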