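import Cfsg.Agent.H871.Par7
import Cfsg.Agent.H921.SporJ1
import Cfsg.Agent.LieRecognition.SzMatrix

/-!
# `2^3:7` in `J1` and `Sz(8)`
-/

set_option autoImplicit false

universe u v w

namespace Cfsg.Agent.H871.Par

theorem frob8_of_mk {T : Type v} [Group T] {a b c y : T} (h1 : a * a = 1) (h2 : a ≠ 1) (h3 : a * b = b * a)
    (h4 : y * a = b * y) (h5 : y * b = c * y) (h6 : y * c = a * b * y) : Frob8 T :=
  ⟨a, b, c, y, h1, h2, h3, mul_inv_eq_iff_eq_mul.2 h4, mul_inv_eq_iff_eq_mul.2 h5, mul_inv_eq_iff_eq_mul.2 h6⟩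

open Cfsg Cfsg.Spor Cfsg.Agent.SporadicB.J1.Mat Cfsg.Agent.SporadicB.J1.Data Cfsg.Agent.SporadicB.J1.Main in
theorem frob8_J1 : Frob8 Spor.J1 :=
  frob8_of_mk (a := ev [1, 0, 3, 0]) (b := ev [0, 1, 0, 3, 0, 2]) (c := ev [0, 0, 1, 0, 3, 0, 2, 2]) (y := ev [0])
    (((rep_ev _).mul (rep_ev _)).eq Rep.one (by decide +kernel))
    ((rep_ev _).ne Rep.one (by decide +kernel))
    (((rep_ev _).mul (rep_ev _)).eq ((rep_ev _).mul (rep_ev _)) (by decide +kernel))
    (((rep_ev _).mul (rep_ev _)).eq ((rep_ev _).mul (rep_ev _)) (by decide +kernel))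
    (((rep_ev _).mul (rep_ev _)).eq ((rep_ev _).mul (rep_ev _)) (by decide +kernel))
    (((rep_ev _).mul (rep_ev _)).eq (((rep_ev _).mul (rep_ev _)).mul (rep_ev _)) (by decide +kernel))

/-- an element with `m ^ 3 = m + 1` in the field with 8 elements -/
theorem exists_cube {K : Type w} [Field K] [Fintype K] (hK : Fintype.card K = 8) :
    CharP K 2 ∧ ∃ m : K, m ^ 3 = m + 1 := by
  have hchar : CharP K 2 := by
    obtain ⟨p, hp⟩ := CharP.exists K
    have : Fact p.Prime := ⟨CharP.char_is_prime K p⟩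
    have h1 : p ∣ Fintype.card K := by
      obtain ⟨n, -, hn⟩ := FiniteField.card K p
      rw [hn]; exact dvd_pow_self _ n.pos.ne'
    rw [hK] at h1
    have h2 : p ∣ 2 := this.out.dvd_of_dvd_pow (show p ∣ 2 ^ 3 from h1)
    rw [(Nat.prime_dvd_prime_iff_eq this.out Nat.prime_two).1 h2] at hp
    exact hp
  refine ⟨hchar, ?_⟩
  have h20 : (2 : K) = 0 := by exact_mod_cast CharP.cast_eq_zero K 2
  have hpow : ∀ x : K, x ^ 8 = x := by
    intro x
    rw [← hK]; exact FiniteField.pow_card x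
  have hex : ∃ x : K, x ≠ 0 ∧ x ≠ 1 := by
    classical
    by_contra hcon
    push Not at hcon
    have h1 : (Finset.univ : Finset K) ⊆ {0, 1} := by
      intro x _
      rw [Finset.mem_insert, Finset.mem_singleton]
      by_cases h0 : x = 0
      · exact Or.inl h0
      · exact Or.inr (hcon x h0)
    have h2 := Finset.card_le_card h1
    rw [Finset.card_univ, hK] at h2
    have h3 : ({0, 1} : Finset K).card ≤ 2 := Finset.card_le_two
    omega
  obtain ⟨x, hx0, hx1⟩ := hex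
  have h1 : x * (x - 1) * ((x ^ 3 + x + 1) * (x ^ 3 + x ^ 2 + 1)) = 0 := by
    linear_combination hpow x + (x ^ 5 - x ^ 4) * h20
  have h2 : (x ^ 3 + x + 1) * (x ^ 3 + x ^ 2 + 1) = 0 :=
    (mul_eq_zero.1 h1).resolve_left (mul_ne_zero hx0 (sub_ne_zero.2 hx1))
  rcases mul_eq_zero.1 h2 with h3 | h3
  · exact ⟨x, by linear_combination h3 - (x + 1) * h20⟩
  · refine ⟨x⁻¹, ?_⟩
    field_simp
    linear_combination h3 - (x ^ 2 + x ^ 3) * h20

open Cfsg.Agent.LieRecognition.SzMatrix in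
theorem frob8_of_good {K : Type w} [Field K] [Finite K] [CharP K 2] {θ : K →+* K} {e : ℕ} (H : Good K θ e) {mu : K}
    (hmu : mu ^ 3 = mu + 1) : Frob8 ↥(Cfsg.Lie.Sz K e) := by
  have h20 : (2 : K) = 0 := by exact_mod_cast CharP.cast_eq_zero K 2
  obtain ⟨κ, hκ⟩ := (Finite.injective_iff_surjective.1 (RingHom.injective θ)) mu
  have hmu0 : mu ≠ 0 := by
    rintro rfl
    norm_num at hmu
  have hκ0 : κ ≠ 0 := by
    rintro rfl
    rw [map_zero] at hκ
    exact hmu0 hκ.symm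
  have hd : ∀ b : K, H.d (Units.mk0 κ hκ0) * H.u 0 b = H.u 0 (b * mu) * H.d (Units.mk0 κ hκ0) := by
    intro b
    rw [H.d_mul_u, Units.val_mk0, hκ, zero_mul, zero_mul]
  have hm : ∀ b c : K, H.u 0 b * H.u 0 c = H.u 0 (b + c) := by
    intro b c
    rw [H.u_mul, add_zero, zero_mul, add_zero]
  refine frob8_of_mk (a := H.u 0 1) (b := H.u 0 mu) (c := H.u 0 (mu * mu)) (y := H.d (Units.mk0 κ hκ0)) ?_ ?_ ?_ ?_ ?_ ?_
  · rw [hm, ← H.u_zero]
    congr 1
    linear_combination h20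
  · intro h
    rw [← H.u_zero] at h
    exact one_ne_zero (H.u_inj h).2
  · rw [hm, hm, add_comm]
  · rw [hd, one_mul]
  · rw [hd]
  · rw [hd, hm]
    congr 2
    linear_combination hmu

open Cfsg.Agent.LieRecognition.SzMatrix in
theorem frob8_sz {K : Type w} [Field K] [Fintype K] (hK : Fintype.card K = 8) : Frob8 ↥(Cfsg.Lie.Sz K (2 ^ 2)) := by
  obtain ⟨hc, mu, hmu⟩ := exists_cube hK
  exact frob8_of_good (good (F := K) (m := 1) (by rw [hK]; norm_num)) hmu

end Cfsg.Agent.H871.Par
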