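import Cfsg.Agent.H871.Par5

/-!
# `2^3:7` and `3^2:Q8` in classical groups

* `frob8_psl2` (`|K| = 8`), `frob8_psl4`, `frob8_psp`, `frob8_plus`, `frob8_odd`, `frob8_minus` (characteristic 2),
* `quat9_psl3` (characteristic 3).
-/

set_option autoImplicit false

universe u v w

namespace Cfsg.Agent.H871.Par

open Matrix

section two

variable {K : Type w} [Field K]

/-- `[1, t; 0, 1]` -/
def ut (t : K) : SpecialLinearGroup (Fin 2) K := ⟨!![1, t; 0, 1], by simp [Matrix.det_fin_two]⟩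

theorem ut_mul (s t : K) : ut s * ut t = ut (s + t) := by
  apply Subtype.ext
  change !![1, s; 0, 1] * !![1, t; 0, 1] = !![1, s + t; 0, 1]
  ext i j
  fin_cases i <;> fin_cases j <;> simp [Matrix.mul_apply, Fin.sum_univ_two, add_comm]

theorem ut_inj {s t : K} (h : ut s = ut t) : s = t := by
  have := congrArg (fun g : SpecialLinearGroup (Fin 2) K => g.1 0 1) h
  simpa [ut] using this

/-- `diag (l, l⁻¹)` -/
def dg (l : K) (hl : l ≠ 0) : SpecialLinearGroup (Fin 2) K := ⟨!![l, 0; 0, l⁻¹], by simp [Matrix.det_fin_two, hl]⟩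

theorem dg_ut {l : K} (hl : l ≠ 0) (t : K) : dg l hl * ut t * (dg l hl)⁻¹ = ut (l * l * t) := by
  rw [mul_inv_eq_iff_eq_mul]
  apply Subtype.ext
  change !![l, 0; 0, l⁻¹] * !![1, t; 0, 1] = !![1, l * l * t; 0, 1] * !![l, 0; 0, l⁻¹]
  ext i j
  fin_cases i <;> fin_cases j <;> simp [Matrix.mul_apply, Fin.sum_univ_two, hl]
  field_simp

theorem frob8_psl2 [Fintype K] (hK : Fintype.card K = 8) : Frob8 (ProjectiveSpecialLinearGroup (Fin 2) K) := by
  have hchar : CharP K 2 := by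
    obtain ⟨p, hp⟩ := CharP.exists K
    have : Fact p.Prime := ⟨CharP.char_is_prime K p⟩
    have h1 : p ∣ Fintype.card K := by
      obtain ⟨n, -, hn⟩ := FiniteField.card K p
      rw [hn]; exact dvd_pow_self _ n.pos.ne'
    rw [hK] at h1
    have h2 : p ∣ 2 := this.out.dvd_of_dvd_pow (show p ∣ 2 ^ 3 from h1)
    rw [(Nat.prime_dvd_prime_iff_eq this.out Nat.prime_two).1 h2] at hp
    exact hp
  have h20 : (2 : K) = 0 := by exact_mod_cast CharP.cast_eq_zero K 2
  have hpow : ∀ x : K, x ^ 8 = x := by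
    intro x
    rw [← hK]; exact FiniteField.pow_card x
  -- an element different from 0 and 1
  have hex : ∃ x : K, x ≠ 0 ∧ x ≠ 1 := by
    classical
    by_contra hcon
    push Not at hcon
    have h1 : (Finset.univ : Finset K) ⊆ {0, 1} := by
      intro x _
      rw [Finset.mem_insert, Finset.mem_singleton]
      by_cases h0 : x = 0
      · exact Or.inl h0
      · exact Or.inr (hcon x h0)
    have h2 := Finset.card_le_card h1
    rw [Finset.card_univ, hK] at h2
    have h3 : ({0, 1} : Finset K).card ≤ 2 := Finset.card_le_two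
    omega
  have hmu : ∃ m : K, m ^ 3 = m + 1 := by
    obtain ⟨x, hx0, hx1⟩ := hex
    have h1 : x * (x - 1) * ((x ^ 3 + x + 1) * (x ^ 3 + x ^ 2 + 1)) = 0 := by
      linear_combination hpow x + (x ^ 5 - x ^ 4) * h20
    have h2 : (x ^ 3 + x + 1) * (x ^ 3 + x ^ 2 + 1) = 0 :=
      (mul_eq_zero.1 h1).resolve_left (mul_ne_zero hx0 (sub_ne_zero.2 hx1))
    rcases mul_eq_zero.1 h2 with h3 | h3
    · exact ⟨x, by linear_combination h3 - (x + 1) * h20⟩
    · refine ⟨x⁻¹, ?_⟩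
      field_simp
      linear_combination h3 - (x ^ 2 + x ^ 3) * h20
  obtain ⟨m, hm⟩ := hmu
  have hm0 : m ≠ 0 := by
    rintro rfl
    norm_num at hm
  have hl : (m ^ 4) * (m ^ 4) = m := by rw [← pow_add]; exact hpow m
  have hl0 : m ^ 4 ≠ 0 := pow_ne_zero _ hm0
  have h1 : Frob8 (SpecialLinearGroup (Fin 2) K) := by
    refine ⟨ut 1, ut m, ut (m * m), dg (m ^ 4) hl0, ?_, ?_, ?_, ?_, ?_, ?_⟩
    · rw [ut_mul]
      have : (1 : K) + 1 = 0 := by linear_combination h20
      rw [this]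
      apply Subtype.ext
      change !![(1 : K), 0; 0, 1] = 1
      exact Matrix.one_fin_two.symm
    · intro h
      have h2 : ut (1 : K) = ut 0 := by
        rw [h]
        apply Subtype.ext
        change (1 : Matrix (Fin 2) (Fin 2) K) = !![(1 : K), 0; 0, 1]
        exact Matrix.one_fin_two
      exact one_ne_zero (ut_inj h2)
    · rw [ut_mul, ut_mul, add_comm]
    · rw [dg_ut, hl, mul_one]
    · rw [dg_ut, hl]
    · rw [dg_ut, hl, ut_mul]
      congr 1
      linear_combination hm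
  exact h1.quot

/-! ### groups of matrices over the prime field -/

theorem SL_map_injective {n : ℕ} {p : ℕ} [hp : Fact p.Prime] [CharP K p] :
    Function.Injective (SpecialLinearGroup.map (n := Fin n) (ZMod.castHom (dvd_refl p) K)) := by
  intro A B h
  apply Subtype.ext
  ext i j
  apply (ZMod.castHom (dvd_refl p) K).injective
  exact congrFun (congrFun (congrArg Subtype.val h) i) j

theorem frob8_sl_of {n : ℕ} {R : Type w} [CommRing R] (a b c y : Matrix (Fin n) (Fin n) R) (ha : a.det = 1)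
    (hb : b.det = 1) (hc : c.det = 1) (hy : y.det = 1) (h1 : a * a = 1) (h2 : a ≠ 1) (h3 : a * b = b * a)
    (h4 : y * a = b * y) (h5 : y * b = c * y) (h6 : y * c = a * b * y) : Frob8 (SpecialLinearGroup (Fin n) R) := by
  let a' : SpecialLinearGroup (Fin n) R := ⟨a, ha⟩
  let b' : SpecialLinearGroup (Fin n) R := ⟨b, hb⟩
  let c' : SpecialLinearGroup (Fin n) R := ⟨c, hc⟩
  let y' : SpecialLinearGroup (Fin n) R := ⟨y, hy⟩
  have e4 : y' * a' = b' * y' := Subtype.ext h4
  have e5 : y' * b' = c' * y' := Subtype.ext h5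
  have e6 : y' * c' = a' * b' * y' := Subtype.ext h6
  exact ⟨a', b', c', y', Subtype.ext h1, fun h => h2 (congrArg Subtype.val h), Subtype.ext h3,
    mul_inv_eq_iff_eq_mul.2 e4, mul_inv_eq_iff_eq_mul.2 e5, mul_inv_eq_iff_eq_mul.2 e6⟩

theorem quat9_sl_of {n : ℕ} {R : Type w} [CommRing R] (u v i j : Matrix (Fin n) (Fin n) R) (hu : u.det = 1)
    (hv : v.det = 1) (hi : i.det = 1) (hj : j.det = 1) (h1 : u * u * u = 1) (h2 : u ≠ 1) (h3 : u * v = v * u)
    (h4 : i * u = v * i) (h5 : u * (i * v) = i) (h6 : j * u = u * v * j) (h7 : j * v = u * v * v * j)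
    (hv3 : v * v * v = 1) (h8 : i * i = j * j) (h9 : i * j = i * i * (j * i)) : Quat9 (SpecialLinearGroup (Fin n) R) := by
  let u' : SpecialLinearGroup (Fin n) R := ⟨u, hu⟩
  let v' : SpecialLinearGroup (Fin n) R := ⟨v, hv⟩
  let i' : SpecialLinearGroup (Fin n) R := ⟨i, hi⟩
  let j' : SpecialLinearGroup (Fin n) R := ⟨j, hj⟩
  have e4 : i' * u' = v' * i' := Subtype.ext h4
  have e5 : u' * (i' * v') = i' := Subtype.ext h5
  have e6 : j' * u' = u' * v' * j' := Subtype.ext h6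
  have e7 : j' * v' = u' * v' * v' * j' := Subtype.ext h7
  have e8 : v' * v' = v'⁻¹ := by
    have : v' * v' * v' = 1 := Subtype.ext hv3
    exact eq_inv_of_mul_eq_one_left this
  refine ⟨u', v', i', j', ?_, fun h => h2 (congrArg Subtype.val h), Subtype.ext h3,
    mul_inv_eq_iff_eq_mul.2 e4, ?_, mul_inv_eq_iff_eq_mul.2 e6, ?_, Subtype.ext h8, Subtype.ext h9⟩
  · rw [pow_succ, pow_two]
    exact Subtype.ext h1
  · rw [mul_inv_eq_iff_eq_mul, eq_inv_mul_iff_mul_eq]; exact e5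
  · rw [mul_inv_eq_iff_eq_mul, ← e8, e7, mul_assoc u' v' v']

theorem frob8_sl4 : Frob8 (SpecialLinearGroup (Fin 4) (ZMod 2)) :=
  frob8_sl_of !![1, 0, 0, 1; 0, 1, 0, 0; 0, 0, 1, 0; 0, 0, 0, 1] !![1, 0, 0, 0; 0, 1, 0, 1; 0, 0, 1, 0; 0, 0, 0, 1]
    !![1, 0, 0, 0; 0, 1, 0, 0; 0, 0, 1, 1; 0, 0, 0, 1] !![0, 0, 1, 0; 1, 0, 1, 0; 0, 1, 0, 0; 0, 0, 0, 1]
    (by decide +kernel) (by decide +kernel) (by decide +kernel) (by decide +kernel) (by decide +kernel)
    (by decide +kernel) (by decide +kernel) (by decide +kernel) (by decide +kernel) (by decide +kernel)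

theorem frob8_psl4 [CharP K 2] : Frob8 (ProjectiveSpecialLinearGroup (Fin 4) K) :=
  (frob8_sl4.of_inj _ (SL_map_injective (K := K) (p := 2))).quot

theorem quat9_sl3 : Quat9 (SpecialLinearGroup (Fin 3) (ZMod 3)) :=
  quat9_sl_of !![1, 0, 1; 0, 1, 0; 0, 0, 1] !![1, 0, 0; 0, 1, 1; 0, 0, 1] !![0, -1, 0; 1, 0, 0; 0, 0, 1]
    !![1, 1, 0; 1, -1, 0; 0, 0, 1]
    (by decide +kernel) (by decide +kernel) (by decide +kernel) (by decide +kernel) (by decide +kernel)
    (by decide +kernel) (by decide +kernel) (by decide +kernel) (by decide +kernel) (by decide +kernel)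
    (by decide +kernel) (by decide +kernel) (by decide +kernel) (by decide +kernel)

theorem quat9_psl3 [CharP K 3] : Quat9 (ProjectiveSpecialLinearGroup (Fin 3) K) :=
  haveI : Fact (Nat.Prime 3) := ⟨by norm_num⟩
  (quat9_sl3.of_inj _ (SL_map_injective (K := K) (p := 3))).quot

/-! ### symplectic groups -/

theorem frob8_sp [CharP K 2] : Frob8 (Matrix.symplecticGroup (Fin 3) K) := by
  let f : ZMod 2 →+* K := ZMod.castHom (dvd_refl 2) K
  let Sa : Matrix (Fin 3) (Fin 3) (ZMod 2) := !![0, 1, 0; 1, 0, 0; 0, 0, 0]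
  let Sb : Matrix (Fin 3) (Fin 3) (ZMod 2) := !![0, 0, 0; 0, 0, 1; 0, 1, 0]
  let Sc : Matrix (Fin 3) (Fin 3) (ZMod 2) := !![0, 1, 1; 1, 0, 1; 1, 1, 0]
  let P : Matrix (Fin 3) (Fin 3) (ZMod 2) := !![1, 1, 1; 1, 1, 0; 1, 0, 0]
  let R : Matrix (Fin 3) (Fin 3) (ZMod 2) := !![0, 0, 1; 0, 1, 1; 1, 1, 0]
  have sy : ∀ S : Matrix (Fin 3) (Fin 3) (ZMod 2), Sᵀ = S → (S.map f)ᵀ = S.map f := by
    intro S hS
    rw [← Matrix.transpose_map, hS]
  have hPR : P.map f * (R.map f)ᵀ = 1 := by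
    have h1 : P * Rᵀ = 1 := by decide +kernel
    have := congrArg (fun M : Matrix (Fin 3) (Fin 3) (ZMod 2) => M.map f) h1
    rwa [Matrix.map_mul, Matrix.transpose_map, Matrix.map_one _ (map_zero _) (map_one _)] at this
  have hconj : ∀ S S' : Matrix (Fin 3) (Fin 3) (ZMod 2), ∀ (hS : Sᵀ = S) (hS' : S'ᵀ = S'), R * S * Rᵀ = S' →
      H175.BdSp.di (P.map f) (R.map f) hPR * H175.BdSp.lo (S.map f) (sy S hS) * (H175.BdSp.di (P.map f) (R.map f) hPR)⁻¹ =
        H175.BdSp.lo (S'.map f) (sy S' hS') := by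
    intro S S' hS hS' h
    rw [mul_inv_eq_iff_eq_mul, H175.BdSp.di_lo]
    congr 1
    apply H175.BdSp.lo_congr
    rw [← h, Matrix.map_mul, Matrix.map_mul, Matrix.transpose_map]
  have ha : Saᵀ = Sa := by decide +kernel
  have hb : Sbᵀ = Sb := by decide +kernel
  have hc : Scᵀ = Sc := by decide +kernel
  have hab : (Sa + Sb)ᵀ = Sa + Sb := by decide +kernel
  refine ⟨H175.BdSp.lo (Sa.map f) (sy Sa ha), H175.BdSp.lo (Sb.map f) (sy Sb hb), H175.BdSp.lo (Sc.map f) (sy Sc hc),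
    H175.BdSp.di (P.map f) (R.map f) hPR, ?_, ?_, ?_, hconj Sa Sb ha hb (by decide +kernel),
    hconj Sb Sc hb hc (by decide +kernel), ?_⟩
  · rw [H175.BdSp.lo_mul]
    have h1 : Sa.map f + Sa.map f = 0 := by
      rw [← Matrix.map_add f (map_add f)]
      have h2 : Sa + Sa = 0 := by decide +kernel
      rw [h2]
      exact Matrix.map_zero _ (map_zero _)
    rw [H175.BdSp.lo_congr (hS' := Matrix.transpose_zero) h1]
    exact H175.BdSp.lo_zero _
  · intro h
    rw [← H175.BdSp.lo_zero Matrix.transpose_zero] at h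
    have h1 := H175.BdSp.lo_inj h
    have h2 := congrFun (congrFun h1 0) 1
    rw [Matrix.map_apply] at h2
    have h3 : Sa 0 1 = 1 := rfl
    rw [h3, map_one] at h2
    exact one_ne_zero h2
  · rw [H175.BdSp.lo_mul, H175.BdSp.lo_mul]
    exact H175.BdSp.lo_congr (add_comm _ _)
  · rw [hconj Sc (Sa + Sb) hc hab (by decide +kernel), H175.BdSp.lo_mul]
    exact H175.BdSp.lo_congr (Matrix.map_add f (map_add f) _ _)

theorem frob8_psp [CharP K 2] : Frob8 (Cfsg.PSp 3 K) := frob8_sp.quot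

end two

/-! ### orthogonal groups -/

section orth

variable {K : Type} [Field K]

open H912.Bd in
theorem frob8_omega6 [CharP K 2] : Frob8 (Cfsg.Omega K (Cfsg.quadFormPlus 3 K)) := by
  let f : ZMod 2 →+* K := ZMod.castHom (dvd_refl 2) K
  let A0 : SpecialLinearGroup (Fin 3) (ZMod 2) := ⟨!![1, 0, 1; 1, 0, 0; 0, 1, 0], by decide +kernel⟩
  let A : SpecialLinearGroup (Fin 3) K := SpecialLinearGroup.map f A0
  let M : Matrix (Fin 3) (Fin 3) (ZMod 2) := !![0, 0, 1; 1, 0, 1; 0, 1, 0]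
  have hM0 : (A0.1.adjugate)ᵀ = M := by decide +kernel
  have hM : (A.1.adjugate)ᵀ = M.map f := by
    have h1 : A.1 = A0.1.map f := rfl
    rw [h1, ← hM0, ← RingHom.mapMatrix_apply, ← RingHom.mapMatrix_apply, ← RingHom.map_adjugate]
    rfl
  let e : Fin 3 → (Fin 3 → ZMod 2) := fun i => Pi.single i 1
  let g : (Fin 3 → ZMod 2) → Cfsg.Omega K (Cfsg.quadFormPlus 3 K) := fun v => uO (Multiplicative.ofAdd (f ∘ v))
  have hg : ∀ v, slO le_rfl A * g v * (slO le_rfl A)⁻¹ = g (M *ᵥ v) := by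
    intro v
    change slO le_rfl A * uO _ * (slO le_rfl A)⁻¹ = uO _
    rw [conj_uO, hM]
    congr 2
    rw [toAdd_ofAdd]
    ext i
    exact (RingHom.map_mulVec f M v i).symm
  have hadd : ∀ v w, g v * g w = g (v + w) := by
    intro v w
    change uO _ * uO _ = uO _
    rw [← map_mul, ← ofAdd_add]
    congr 2
    ext i
    exact (map_add f (v i) (w i)).symm
  have hne : g (e 0) ≠ 1 := by
    intro h
    have h1 : uO (Multiplicative.ofAdd (f ∘ (e 0))) = (uO 1 : Cfsg.Omega K (Cfsg.quadFormPlus 3 K)) := by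
      rw [map_one]; exact h
    have h2 := uO_injective h1
    have h3 := congrFun (congrArg Multiplicative.toAdd h2) 0
    change f (e 0 0) = 0 at h3
    have h4 : e 0 0 = 1 := by decide +kernel
    rw [h4, map_one] at h3
    exact one_ne_zero h3
  have h0 : g 0 = 1 := by
    change uO _ = _
    have : (f ∘ (0 : Fin 3 → ZMod 2)) = 0 := by ext i; exact map_zero f
    rw [this, ofAdd_zero, map_one]
  refine ⟨g (e 0), g (e 1), g (e 2), slO le_rfl A, ?_, hne, ?_, ?_, ?_, ?_⟩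
  · rw [hadd]
    have : e 0 + e 0 = 0 := by decide +kernel
    rw [this, h0]
  · rw [hadd, hadd, add_comm]
  · rw [hg]
    have : M *ᵥ e 0 = e 1 := by decide +kernel
    rw [this]
  · rw [hg]
    have : M *ᵥ e 1 = e 2 := by decide +kernel
    rw [this]
  · rw [hg, hadd]
    have : M *ᵥ e 2 = e 0 + e 1 := by decide +kernel
    rw [this]

theorem frob8_plus [CharP K 2] {m : ℕ} (hm : 3 ≤ m) : Frob8 (Cfsg.POmega K (Cfsg.quadFormPlus m K)) := by
  obtain ⟨f, hf⟩ := H912.Bd.exists_plus (K := K) hm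
  exact frob8_omega6.map f hf

theorem frob8_minus [CharP K 2] {m : ℕ} (hm : 3 ≤ m) (a b : K) :
    Frob8 (Cfsg.POmega K (Cfsg.quadFormMinus m K a b)) := by
  obtain ⟨f, hf⟩ := H912.Bd.exists_minus (K := K) hm a b
  exact frob8_omega6.map f hf

end orth

end Cfsg.Agent.H871.Par
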