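import Cfsg.Prelude.Def_GeometricClasses
import Cfsg.Agent.H873.Tv

/-!
Elementary facts for maximality of stabilisers in `SL`: functionals given by dot products,
membership in subspace stabilisers, `Full M b` (all transvections with centre `b` lie in `M`).
-/

set_option autoImplicit false
set_option linter.unusedSectionVars false

namespace Cfsg.Agent.H871

open Matrix Cfsg.Agent.H873

variable {ι : Type} [Fintype ι] [DecidableEq ι] {F : Type*} [Field F]

/-- A vector outside a subspace is separated from it by a functional with value one. -/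
theorem exists_dot (W : Submodule F (ι → F)) {b : ι → F} (hb : b ∉ W) :
    ∃ φ : ι → F, (∀ w ∈ W, φ ⬝ᵥ w = 0) ∧ φ ⬝ᵥ b = 1 := by
  obtain ⟨f, hf, hW⟩ := Submodule.exists_dual_map_eq_bot_of_notMem hb inferInstance
  have hdot : ∀ v, ((dotProductEquiv F ι).symm f) ⬝ᵥ v = f v := by
    intro v
    have h := LinearEquiv.apply_symm_apply (dotProductEquiv F ι) f
    have h2 : (dotProductEquiv F ι) ((dotProductEquiv F ι).symm f) v = f v := by rw [h]
    rw [← h2]
    rfl
  refine ⟨(f b)⁻¹ • ((dotProductEquiv F ι).symm f), fun w hw => ?_, ?_⟩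
  · have h0 : f w = 0 := by
      have : f w ∈ W.map f := ⟨w, hw, rfl⟩
      rw [hW] at this
      exact this
    rw [smul_dotProduct, hdot, h0, smul_zero]
  · rw [smul_dotProduct, hdot, smul_eq_mul, inv_mul_cancel₀ hf]

theorem mem_stab_iff (W : Submodule F (ι → F)) (g : GL ι F) :
    g ∈ Cfsg.Geo.subspaceStabilizer W ↔ ∀ v, v ∈ W ↔ (g : Matrix ι ι F) *ᵥ v ∈ W := Iff.rfl

theorem mem_stab_of (W : Submodule F (ι → F)) (g : GL ι F)
    (h : ∀ v ∈ W, (g : Matrix ι ι F) *ᵥ v ∈ W) : g ∈ Cfsg.Geo.subspaceStabilizer W := by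
  rw [mem_stab_iff]
  intro v
  refine ⟨h v, fun hv => ?_⟩
  have hinj : Function.Injective (fun v : ι → F => (g : Matrix ι ι F) *ᵥ v) := by
    intro x y hxy
    have : ((g⁻¹ : GL ι F) : Matrix ι ι F) *ᵥ ((g : Matrix ι ι F) *ᵥ x) =
      ((g⁻¹ : GL ι F) : Matrix ι ι F) *ᵥ ((g : Matrix ι ι F) *ᵥ y) := by
      rw [show (g : Matrix ι ι F) *ᵥ x = (g : Matrix ι ι F) *ᵥ y from hxy]
    simpa [mulVec_mulVec, ← Units.val_mul] using this
  -- the restriction to W is injective, hence surjective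
  let L : W →ₗ[F] W := (Matrix.toLin' (g : Matrix ι ι F)).restrict (p := W) (q := W)
    (fun w hw => by rw [Matrix.toLin'_apply]; exact h w hw)
  have hLinj : Function.Injective L := by
    intro x y hxy
    apply Subtype.ext
    apply hinj
    have := congrArg Subtype.val hxy
    simpa [L, LinearMap.restrict_apply] using this
  obtain ⟨w, hw⟩ := (LinearMap.surjective_of_injective hLinj) ⟨_, hv⟩
  have h1 : (g : Matrix ι ι F) *ᵥ (w : ι → F) = (g : Matrix ι ι F) *ᵥ v := by
    have := congrArg Subtype.val hw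
    simpa [L, LinearMap.restrict_apply] using this
  have h2 := hinj h1
  rw [← h2]
  exact w.2

theorem mulVec_inv_mulVec (g : GL ι F) (x : ι → F) :
    (g : Matrix ι ι F) *ᵥ (((g⁻¹ : GL ι F) : Matrix ι ι F) *ᵥ x) = x := by
  rw [mulVec_mulVec, ← Units.val_mul, mul_inv_cancel, Units.val_one, one_mulVec]

theorem inv_mulVec_mulVec (g : GL ι F) (x : ι → F) :
    ((g⁻¹ : GL ι F) : Matrix ι ι F) *ᵥ ((g : Matrix ι ι F) *ᵥ x) = x := by
  rw [mulVec_mulVec, ← Units.val_mul, inv_mul_cancel, Units.val_one, one_mulVec]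

/-- Transvections with centre in `W`, or with axis containing `W`, stabilise `W`. -/
theorem tv_mem_stab {W : Submodule F (ι → F)} {a φ : ι → F} (h : φ ⬝ᵥ a = 0)
    (hW : a ∈ W ∨ ∀ w ∈ W, φ ⬝ᵥ w = 0) : tv a φ h ∈ Cfsg.Geo.subspaceStabilizer W := by
  apply mem_stab_of
  intro v hv
  rw [tv_mulVec]
  rcases hW with ha | hφ
  · exact W.add_mem hv (W.smul_mem _ ha)
  · rw [hφ v hv, zero_smul, add_zero]
    exact hv

/-- All transvections with centre `b` are in `M`. -/
def Full (M : Subgroup (GL ι F)) (b : ι → F) : Prop := ∀ ψ : ι → F, ψ ⬝ᵥ b = 0 → HasTv M b ψ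

theorem Full.smul {M : Subgroup (GL ι F)} {b : ι → F} (h : Full M b) (c : F) :
    Full M (c • b) := by
  intro ψ hψ
  rw [hasTv_smul_comm]
  by_cases hc : c = 0
  · subst hc
    rw [zero_smul]
    exact hasTv_zero_right _ _
  · apply h
    rw [smul_dotProduct, ← dotProduct_smul, hψ]

theorem Full.conj {M : Subgroup (GL ι F)} {b : ι → F} (h : Full M b) {g : GL ι F} (hg : g ∈ M) :
    Full M ((g : Matrix ι ι F) *ᵥ b) := by
  intro ψ hψ
  have h1 := (h (ψ ᵥ* (g : Matrix ι ι F)) (by rw [← dotProduct_mulVec, hψ])).conj hg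
  have h2 : ψ ᵥ* (g : Matrix ι ι F) ᵥ* ((g⁻¹ : GL ι F) : Matrix ι ι F) = ψ := by
    rw [vecMul_vecMul, ← Units.val_mul, mul_inv_cancel, Units.val_one, vecMul_one]
  rwa [h2] at h1

theorem Full.mono {M N : Subgroup (GL ι F)} (hMN : M ≤ N) {b : ι → F} (h : Full M b) :
    Full N b := fun ψ hψ => (h ψ hψ).mono hMN

theorem full_stab {W : Submodule F (ι → F)} {a : ι → F} (ha : a ∈ W) :
    Full (Cfsg.Geo.subspaceStabilizer W ⊓ Cfsg.Geo.specialLinear ι F) a := by
  intro ψ hψ
  exact (hasTv_iff _ _ _).2 ⟨hψ, tv_mem_stab hψ (Or.inl ha), tv_mem_specialLinear _ _ hψ⟩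

theorem hasTv_stab {W : Submodule F (ι → F)} {a φ : ι → F} (h : φ ⬝ᵥ a = 0)
    (hφ : ∀ w ∈ W, φ ⬝ᵥ w = 0) :
    HasTv (Cfsg.Geo.subspaceStabilizer W ⊓ Cfsg.Geo.specialLinear ι F) a φ :=
  (hasTv_iff _ _ _).2 ⟨h, tv_mem_stab h (Or.inr hφ), tv_mem_specialLinear _ _ h⟩

/-- If all centres are full then the group contains `SL`. -/
theorem specialLinear_le_of_full [Nontrivial ι] {M : Subgroup (GL ι F)} (h : ∀ b, Full M b) :
    Cfsg.Geo.specialLinear ι F ≤ M := by
  refine specialLinear_le_of_hasTv fun i j hij c => ?_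
  apply h
  simp [hij]

/-- An overgroup of the stabiliser of a proper subspace in `SL` with one full centre outside the
subspace contains `SL`. -/
theorem top_of_full_outside [Nontrivial ι] {W : Submodule F (ι → F)} {M : Subgroup (GL ι F)}
    (hM : Cfsg.Geo.subspaceStabilizer W ⊓ Cfsg.Geo.specialLinear ι F ≤ M) {b : ι → F}
    (hb : b ∉ W) (hfull : Full M b) : Cfsg.Geo.specialLinear ι F ≤ M := by
  apply specialLinear_le_of_full
  intro b'
  by_cases hb' : b' ∈ W
  · exact (full_stab hb').mono hM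
  · -- the key transport
    have key : ∀ φ : ι → F, (∀ w ∈ W, φ ⬝ᵥ w = 0) → φ ⬝ᵥ b = 1 → ∀ x, φ ⬝ᵥ x = 1 → Full M x := by
      intro φ hφ hφb x hφx
      have h0 : φ ⬝ᵥ (x - b) = 0 := by rw [dotProduct_sub, hφx, hφb, sub_self]
      obtain ⟨h1, h2⟩ := (hasTv_iff _ _ _).1 ((hasTv_stab h0 hφ).mono hM)
      have h3 := hfull.conj h2
      rw [tv_mulVec, hφb, one_smul, add_sub_cancel] at h3
      exact h3
    by_cases hd : b ∈ W ⊔ Submodule.span F {b' - b}
    · -- b' is a multiple of b modulo W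
      obtain ⟨w, hw, y, hy, hwy⟩ := Submodule.mem_sup.1 hd
      obtain ⟨c, rfl⟩ := Submodule.mem_span_singleton.1 hy
      -- w + c (b' - b) = b
      have hc : c ≠ 0 := by
        rintro rfl
        apply hb
        rw [← hwy, zero_smul, add_zero]
        exact hw
      have h1 : c • b' = (1 + c) • b - w := by
        have : c • b' = (w + c • (b' - b)) + c • b - w := by rw [smul_sub]; abel
        rw [this, hwy, add_smul, one_smul]
      have hc1 : 1 + c ≠ 0 := by
        intro h0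
        rw [h0, zero_smul, zero_sub] at h1
        apply hb'
        have : b' = c⁻¹ • (c • b') := by rw [smul_smul, inv_mul_cancel₀ hc, one_smul]
        rw [this, h1]
        exact W.smul_mem _ (W.neg_mem hw)
      obtain ⟨φ, hφ, hφb⟩ := exists_dot W hb
      have h2 : φ ⬝ᵥ ((1 + c)⁻¹ • (c • b')) = 1 := by
        rw [h1, dotProduct_smul, dotProduct_sub, dotProduct_smul, hφb, hφ w hw, sub_zero,
          smul_eq_mul, smul_eq_mul, mul_one, inv_mul_cancel₀ hc1]
      have h3 := (key φ hφ hφb _ h2).smul (c⁻¹ * (1 + c))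
      rw [smul_smul, smul_smul] at h3
      have h4 : c⁻¹ * (1 + c) * (1 + c)⁻¹ * c = 1 := by field_simp
      rwa [h4, one_smul] at h3
    · obtain ⟨φ, hφ, hφb⟩ := exists_dot _ hd
      refine key φ (fun w hw => hφ w (Submodule.mem_sup_left hw)) hφb b' ?_
      have h1 := hφ (b' - b) (Submodule.mem_sup_right (Submodule.mem_span_singleton_self _))
      rw [dotProduct_sub, hφb, sub_eq_zero] at h1
      exact h1

/-- The stabiliser in `SL` of a proper non-zero subspace is maximal, any dimension, any field. -/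
theorem subspaceStabilizer_maximal [Nontrivial ι] (W : Submodule F (ι → F)) (hW0 : W ≠ ⊥)
    (hW1 : W ≠ ⊤) :
    Cfsg.Geo.IsMaximalIn (Cfsg.Geo.specialLinear ι F)
      (Cfsg.Geo.subspaceStabilizer W ⊓ Cfsg.Geo.specialLinear ι F) := by
  obtain ⟨a, ha, ha0⟩ := (Submodule.ne_bot_iff _).1 hW0
  obtain ⟨b, hb⟩ : ∃ b, b ∉ W := by
    by_contra h
    push Not at h
    exact hW1 (eq_top_iff.2 fun x _ => h x)
  refine ⟨lt_of_le_of_ne inf_le_right ?_, ?_⟩
  · intro hEq
    -- a transvection moving `a` out of `W`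
    obtain ⟨φ, hφ, hφa⟩ : ∃ φ : ι → F, (∀ w ∈ Submodule.span F {b}, φ ⬝ᵥ w = 0) ∧
        φ ⬝ᵥ a = 1 := by
      apply exists_dot
      intro h
      obtain ⟨c, rfl⟩ := Submodule.mem_span_singleton.1 h
      apply hb
      have hc : c ≠ 0 := by
        rintro rfl
        exact ha0 (zero_smul _ _)
      have := W.smul_mem c⁻¹ ha
      rwa [smul_smul, inv_mul_cancel₀ hc, one_smul] at this
    have h0 : φ ⬝ᵥ b = 0 := hφ b (Submodule.mem_span_singleton_self _)
    have h1 := tv_mem_specialLinear b φ h0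
    rw [← hEq] at h1
    have h2 := ((mem_stab_iff _ _).1 h1.1 a).1 ha
    rw [tv_mulVec, hφa, one_smul] at h2
    apply hb
    have := W.sub_mem h2 ha
    rwa [add_sub_cancel_left] at this
  · intro M hM hMS
    by_cases hle : M ≤ Cfsg.Geo.subspaceStabilizer W
    · left
      exact le_antisymm (le_inf hle hMS) hM
    · right
      refine le_antisymm hMS ?_
      obtain ⟨g, hgM, hgn⟩ := SetLike.not_le_iff_exists.1 hle
      have h1 : ¬ ∀ v ∈ W, (g : Matrix ι ι F) *ᵥ v ∈ W := fun h => hgn (mem_stab_of W g h)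
      push Not at h1
      obtain ⟨v, hv, hgv⟩ := h1
      exact top_of_full_outside hM hgv (((full_stab hv).mono hM).conj hgM)

end Cfsg.Agent.H871
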