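import Cfsg.Agent.H871.Par9

/-!
# `2^3:7` in the orthogonal groups of dimension at least 7 in odd characteristic

A frame `e_1, ..., e_7` of pairwise orthogonal vectors of the same non-zero norm gives `O_7 → O(Q)`, in which the signed
permutation matrices contain `2^3:7:3`; so `Ω(Q)` contains `2^3:7`.
-/

set_option autoImplicit false

universe u v w

namespace Cfsg.Agent.H871.Par

open Matrix
open scoped commutatorElement

section frame

variable {K : Type w} [Field K] {ι : Type} [Fintype ι] [DecidableEq ι]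

/-- `A` acting on the span of the frame `E`, identity on the orthogonal complement -/
def gm (E : Matrix ι (Fin 7) K) (R : Matrix (Fin 7) ι K) (A : Matrix (Fin 7) (Fin 7) K) : Matrix ι ι K :=
  1 + E * (A - 1) * R

variable {E : Matrix ι (Fin 7) K} {R : Matrix (Fin 7) ι K} {S : Matrix ι ι K} {d : K}

omit [Fintype ι] in
theorem gm_one : gm E R 1 = 1 := by simp [gm]

theorem gm_mul (h : R * E = 1) (A B : Matrix (Fin 7) (Fin 7) K) : gm E R A * gm E R B = gm E R (A * B) := by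
  unfold gm
  have h1 : E * (A - 1) * R * (E * (B - 1) * R) = E * ((A - 1) * (B - 1)) * R := by
    calc E * (A - 1) * R * (E * (B - 1) * R) = E * (A - 1) * (R * E) * (B - 1) * R := by
          simp only [Matrix.mul_assoc]
      _ = _ := by rw [h, Matrix.mul_one]; simp only [Matrix.mul_assoc]
  rw [Matrix.mul_add, Matrix.add_mul, Matrix.add_mul, h1, Matrix.one_mul, Matrix.one_mul, Matrix.mul_one, add_assoc,
    ← add_assoc (E * (A - 1) * R)]
  congr 1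
  rw [add_assoc, ← Matrix.add_mul, ← Matrix.mul_add, ← Matrix.add_mul, ← Matrix.mul_add]
  congr 2
  noncomm_ring

theorem gm_inj (h : R * E = 1) {A B : Matrix (Fin 7) (Fin 7) K} (hAB : gm E R A = gm E R B) : A = B := by
  unfold gm at hAB
  have h1 := add_left_cancel hAB
  have h2 : R * (E * (A - 1) * R) * E = R * (E * (B - 1) * R) * E := by rw [h1]
  have h3 : ∀ C : Matrix (Fin 7) (Fin 7) K, R * (E * C * R) * E = C := by
    intro C
    calc R * (E * C * R) * E = (R * E) * C * (R * E) := by simp only [Matrix.mul_assoc]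
      _ = C := by rw [h, Matrix.mul_one, Matrix.one_mul]
  rw [h3, h3] at h2
  exact sub_left_injective h2

theorem gm_tr (hSE : S * E = d • Rᵀ) (hES : Eᵀ * S = d • R) (hE : Eᵀ * S * E = d • 1)
    {A : Matrix (Fin 7) (Fin 7) K} (hA : Aᵀ * A = 1) : (gm E R A)ᵀ * S * gm E R A = S := by
  unfold gm
  rw [Matrix.transpose_add, Matrix.transpose_one, Matrix.transpose_mul, Matrix.transpose_mul, Matrix.add_mul,
    Matrix.add_mul, Matrix.mul_add, Matrix.mul_add, Matrix.one_mul, Matrix.mul_one, Matrix.mul_one]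
  have e1 : S * (E * (A - 1) * R) = d • (Rᵀ * (A - 1) * R) := by
    rw [← Matrix.mul_assoc, ← Matrix.mul_assoc, hSE, Matrix.smul_mul, Matrix.smul_mul]
  have e2 : Rᵀ * ((A - 1)ᵀ * Eᵀ) * S = d • (Rᵀ * (A - 1)ᵀ * R) := by
    rw [Matrix.mul_assoc, Matrix.mul_assoc, hES, Matrix.mul_smul, Matrix.mul_smul, Matrix.mul_assoc]
  have e3 : Rᵀ * ((A - 1)ᵀ * Eᵀ) * S * (E * (A - 1) * R) = d • (Rᵀ * ((A - 1)ᵀ * (A - 1)) * R) := by
    calc Rᵀ * ((A - 1)ᵀ * Eᵀ) * S * (E * (A - 1) * R) = Rᵀ * (A - 1)ᵀ * (Eᵀ * S * E) * (A - 1) * R := by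
          simp only [Matrix.mul_assoc]
      _ = _ := by
          rw [hE, Matrix.mul_smul, Matrix.mul_one, Matrix.smul_mul, Matrix.smul_mul]
          simp only [Matrix.mul_assoc]
  rw [e1, e3, e2, add_assoc, ← smul_add, ← Matrix.add_mul, ← Matrix.mul_add, ← smul_add, ← Matrix.add_mul,
    ← Matrix.mul_add]
  have e4 : (A - 1) + ((A - 1)ᵀ + (A - 1)ᵀ * (A - 1)) = 0 := by
    rw [Matrix.transpose_sub, Matrix.transpose_one]
    have : (Aᵀ - 1) * (A - 1) = Aᵀ * A - Aᵀ - A + 1 := by noncomm_ring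
    rw [this, hA]
    abel
  rw [e4, Matrix.mul_zero, Matrix.zero_mul, smul_zero, add_zero]

/-- a frame of seven orthogonal vectors -/
def IsFrame (Q : (ι → K) → K) (E : Matrix ι (Fin 7) K) (R : Matrix (Fin 7) ι K) : Prop :=
  R * E = 1 ∧ ∀ A : Matrix (Fin 7) (Fin 7) K, Aᵀ * A = 1 → ∀ v, Q (gm E R A *ᵥ v) = Q v

theorem isFrame_of {Q : (ι → K) → K} (h2 : (2 : K) ≠ 0) (hd : d ≠ 0) (hQ : ∀ v, 2 * Q v = v ⬝ᵥ S *ᵥ v) (hS : Sᵀ = S)
    (hE : Eᵀ * S * E = d • 1) : IsFrame Q E (d⁻¹ • (Eᵀ * S)) := by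
  refine ⟨by rw [Matrix.smul_mul, hE, smul_smul, inv_mul_cancel₀ hd, one_smul], fun A hA v => ?_⟩
  apply mul_left_cancel₀ h2
  rw [hQ, hQ, Matrix.mulVec_mulVec, Matrix.dotProduct_mulVec, ← Matrix.vecMul_transpose, Matrix.vecMul_vecMul,
    ← Matrix.dotProduct_mulVec, ← Matrix.mul_assoc]
  rw [gm_tr (d := d) ?_ ?_ hE hA]
  · rw [Matrix.transpose_smul, Matrix.transpose_mul, Matrix.transpose_transpose, hS, smul_smul, mul_inv_cancel₀ hd,
      one_smul]
  · rw [smul_smul, mul_inv_cancel₀ hd, one_smul]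

variable {Q : (ι → K) → K}

theorem map_tr {A : Matrix (Fin 7) (Fin 7) ℤ} (h : Aᵀ * A = 1) :
    (A.map (Int.castRingHom K))ᵀ * A.map (Int.castRingHom K) = 1 := by
  have := congrArg (fun M : Matrix (Fin 7) (Fin 7) ℤ => M.map (Int.castRingHom K)) h
  rwa [Matrix.map_mul, Matrix.transpose_map, Matrix.map_one _ (map_zero _) (map_one _)] at this

/-- the isometry attached to a signed permutation -/
def G (h : IsFrame Q E R) (A : Matrix (Fin 7) (Fin 7) ℤ) (hA : Aᵀ * A = 1) (hA' : A * Aᵀ = 1) :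
    Cfsg.isometryGroup K Q :=
  ⟨⟨gm E R (A.map (Int.castRingHom K)), gm E R (Aᵀ.map (Int.castRingHom K)), by
    rw [gm_mul h.1, ← Matrix.map_mul, hA', Matrix.map_one _ (map_zero _) (map_one _), gm_one], by
    rw [gm_mul h.1, ← Matrix.map_mul, hA, Matrix.map_one _ (map_zero _) (map_one _), gm_one]⟩,
    fun u _ => h.2 _ (map_tr hA) u⟩

theorem G_congr (h : IsFrame Q E R) {A B : Matrix (Fin 7) (Fin 7) ℤ} {hA : Aᵀ * A = 1} {hA' : A * Aᵀ = 1}
    {hB : Bᵀ * B = 1} {hB' : B * Bᵀ = 1} (e : A = B) : G h A hA hA' = G h B hB hB' := by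
  subst e; rfl

theorem G_mul (h : IsFrame Q E R) {A B C : Matrix (Fin 7) (Fin 7) ℤ} {hA : Aᵀ * A = 1} {hA' : A * Aᵀ = 1}
    {hB : Bᵀ * B = 1} {hB' : B * Bᵀ = 1} {hC : Cᵀ * C = 1} {hC' : C * Cᵀ = 1} (e : A * B = C) :
    G h A hA hA' * G h B hB hB' = G h C hC hC' := by
  subst e
  apply Subtype.ext
  apply Units.ext
  change gm E R _ * gm E R _ = gm E R _
  rw [gm_mul h.1, ← Matrix.map_mul]

theorem G_inv (h : IsFrame Q E R) {A : Matrix (Fin 7) (Fin 7) ℤ} {hA : Aᵀ * A = 1} {hA' : A * Aᵀ = 1} :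
    (G h A hA hA')⁻¹ = G h Aᵀ (by rw [Matrix.transpose_transpose]; exact hA')
      (by rw [Matrix.transpose_transpose]; exact hA) := by
  apply Subtype.ext
  apply Units.ext
  rfl

theorem G_comm (h : IsFrame Q E R) {A B C : Matrix (Fin 7) (Fin 7) ℤ} {hA : Aᵀ * A = 1} {hA' : A * Aᵀ = 1}
    {hB : Bᵀ * B = 1} {hB' : B * Bᵀ = 1} {hC : Cᵀ * C = 1} {hC' : C * Cᵀ = 1} (e : A * B = C * (B * A)) :
    G h C hC hC' ∈ commutator (Cfsg.isometryGroup K Q) := by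
  have h1 : ⁅G h A hA hA', G h B hB hB'⁆ = G h C hC hC' := by
    rw [commutatorElement_def, mul_inv_eq_iff_eq_mul, mul_inv_eq_iff_eq_mul]
    apply Subtype.ext
    apply Units.ext
    change gm E R _ * gm E R _ = gm E R _ * gm E R _ * gm E R _
    rw [gm_mul h.1, gm_mul h.1, gm_mul h.1, ← Matrix.map_mul, ← Matrix.map_mul, ← Matrix.map_mul, e, Matrix.mul_assoc]
  rw [← h1]
  exact Subgroup.commutator_mem_commutator (Subgroup.mem_top _) (Subgroup.mem_top _)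

theorem G_ne (h : IsFrame Q E R) {A : Matrix (Fin 7) (Fin 7) ℤ} {hA : Aᵀ * A = 1} {hA' : A * Aᵀ = 1}
    (h2 : (2 : K) ≠ 0) (i : Fin 7) (hi : A i i = -1) : G h A hA hA' ≠ 1 := by
  intro h0
  have h1 : gm E R (A.map (Int.castRingHom K)) = gm E R 1 := by
    rw [gm_one]
    exact congrArg (fun x : Cfsg.isometryGroup K Q => ((x : GL ι K) : Matrix ι ι K)) h0
  have h3 := congrFun (congrFun (gm_inj h.1 h1) i) i
  rw [Matrix.map_apply, hi, Matrix.one_apply_eq, map_neg, map_one] at h3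
  apply h2
  linear_combination -h3

/-- the signed permutations -/
def Ya : Matrix (Fin 7) (Fin 7) ℤ := Matrix.of fun i j => if i = j + 1 then 1 else 0
/-- the Frobenius twist -/
def Ta : Matrix (Fin 7) (Fin 7) ℤ := Matrix.of fun i j => if i = 2 * j then 1 else 0
/-- the code words -/
def Da (k : Fin 7) : Matrix (Fin 7) (Fin 7) ℤ :=
  Matrix.of fun i j => if i = j then (if i - k = 2 ∨ i - k = 3 ∨ i - k = 4 ∨ i - k = 6 then -1 else 1) else 0

theorem frob8_frame (h : IsFrame Q E R) (h2 : (2 : K) ≠ 0) : Frob8 (Cfsg.Omega K Q) := by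
  have y1 : Yaᵀ * Ya = 1 := by decide +kernel
  have y2 : Ya * Yaᵀ = 1 := by decide +kernel
  have t1 : Taᵀ * Ta = 1 := by decide +kernel
  have t2 : Ta * Taᵀ = 1 := by decide +kernel
  have d1 : ∀ k, (Da k)ᵀ * Da k = 1 := by decide +kernel
  have d2 : ∀ k, Da k * (Da k)ᵀ = 1 := by decide +kernel
  have my : G h Ya y1 y2 ∈ commutator (Cfsg.isometryGroup K Q) :=
    G_comm h (A := Ta) (B := Ya) (hA := t1) (hA' := t2) (hB := y1) (hB' := y2) (by decide +kernel)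
  have md : ∀ k, G h (Da k) (d1 k) (d2 k) ∈ commutator (Cfsg.isometryGroup K Q) := fun k =>
    G_comm h (A := Ya) (B := Da (k + 4)) (hA := y1) (hA' := y2) (hB := d1 _) (hB' := d2 _) (by revert k; decide +kernel)
  have sub : ∀ {x y : Cfsg.Omega K Q}, x.1 = y.1 → x = y := fun h => Subtype.ext h
  have conj : ∀ k l : Fin 7, Ya * Da k = Da l * Ya → G h Ya y1 y2 * G h (Da k) (d1 k) (d2 k) * (G h Ya y1 y2)⁻¹ =
      G h (Da l) (d1 l) (d2 l) := by
    intro k l e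
    rw [mul_inv_eq_iff_eq_mul]
    apply Subtype.ext
    apply Units.ext
    change gm E R _ * gm E R _ = gm E R _ * gm E R _
    rw [gm_mul h.1, gm_mul h.1, ← Matrix.map_mul, ← Matrix.map_mul, e]
  have one : ∀ A B : Matrix (Fin 7) (Fin 7) ℤ, ∀ (hA : Aᵀ * A = 1) (hA' : A * Aᵀ = 1) (hB : Bᵀ * B = 1)
      (hB' : B * Bᵀ = 1), ∀ C D : Matrix (Fin 7) (Fin 7) ℤ, ∀ (hC : Cᵀ * C = 1) (hC' : C * Cᵀ = 1) (hD : Dᵀ * D = 1)
      (hD' : D * Dᵀ = 1), A * B = C * D → G h A hA hA' * G h B hB hB' = G h C hC hC' * G h D hD hD' := by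
    intro A B hA hA' hB hB' C D hC hC' hD hD' e
    apply Subtype.ext
    apply Units.ext
    change gm E R _ * gm E R _ = gm E R _ * gm E R _
    rw [gm_mul h.1, gm_mul h.1, ← Matrix.map_mul, ← Matrix.map_mul, e]
  refine ⟨⟨_, md 0⟩, ⟨_, md 1⟩, ⟨_, md 2⟩, ⟨_, my⟩, sub ?_, ?_, sub ?_, sub ?_, sub ?_, sub ?_⟩
  · change G h (Da 0) (d1 0) (d2 0) * G h (Da 0) (d1 0) (d2 0) = 1
    rw [G_mul h (C := 1) (hC := by decide +kernel) (hC' := by decide +kernel) (by decide +kernel)]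
    apply Subtype.ext
    apply Units.ext
    change gm E R _ = 1
    rw [Matrix.map_one _ (map_zero _) (map_one _), gm_one]
  · intro h0
    exact G_ne h (hA := d1 0) (hA' := d2 0) h2 2 (by decide +kernel) (congrArg Subtype.val h0)
  · exact one (Da 0) (Da 1) (d1 0) (d2 0) (d1 1) (d2 1) (Da 1) (Da 0) (d1 1) (d2 1) (d1 0) (d2 0) (by decide +kernel)
  · exact conj 0 1 (by decide +kernel)
  · exact conj 1 2 (by decide +kernel)
  · change G h Ya y1 y2 * G h (Da 2) (d1 2) (d2 2) * (G h Ya y1 y2)⁻¹ = G h (Da 0) (d1 0) (d2 0) * G h (Da 1) (d1 1) (d2 1)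
    rw [conj 2 3 (by decide +kernel), G_mul h (C := Da 3) (hC := d1 3) (hC' := d2 3) (by decide +kernel)]

end frame

section inst

variable {K : Type w} [Field K]

theorem exists_sq (p : ℕ) [Fact p.Prime] [CharP K p] : ∃ a b : K, a ^ 2 + b ^ 2 = -1 := by
  obtain ⟨a, b, h⟩ := CharP.sq_add_sq K p (-1)
  exact ⟨a, b, by rw [h]; simp⟩

/-- `x` coordinates -/
def X3 (a b : K) : Matrix (Fin 3) (Fin 7) K := !![1, 0, 0, a, b, 0, 0; 0, 1, 0, b, -a, 0, 0; 0, 0, 1, 0, 0, a, b]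
/-- `y` coordinates -/
def Y3 (a b : K) : Matrix (Fin 3) (Fin 7) K := !![-1, 0, 0, a, b, 0, 0; 0, -1, 0, b, -a, 0, 0; 0, 0, -1, 0, 0, a, b]
/-- the coordinate of norm 1 -/
def Z1 (a b : K) : Matrix Unit (Fin 7) K := Matrix.of fun _ => ![0, 0, 0, 0, 0, b, -a]
/-- `x` coordinates -/
def X4 (a b : K) : Matrix (Fin 4) (Fin 7) K :=
  !![1, 0, 0, a, b, 0, 0; 0, 1, 0, b, -a, 0, 0; 0, 0, 1, 0, 0, a, b; 0, 0, 0, 0, 0, b, -a]
/-- `y` coordinates -/
def Y4 (a b : K) : Matrix (Fin 4) (Fin 7) K :=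
  !![-1, 0, 0, a, b, 0, 0; 0, -1, 0, b, -a, 0, 0; 0, 0, -1, 0, 0, a, b; 0, 0, 0, 0, 0, b, -a]
/-- the coordinates in the last plane -/
def Z2 (a b : K) : Matrix (Fin 2) (Fin 7) K := !![0, 0, 0, 0, 0, b, -a; 0, 0, 0, 0, 0, 0, 0]

theorem frame3 {a b : K} (h : a ^ 2 + b ^ 2 = -1) :
    (Z1 a b)ᵀ * (Matrix.of fun _ _ => 2 : Matrix Unit Unit K) * Z1 a b + ((Y3 a b)ᵀ * X3 a b + (X3 a b)ᵀ * Y3 a b) = (-2 : K) • 1 := by
  ext i j
  fin_cases i <;> fin_cases j <;>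
    simp [X3, Y3, Z1, Matrix.mul_apply, Fin.sum_univ_succ] <;> first | ring1 | linear_combination 2 * h

theorem frame4 {a b : K} (h : a ^ 2 + b ^ 2 = -1) :
    (Y4 a b)ᵀ * X4 a b + (X4 a b)ᵀ * Y4 a b = (-2 : K) • 1 := by
  ext i j
  fin_cases i <;> fin_cases j <;>
    simp [X4, Y4, Matrix.mul_apply, Fin.sum_univ_succ] <;> first | ring1 | linear_combination 2 * h

theorem frame2 {a b : K} (h : a ^ 2 + b ^ 2 = -1) (c d : K) :
    ((Y3 a b)ᵀ * X3 a b + (X3 a b)ᵀ * Y3 a b) + (Z2 a b)ᵀ * !![2, c; c, 2 * d] * Z2 a b = (-2 : K) • 1 := by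
  ext i j
  fin_cases i <;> fin_cases j <;>
    simp [X3, Y3, Z2, Matrix.mul_apply, Fin.sum_univ_succ] <;> first | ring1 | linear_combination 2 * h

theorem hyp_tr {κ : Type} [DecidableEq κ] : (fromBlocks 0 1 1 0 : Matrix (κ ⊕ κ) (κ ⊕ κ) K)ᵀ = fromBlocks 0 1 1 0 := by
  rw [Matrix.fromBlocks_transpose]; simp

theorem hyp_q {m : ℕ} (v : Fin m ⊕ Fin m → K) :
    2 * Cfsg.quadFormPlus m K v = v ⬝ᵥ (fromBlocks 0 1 1 0 : Matrix (Fin m ⊕ Fin m) (Fin m ⊕ Fin m) K) *ᵥ v := by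
  unfold Cfsg.quadFormPlus
  simp only [Matrix.fromBlocks_mulVec, dotProduct, Fintype.sum_sum_type]
  simp
  rw [two_mul]
  congr 1
  exact Finset.sum_congr rfl fun i _ => mul_comm _ _

theorem frob8_plus4 {p : ℕ} [Fact p.Prime] [CharP K p] (h2 : (2 : K) ≠ 0) :
    Frob8 (Cfsg.Omega K (Cfsg.quadFormPlus 4 K)) := by
  obtain ⟨a, b, h⟩ := exists_sq (K := K) p
  refine frob8_frame (isFrame_of (E := fromRows (X4 a b) (Y4 a b)) (S := fromBlocks 0 1 1 0) (d := -2) h2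
    (neg_ne_zero.2 h2) hyp_q hyp_tr ?_) h2
  rw [Matrix.transpose_fromRows, Matrix.fromCols_mul_fromBlocks, Matrix.fromCols_mul_fromRows]
  simp only [Matrix.mul_zero, Matrix.mul_one, zero_add, add_zero]
  exact frame4 h

theorem frob8_odd3 {p : ℕ} [Fact p.Prime] [CharP K p] (h2 : (2 : K) ≠ 0) :
    Frob8 (Cfsg.Omega K (Cfsg.quadFormOdd 3 K)) := by
  obtain ⟨a, b, h⟩ := exists_sq (K := K) p
  refine frob8_frame (isFrame_of (E := fromRows (Z1 a b) (fromRows (X3 a b) (Y3 a b)))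
    (S := fromBlocks (Matrix.of fun _ _ => 2 : Matrix Unit Unit K) 0 0 (fromBlocks 0 1 1 0)) (d := -2) h2
    (neg_ne_zero.2 h2) ?_ ?_ ?_) h2
  · intro v
    have h3 : Cfsg.quadFormOdd 3 K v = v (.inl ()) ^ 2 + Cfsg.quadFormPlus 3 K (v ∘ Sum.inr) := rfl
    rw [h3, mul_add, hyp_q]
    simp only [Matrix.fromBlocks_mulVec, dotProduct, Fintype.sum_sum_type]
    simp [Matrix.mulVec, dotProduct, Fin.sum_univ_succ]
    ring
  · rw [Matrix.fromBlocks_transpose, hyp_tr, Matrix.transpose_zero, Matrix.transpose_zero]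
    congr 1
  · rw [Matrix.transpose_fromRows, Matrix.transpose_fromRows, Matrix.fromCols_mul_fromBlocks,
      Matrix.fromCols_mul_fromRows, Matrix.mul_zero, add_zero, Matrix.mul_zero, zero_add,
      Matrix.fromCols_mul_fromBlocks, Matrix.fromCols_mul_fromRows]
    simp only [Matrix.mul_zero, Matrix.mul_one, zero_add, add_zero]
    exact frame3 h

theorem frob8_minus3 {p : ℕ} [Fact p.Prime] [CharP K p] (h2 : (2 : K) ≠ 0) (c d : K) :
    Frob8 (Cfsg.Omega K (Cfsg.quadFormMinus 3 K c d)) := by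
  obtain ⟨a, b, h⟩ := exists_sq (K := K) p
  refine frob8_frame (isFrame_of (E := fromRows (fromRows (X3 a b) (Y3 a b)) (Z2 a b))
    (S := fromBlocks (fromBlocks 0 1 1 0) 0 0 !![2, c; c, 2 * d]) (d := -2) h2
    (neg_ne_zero.2 h2) ?_ ?_ ?_) h2
  · intro v
    have h3 : Cfsg.quadFormMinus 3 K c d v = Cfsg.quadFormPlus 3 K (v ∘ Sum.inl) +
      (v (.inr 0) ^ 2 + c * v (.inr 0) * v (.inr 1) + d * v (.inr 1) ^ 2) := rfl
    rw [h3, mul_add, hyp_q]
    simp only [Matrix.fromBlocks_mulVec, dotProduct, Fintype.sum_sum_type]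
    simp [dotProduct, Fin.sum_univ_succ]
    ring
  · rw [Matrix.fromBlocks_transpose, hyp_tr, Matrix.transpose_zero, Matrix.transpose_zero]
    congr 1
    ext i j
    fin_cases i <;> fin_cases j <;> rfl
  · rw [Matrix.transpose_fromRows, Matrix.transpose_fromRows, Matrix.fromCols_mul_fromBlocks,
      Matrix.fromCols_mul_fromRows, Matrix.mul_zero, add_zero, Matrix.mul_zero, zero_add,
      Matrix.fromCols_mul_fromBlocks, Matrix.fromCols_mul_fromRows]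
    simp only [Matrix.mul_zero, Matrix.mul_one, zero_add, add_zero]
    exact frame2 h c d

/-- `2^3:7 ≤ PΩ⁺_{2m}(q)`, `q` odd, `m ≥ 4` -/
theorem frob8_pomega_plus {p : ℕ} [Fact p.Prime] [CharP K p] (h2 : (2 : K) ≠ 0) {m : ℕ} (hm : 4 ≤ m) :
    Frob8 (Cfsg.POmega K (Cfsg.quadFormPlus m K)) := by
  obtain ⟨f, hf⟩ := H912.Bd.exists_plus (K := K) hm
  exact (frob8_plus4 (p := p) h2).map f hf

/-- `2^3:7 ≤ PΩ_{2m+1}(q)`, `q` odd, `m ≥ 3` -/
theorem frob8_pomega_odd {p : ℕ} [Fact p.Prime] [CharP K p] (h2 : (2 : K) ≠ 0) {m : ℕ} (hm : 3 ≤ m) :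
    Frob8 (Cfsg.POmega K (Cfsg.quadFormOdd m K)) := by
  rcases eq_or_lt_of_le hm with rfl | h4
  · exact (frob8_odd3 (p := p) h2).quot
  · obtain ⟨f, hf⟩ := H912.Bd.exists_odd (K := K) (show 4 ≤ m from h4)
    exact (frob8_plus4 (p := p) h2).map f hf

/-- `2^3:7 ≤ PΩ⁻_{2m+2}(q)`, `q` odd, `m ≥ 3` -/
theorem frob8_pomega_minus {p : ℕ} [Fact p.Prime] [CharP K p] (h2 : (2 : K) ≠ 0) {m : ℕ} (hm : 3 ≤ m) (c d : K) :
    Frob8 (Cfsg.POmega K (Cfsg.quadFormMinus m K c d)) := by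
  obtain ⟨f, hf⟩ := H912.Bd.exists_minus_minus (K := K) hm c d
  exact (frob8_minus3 (p := p) h2 c d).map f hf

end inst

end Cfsg.Agent.H871.Par
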