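import Cfsg.Agent.H871.A7Reg

/-!
# The algebra generated by five elements with the Clifford relations has dimension at most 32
-/

set_option autoImplicit false
set_option linter.unusedSectionVars false

namespace Cfsg.Agent.H871.A7

open Module

variable {K : Type*} [Field K] {R : Type*} [Ring R] [Algebra K R] {x : ℕ → R}

/-- the spans -/
def cs (x : ℕ → R) : ℕ → Submodule K R
  | 0 => Submodule.span K {1}
  | k + 1 => cs x k ⊔ (cs x k).map (LinearMap.mulRight K (x k))

theorem cs_succ (k : ℕ) : cs (K := K) x (k + 1) = cs x k ⊔ (cs x k).map (LinearMap.mulRight K (x k)) := rfl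

theorem mem_cs_succ {k : ℕ} {y : R} : y ∈ cs (K := K) x (k + 1) ↔ ∃ s ∈ cs (K := K) x k, ∃ t ∈ cs (K := K) x k, y = s + t * x k := by
  rw [cs_succ, Submodule.mem_sup]
  constructor
  · rintro ⟨s, hs, _, ⟨t, ht, rfl⟩, rfl⟩
    exact ⟨s, hs, t, ht, rfl⟩
  · rintro ⟨s, hs, t, ht, rfl⟩
    exact ⟨s, hs, _, ⟨t, ht, rfl⟩, rfl⟩

theorem one_mem_cs (k : ℕ) : (1 : R) ∈ cs (K := K) x k := by
  induction k with
  | zero => exact Submodule.mem_span_singleton_self 1
  | succ k ih => exact mem_cs_succ.2 ⟨1, ih, 0, Submodule.zero_mem _, by simp⟩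

instance fin_cs (k : ℕ) : FiniteDimensional K (cs (K := K) x k) := by
  induction k with
  | zero => exact inferInstanceAs (FiniteDimensional K (Submodule.span K {(1 : R)}))
  | succ k ih =>
    rw [cs_succ]
    infer_instance

theorem finrank_cs (k : ℕ) : finrank K (cs (K := K) x k) ≤ 2 ^ k := by
  induction k with
  | zero => exact (finrank_span_le_card ({1} : Set R)).trans (by simp)
  | succ k ih =>
    rw [cs_succ]
    have h1 := Submodule.finrank_add_le_finrank_add_finrank (cs (K := K) x k) ((cs (K := K) x k).map (LinearMap.mulRight K (x k)))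
    have h2 := Submodule.finrank_map_le (LinearMap.mulRight K (x k)) (cs (K := K) x k)
    rw [pow_succ]
    omega

/-- the relation `(x y)² = -1` in terms of commutators -/
theorem anti_of {a b : R} (ha : a * a + a + 1 = 0) (hb : b * b + b + 1 = 0) (hab : a * b * (a * b) = -1) :
    b * a = -1 - a - b - a * b := by
  have ha' : (-1 - a) * a = 1 := by
    have : (-1 - a) * a = -(a * a + a + 1) + 1 := by noncomm_ring
    rw [this, ha, neg_zero, zero_add]
  have h1 : b * a * b = 1 + a := by
    have h2 : (-1 - a) * (a * b * (a * b)) = (-1 - a) * a * (b * a * b) := by noncomm_ring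
    rw [ha', one_mul, hab] at h2
    rw [← h2]
    noncomm_ring
  have hb' : b * (-1 - b) = 1 := by
    have : b * (-1 - b) = -(b * b + b + 1) + 1 := by noncomm_ring
    rw [this, hb, neg_zero, zero_add]
  have h3 : b * a * (b * (-1 - b)) = (1 + a) * (-1 - b) := by
    rw [← h1]
    noncomm_ring
  rw [hb', mul_one] at h3
  rw [h3]
  noncomm_ring

theorem mul_cs {n : ℕ} (hx : ∀ i < n, x i * x i + x i + 1 = 0)
    (hxy : ∀ i < n, ∀ j < n, i ≠ j → x i * x j * (x i * x j) = -1) :
    ∀ k ≤ n, (∀ i < k, ∀ s ∈ cs (K := K) x k, x i * s ∈ cs (K := K) x k) ∧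
      ∀ j < n, k ≤ j → ∀ s ∈ cs (K := K) x k, ∃ t ∈ cs (K := K) x k, ∃ t' ∈ cs (K := K) x k, x j * s = t + t' * x j := by
  intro k
  induction k with
  | zero =>
    intro _
    refine ⟨fun i hi => absurd hi (Nat.not_lt_zero i), fun j hj _ s hs => ?_⟩
    obtain ⟨c, rfl⟩ := Submodule.mem_span_singleton.1 hs
    exact ⟨0, Submodule.zero_mem _, c • 1, hs, by simp⟩
  | succ k ih =>
    intro hk
    obtain ⟨h1, h2⟩ := ih (by omega)
    constructor
    · intro i hi s hs
      obtain ⟨a, ha, b, hb, rfl⟩ := mem_cs_succ.1 hs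
      rcases (show i < k ∨ i = k by omega) with hi | rfl
      · exact mem_cs_succ.2 ⟨_, h1 i hi a ha, _, h1 i hi b hb, by rw [mul_add, mul_assoc]⟩
      · obtain ⟨t, ht, t', ht', e⟩ := h2 i (by omega) le_rfl a ha
        obtain ⟨u, hu, u', hu', e'⟩ := h2 i (by omega) le_rfl b hb
        refine mem_cs_succ.2 ⟨t - u', Submodule.sub_mem _ ht hu', t' + u - u', Submodule.sub_mem _ (Submodule.add_mem _ ht' hu) hu', ?_⟩
        have hxx : x i * x i = -x i - 1 := by
          have := hx i (by omega)
          rw [add_assoc] at this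
          rw [eq_neg_of_add_eq_zero_left this]
          abel
        rw [mul_add, e, ← mul_assoc, e', add_mul, mul_assoc, hxx]
        noncomm_ring
    · intro j hj hkj s hs
      obtain ⟨a, ha, b, hb, rfl⟩ := mem_cs_succ.1 hs
      obtain ⟨t, ht, t', ht', e⟩ := h2 j hj (by omega) a ha
      obtain ⟨u, hu, u', hu', e'⟩ := h2 j hj (by omega) b hb
      have hanti := anti_of (hx k (by omega)) (hx j hj) (hxy k (by omega) j hj (by omega))
      refine ⟨(t - u') + (u - u') * x k, mem_cs_succ.2 ⟨_, Submodule.sub_mem _ ht hu', _, Submodule.sub_mem _ hu hu', rfl⟩,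
        (t' - u') + (-u') * x k, mem_cs_succ.2 ⟨_, Submodule.sub_mem _ ht' hu', _, Submodule.neg_mem _ hu', rfl⟩, ?_⟩
      rw [mul_add, e, ← mul_assoc, e', add_mul, mul_assoc u', hanti]
      noncomm_ring

/-- **The dimension bound.** -/
theorem adjoin_le {n : ℕ} (hx : ∀ i < n, x i * x i + x i + 1 = 0)
    (hxy : ∀ i < n, ∀ j < n, i ≠ j → x i * x j * (x i * x j) = -1) {y : R}
    (hy : y ∈ Algebra.adjoin K {r | ∃ i < n, r = x i}) : y ∈ cs (K := K) x n := by
  have key : ∀ s ∈ cs (K := K) x n, y * s ∈ cs (K := K) x n := by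
    induction hy using Algebra.adjoin_induction with
    | mem r hr =>
      obtain ⟨i, hi, rfl⟩ := hr
      exact (mul_cs hx hxy n le_rfl).1 i hi
    | algebraMap c =>
      intro s hs
      rw [← Algebra.smul_def]
      exact Submodule.smul_mem _ _ hs
    | add a b _ _ ha hb =>
      intro s hs
      rw [add_mul]
      exact Submodule.add_mem _ (ha s hs) (hb s hs)
    | mul a b _ _ ha hb =>
      intro s hs
      rw [mul_assoc]
      exact ha _ (hb s hs)
  have h1 := key 1 (one_mem_cs n)
  rwa [mul_one] at h1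

/-- A group generated by `x i` and a scalar spans at most `2 ^ n` dimensions. -/
theorem span_bound {D : Type*} [Group D] [Finite D] (σ : D →* R) {n : ℕ} {g : ℕ → D}
    (hg : Subgroup.closure {d | ∃ i < n, d = g i} = ⊤)
    (hx : ∀ i < n, σ (g i) * σ (g i) + σ (g i) + 1 = 0)
    (hxy : ∀ i < n, ∀ j < n, i ≠ j → σ (g i) * σ (g j) * (σ (g i) * σ (g j)) = -1)
    (hspan : Submodule.span K (Set.range σ) = ⊤) : finrank K R ≤ 2 ^ n := by
  have h1 : ∀ d : D, σ d ∈ Algebra.adjoin K {r | ∃ i < n, r = σ (g i)} := by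
    intro d
    have hd : d ∈ Subgroup.closure {d | ∃ i < n, d = g i} := by rw [hg]; trivial
    induction hd using Subgroup.closure_induction with
    | mem d hd =>
      obtain ⟨i, hi, rfl⟩ := hd
      exact Algebra.subset_adjoin ⟨i, hi, rfl⟩
    | one => rw [map_one]; exact Subalgebra.one_mem _
    | mul a b _ _ ha hb => rw [map_mul]; exact Subalgebra.mul_mem _ ha hb
    | inv a _ ha =>
      have h2 : a⁻¹ = a ^ (orderOf a - 1) := by
        rw [inv_eq_iff_mul_eq_one, ← pow_succ', Nat.sub_add_cancel (orderOf_pos a), pow_orderOf_eq_one]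
      rw [h2, map_pow]
      exact Subalgebra.pow_mem _ ha _
  have h2 : (⊤ : Submodule K R) ≤ cs (K := K) (fun i => σ (g i)) n := by
    rw [← hspan, Submodule.span_le]
    rintro _ ⟨d, rfl⟩
    exact adjoin_le hx hxy (h1 d)
  have h3 : cs (K := K) (fun i => σ (g i)) n = ⊤ := top_le_iff.1 h2
  have h4 := finrank_cs (K := K) (x := fun i => σ (g i)) n
  rw [h3, finrank_top] at h4
  exact h4

end Cfsg.Agent.H871.A7
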