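import Cfsg.Agent.H871.A7Reg
import Cfsg.Agent.H637.A7Grp

/-!
# `A₇` has no faithful symplectic module of dimension eight (odd characteristic)
-/

set_option autoImplicit false
set_option linter.unusedSectionVars false

namespace Cfsg.Agent.H871.A7

open Module Equiv Equiv.Perm Cfsg.Agent.H912.Bd Cfsg.Agent.H871.Par Cfsg.Agent.H637.A7Grp

variable {K : Type*} [Field K] {V : Type*} [AddCommGroup V] [Module K V] {L : Type*} [Group L]
  [FiniteDimensional K V] (ρ : L →* Module.End K V)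

theorem sq_of {t : L} (ht : t * t = 1) (v : V) : ρ t (ρ t v) = v := by
  rw [← Module.End.mul_apply, ← map_mul, ht, map_one]
  rfl

/-- the fixed space of a conjugate -/
theorem finrank_conj (g t : L) (lam : K) :
    finrank K ((ρ (g * t * g⁻¹)).eigenspace lam) = finrank K ((ρ t).eigenspace lam) := by
  have key : ∀ (g t : L), finrank K ((ρ (g * t * g⁻¹)).eigenspace lam) ≤ finrank K ((ρ t).eigenspace lam) := by
    intro g t
    have h1 : ((ρ (g * t * g⁻¹)).eigenspace lam).map (ρ g⁻¹) ≤ (ρ t).eigenspace lam := by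
      rintro _ ⟨v, hv, rfl⟩
      rw [SetLike.mem_coe, Module.End.mem_eigenspace_iff] at hv
      rw [Module.End.mem_eigenspace_iff, ← map_smul, ← hv, ← Module.End.mul_apply, ← Module.End.mul_apply, ← map_mul,
        ← map_mul]
      congr 2
      group
    exact (Submodule.equivMapOfInjective (ρ g⁻¹) (rho_injective ρ g⁻¹) _).finrank_eq.trans_le (Submodule.finrank_mono h1)
  apply le_antisymm (key g t)
  have h2 := key g⁻¹ (g * t * g⁻¹)
  have h3 : g⁻¹ * (g * t * g⁻¹) * g⁻¹⁻¹ = t := by group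
  rwa [h3] at h2

section four

variable (B : LinearMap.BilinForm K V) (hnd : ∀ u, (∀ v, B u v = 0) → u = 0)
  (hinv : ∀ g u v, B (ρ g u) (ρ g v) = B u v) (hAlt : B.IsAlt) (h2 : (2 : K) ≠ 0) (h8 : finrank K V = 8)

include hnd hinv hAlt h2 h8 in
/-- a four-group with conjugate involutions -/
theorem klein {t s : L} (ht : t * t = 1) (hs : s * s = 1) (hts : t * s = s * t)
    (hc1 : finrank K ((ρ t).eigenspace 1) = finrank K ((ρ s).eigenspace 1))
    (hc2 : finrank K ((ρ t).eigenspace 1) = finrank K ((ρ (s * t)).eigenspace 1)) (hs1 : ρ s ≠ 1) :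
    finrank K ↥((ρ t).eigenspace 1) = 4 ∧ finrank K ↥((ρ t).eigenspace 1 ⊓ (ρ s).eigenspace 1) = 2 := by
  have hcomm : ∀ v, ρ t (ρ s v) = ρ s (ρ t v) := by
    intro v
    rw [← Module.End.mul_apply, ← Module.End.mul_apply, ← map_mul, ← map_mul, hts]
  have hst1 : ∀ (e : K), ∀ v ∈ (ρ t).eigenspace e, ρ s v ∈ (ρ t).eigenspace e := by
    intro e v hv
    rw [Module.End.mem_eigenspace_iff] at hv ⊢
    rw [hcomm, hv, map_smul]
  have hst2 : ∀ (e : K), ∀ v ∈ (ρ s).eigenspace e, ρ t v ∈ (ρ s).eigenspace e := by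
    intro e v hv
    rw [Module.End.mem_eigenspace_iff] at hv ⊢
    rw [← hcomm, hv, map_smul]
  have hst3 : ∀ v ∈ (ρ (s * t)).eigenspace 1, ρ t v ∈ (ρ (s * t)).eigenspace 1 := by
    intro v hv
    rw [Module.End.mem_eigenspace_iff, map_mul, Module.End.mul_apply] at hv ⊢
    rw [← hcomm, hv, map_smul]
  -- the total
  have a0 := split2 (K := K) h2 (T := ρ t) (U := ⊤) (fun _ _ => Submodule.mem_top) (fun v _ => sq_of ρ ht v)
  rw [top_inf_eq, top_inf_eq, finrank_top, h8] at a0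
  have a1 := split2 (K := K) h2 (T := ρ s) (U := (ρ t).eigenspace 1) (hst1 1) (fun v _ => sq_of ρ hs v)
  have a2 := split2 (K := K) h2 (T := ρ s) (U := (ρ t).eigenspace (-1)) (hst1 (-1)) (fun v _ => sq_of ρ hs v)
  have a3 := split2 (K := K) h2 (T := ρ t) (U := (ρ s).eigenspace 1) (hst2 1) (fun v _ => sq_of ρ ht v)
  have a4 := split2 (K := K) h2 (T := ρ t) (U := (ρ (s * t)).eigenspace 1) hst3 (fun v _ => sq_of ρ ht v)
  have b1 : (ρ (s * t)).eigenspace 1 ⊓ (ρ t).eigenspace 1 = (ρ t).eigenspace 1 ⊓ (ρ s).eigenspace 1 := by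
    ext v
    simp only [Submodule.mem_inf, Module.End.mem_eigenspace_iff, map_mul, Module.End.mul_apply, one_smul]
    constructor
    · rintro ⟨h1, h3⟩
      rw [h3] at h1
      exact ⟨h3, h1⟩
    · rintro ⟨h1, h3⟩
      rw [h1]
      exact ⟨h3, rfl⟩
  have b2 : (ρ (s * t)).eigenspace 1 ⊓ (ρ t).eigenspace (-1) = (ρ t).eigenspace (-1) ⊓ (ρ s).eigenspace (-1) := by
    ext v
    simp only [Submodule.mem_inf, Module.End.mem_eigenspace_iff, map_mul, Module.End.mul_apply, one_smul, neg_smul]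
    constructor
    · rintro ⟨h1, h3⟩
      rw [h3, map_neg] at h1
      exact ⟨h3, neg_eq_iff_eq_neg.1 h1⟩
    · rintro ⟨h1, h3⟩
      rw [h1, map_neg, h3, neg_neg]
      exact ⟨rfl, rfl⟩
  rw [b1, b2] at a4
  rw [inf_comm ((ρ s).eigenspace 1), inf_comm ((ρ s).eigenspace 1)] at a3
  -- parity
  have n0 : ND B ⊤ := fun u _ h => hnd u fun v => h v Submodule.mem_top
  have n1 : ND B ((ρ t).eigenspace 1) := by
    have := nd_split (K := K) h2 (T := ρ t) (hinv t) (U := ⊤) (fun _ _ => Submodule.mem_top) (fun v _ => sq_of ρ ht v) n0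
      (e := 1) (one_mul 1)
    rwa [top_inf_eq] at this
  have n2 : ND B ((ρ t).eigenspace (-1)) := by
    have := nd_split (K := K) h2 (T := ρ t) (hinv t) (U := ⊤) (fun _ _ => Submodule.mem_top) (fun v _ => sq_of ρ ht v) n0
      (e := -1) (by ring)
    rwa [top_inf_eq] at this
  have e1 := even_nd hAlt (nd_split (K := K) h2 (T := ρ s) (hinv s) (hst1 1) (fun v _ => sq_of ρ hs v) n1 (e := 1)
    (one_mul 1))
  have e2 := even_nd hAlt (nd_split (K := K) h2 (T := ρ s) (hinv s) (hst1 1) (fun v _ => sq_of ρ hs v) n1 (e := -1)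
    (by ring))
  have hne : finrank K ↥((ρ t).eigenspace 1 ⊓ (ρ s).eigenspace (-1)) ≠ 0 := by
    intro h0
    have h5 : finrank K ((ρ s).eigenspace 1) = 8 := by omega
    apply hs1
    have h6 : (ρ s).eigenspace 1 = ⊤ := Submodule.eq_top_of_finrank_eq (by rw [h5, h8])
    apply LinearMap.ext
    intro v
    have h7 : v ∈ (ρ s).eigenspace 1 := by rw [h6]; trivial
    rw [Module.End.mem_eigenspace_iff, one_smul] at h7
    exact h7
  obtain ⟨x, hx⟩ := e1
  obtain ⟨y, hy⟩ := e2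
  omega

include hnd hinv hAlt h2 h8 in
/-- dihedral groups of order eight: `r` has an eigenspace of dimension four -/
theorem dihedral {r s : L} (hr4 : (r * r) * (r * r) = 1) (hs : s * s = 1) (hsr : s * r * (s * r) = 1)
    (hc : ∀ t ∈ ({r * r, s, s * r, s * (r * r), s * r * (r * r)} : Set L),
      finrank K ((ρ t).eigenspace 1) = finrank K ((ρ (r * r)).eigenspace 1))
    (hs1 : ρ s ≠ 1) (hsr1 : ρ (s * r) ≠ 1)
    (hr1 : finrank K ((ρ r).eigenspace 1) ≤ 2) (hr2 : finrank K ((ρ r).eigenspace (-1)) ≤ 2) : False := by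
  have hsrs : s * r * s = r⁻¹ := by
    rw [eq_inv_iff_mul_eq_one, mul_assoc, mul_assoc] 
    rw [← mul_assoc] at hsr
    simpa [mul_assoc] using hsr
  have hri : r⁻¹ = r * (r * r) := by
    rw [inv_eq_iff_mul_eq_one, ← hr4]
    group
  have hs' : s⁻¹ = s := inv_eq_of_mul_eq_one_left hs
  have hrs : r * s = s * r⁻¹ := by
    rw [← hsrs]
    calc r * s = (s * s) * r * s := by rw [hs, one_mul]
      _ = s * (s * r * s) := by group
  have hr2s : r * r * s = s * (r * r) := by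
    calc r * r * s = r * (r * s) := by group
      _ = r * (s * r⁻¹) := by rw [hrs]
      _ = (r * s) * r⁻¹ := by group
      _ = (s * r⁻¹) * r⁻¹ := by rw [hrs]
      _ = s * (r⁻¹ * r⁻¹) := by group
      _ = s * (r * r) := by
        congr 1
        rw [← mul_inv_rev]
        exact inv_eq_of_mul_eq_one_left hr4
  have k1 := klein ρ B hnd hinv hAlt h2 h8 (t := r * r) (s := s) hr4 hs hr2s (hc s (by simp)).symm
    (hc _ (by simp)).symm hs1
  have k2 := klein ρ B hnd hinv hAlt h2 h8 (t := r * r) (s := s * r) hr4 hsr (by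
      rw [← mul_assoc, hr2s]
      group) (hc _ (by simp)).symm
    (hc _ (by simp)).symm hsr1
  set U := (ρ (r * r)).eigenspace (1 : K) with hUdef
  have hmU : ∀ v, v ∈ U ↔ ρ r (ρ r v) = v := by
    intro v
    rw [hUdef, Module.End.mem_eigenspace_iff, one_smul, map_mul, Module.End.mul_apply]
  -- on `U`, `s` and `r` commute
  have hcom : ∀ v ∈ U, ρ s (ρ r v) = ρ r (ρ s v) := by
    intro v hv
    have h3 : ρ r (ρ s v) = ρ s (ρ r⁻¹ v) := by
      rw [← Module.End.mul_apply, ← Module.End.mul_apply, ← map_mul, ← map_mul, hrs]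
    rw [h3]
    congr 1
    have h4 : ρ r⁻¹ (ρ r (ρ r v)) = ρ r v := by
      rw [← Module.End.mul_apply, ← map_mul, inv_mul_cancel, map_one]
      rfl
    rw [(hmU v).1 hv] at h4
    exact h4.symm
  have hsU : ∀ v ∈ U, ρ s v ∈ U := by
    intro v hv
    rw [hmU, ← hcom v hv]
    have hrv : ρ r v ∈ U := by rw [hmU, (hmU v).1 hv]
    rw [← hcom _ hrv, (hmU v).1 hv]
  have hrU : ∀ v ∈ U, ρ r v ∈ U := by
    intro v hv
    rw [hmU, (hmU v).1 hv]
  -- the four pieces
  have c1 := split2 (K := K) h2 (T := ρ r) (U := U ⊓ (ρ s).eigenspace 1) (by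
      rintro v ⟨hv, hv'⟩
      refine ⟨hrU v hv, ?_⟩
      change _ ∈ (ρ s).eigenspace 1
      have e1 := Module.End.mem_eigenspace_iff.1 hv'
      rw [Module.End.mem_eigenspace_iff, hcom v hv, e1, map_smul]) (fun v hv => (hmU v).1 hv.1)
  have c2 := split2 (K := K) h2 (T := ρ r) (U := U ⊓ (ρ (s * r)).eigenspace 1) (by
      rintro v ⟨hv, hv'⟩
      refine ⟨hrU v hv, ?_⟩
      change _ ∈ (ρ (s * r)).eigenspace 1
      have e1 := Module.End.mem_eigenspace_iff.1 hv'
      rw [map_mul, Module.End.mul_apply] at e1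
      rw [Module.End.mem_eigenspace_iff, map_mul, Module.End.mul_apply, hcom _ (hrU v hv), e1, map_smul])
    (fun v hv => (hmU v).1 hv.1)
  have c3 := split2 (K := K) h2 (T := ρ r) (U := U) hrU (fun v hv => (hmU v).1 hv)
  have c4 := split2 (K := K) h2 (T := ρ s) (U := (ρ r).eigenspace 1) (by
      intro v hv
      have e1 := Module.End.mem_eigenspace_iff.1 hv
      have hvU : v ∈ U := by rw [hmU, e1, map_smul, e1]; simp
      rw [Module.End.mem_eigenspace_iff, ← hcom v hvU, e1, map_smul]) (fun v _ => sq_of ρ hs v)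
  have hU1 : (ρ r).eigenspace 1 ≤ U := by
    intro v hv
    have e1 := Module.End.mem_eigenspace_iff.1 hv
    rw [hmU, e1, map_smul, e1]; simp
  have hU2 : (ρ r).eigenspace (-1) ≤ U := by
    intro v hv
    have e1 := Module.End.mem_eigenspace_iff.1 hv
    rw [hmU, e1, map_smul, e1]; simp
  rw [inf_eq_right.2 hU1, inf_eq_right.2 hU2] at c3
  have d1 : U ⊓ (ρ s).eigenspace 1 ⊓ (ρ r).eigenspace 1 = (ρ r).eigenspace 1 ⊓ (ρ s).eigenspace 1 := by
    rw [inf_right_comm, inf_eq_right.2 hU1]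
  have d2 : U ⊓ (ρ (s * r)).eigenspace 1 ⊓ (ρ r).eigenspace 1 = (ρ r).eigenspace 1 ⊓ (ρ s).eigenspace 1 := by
    rw [inf_right_comm, inf_eq_right.2 hU1]
    ext v
    simp only [Submodule.mem_inf, Module.End.mem_eigenspace_iff, map_mul, Module.End.mul_apply, one_smul]
    constructor
    · rintro ⟨h1, h3⟩
      rw [h1] at h3
      exact ⟨h1, h3⟩
    · rintro ⟨h1, h3⟩
      rw [h1]
      exact ⟨rfl, h3⟩
  have d3 : U ⊓ (ρ (s * r)).eigenspace 1 ⊓ (ρ r).eigenspace (-1) = (ρ r).eigenspace (-1) ⊓ (ρ s).eigenspace (-1) := by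
    rw [inf_right_comm, inf_eq_right.2 hU2]
    ext v
    simp only [Submodule.mem_inf, Module.End.mem_eigenspace_iff, map_mul, Module.End.mul_apply, one_smul, neg_smul]
    constructor
    · rintro ⟨h1, h3⟩
      rw [h1, map_neg] at h3
      exact ⟨h1, neg_eq_iff_eq_neg.1 h3⟩
    · rintro ⟨h1, h3⟩
      rw [h1, map_neg, h3, neg_neg]
      exact ⟨rfl, rfl⟩
  have d4 : U ⊓ (ρ s).eigenspace 1 ⊓ (ρ r).eigenspace (-1) = (ρ r).eigenspace (-1) ⊓ (ρ s).eigenspace 1 := by
    rw [inf_right_comm, inf_eq_right.2 hU2]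
  have c5 := split2 (K := K) h2 (T := ρ s) (U := (ρ r).eigenspace (-1)) (by
      intro v hv
      have e1 := Module.End.mem_eigenspace_iff.1 hv
      have hvU : v ∈ U := hU2 hv
      rw [Module.End.mem_eigenspace_iff, ← hcom v hvU, e1, map_smul]) (fun v _ => sq_of ρ hs v)
  rw [d1, d4] at c1
  rw [d2, d3] at c2
  -- parity
  have n0 : ND B ⊤ := fun u _ h => hnd u fun v => h v Submodule.mem_top
  have n1 : ND B U := by
    have := nd_split (K := K) h2 (T := ρ (r * r)) (hinv _) (U := ⊤) (fun _ _ => Submodule.mem_top)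
      (fun v _ => sq_of ρ hr4 v) n0 (e := 1) (one_mul 1)
    rwa [top_inf_eq] at this
  have n2 : ND B (U ⊓ (ρ r).eigenspace 1) :=
    nd_split (K := K) h2 (T := ρ r) (hinv _) hrU (fun v hv => (hmU v).1 hv) n1 (e := 1) (one_mul 1)
  rw [inf_eq_right.2 hU1] at n2
  have e1 := even_nd hAlt (nd_split (K := K) h2 (T := ρ s) (hinv s) (U := (ρ r).eigenspace 1) (by
      intro v hv
      have e1 := Module.End.mem_eigenspace_iff.1 hv
      rw [Module.End.mem_eigenspace_iff, ← hcom v (hU1 hv), e1, map_smul]) (fun v _ => sq_of ρ hs v) n2 (e := 1)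
    (one_mul 1))
  obtain ⟨x, hx⟩ := e1
  omega

end four

/-! ### the alternating group of degree seven -/

abbrev A7 := alternatingGroup (Fin 7)

/-- elements of `A₇` -/
def mk (x : Perm (Fin 7)) (h : sign x = 1) : A7 := ⟨x, mem_alternatingGroup.2 h⟩

def r5 : A7 := mk (c[1, 2, 4, 3] * c[5, 6]) (by decide +kernel)
def s5 : A7 := mk (c[1, 2] * c[3, 4]) (by decide +kernel)
def a5 : A7 := mk (c[0, 1, 2, 3, 4]) (by decide +kernel)
def r3 : A7 := mk (c[0, 3, 1, 4] * c[2, 5]) (by decide +kernel)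
def s3 : A7 := mk (c[0, 3] * c[1, 4]) (by decide +kernel)
def c3 : A7 := mk (c[0, 1, 2]) (by decide +kernel)
def t3 : A7 := mk (c[3, 4, 5]) (by decide +kernel)

theorem r5_4 : r5 * r5 * (r5 * r5) = 1 := by decide +kernel
theorem s5_2 : s5 * s5 = 1 := by decide +kernel
theorem sr5_2 : s5 * r5 * (s5 * r5) = 1 := by decide +kernel
theorem ra5 : r5 * a5 * r5⁻¹ = a5 ^ 2 := by decide +kernel
theorem a5_5 : a5 ^ 5 = 1 := by decide +kernel
theorem a5_ne : a5 ≠ 1 := by decide +kernel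
theorem s5_ne : s5 ≠ 1 := by decide +kernel
theorem sr5_ne : s5 * r5 ≠ 1 := by decide +kernel
theorem ts5_1 : (r5 * r5) * (r5 * r5) = 1 ∧ r5 * r5 ≠ 1 := ⟨by decide +kernel, by decide +kernel⟩
theorem ts5_4 : (s5 * (r5 * r5)) * (s5 * (r5 * r5)) = 1 ∧ s5 * (r5 * r5) ≠ 1 := ⟨by decide +kernel, by decide +kernel⟩
theorem ts5_5 : (s5 * r5 * (r5 * r5)) * (s5 * r5 * (r5 * r5)) = 1 ∧ s5 * r5 * (r5 * r5) ≠ 1 :=
  ⟨by decide +kernel, by decide +kernel⟩

theorem ts5 {t : A7} (ht : t ∈ ({r5 * r5, s5, s5 * r5, s5 * (r5 * r5), s5 * r5 * (r5 * r5)} : Set A7)) :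
    t * t = 1 ∧ t ≠ 1 := by
  simp only [Set.mem_insert_iff, Set.mem_singleton_iff] at ht
  rcases ht with rfl | rfl | rfl | rfl | rfl
  · exact ts5_1
  · exact ⟨s5_2, s5_ne⟩
  · exact ⟨sr5_2, sr5_ne⟩
  · exact ts5_4
  · exact ts5_5

theorem r3_4 : r3 * r3 * (r3 * r3) = 1 := by decide +kernel
theorem s3_2 : s3 * s3 = 1 := by decide +kernel
theorem sr3_2 : s3 * r3 * (s3 * r3) = 1 := by decide +kernel
theorem rc3 : r3 * c3 * r3⁻¹ = t3 := by decide +kernel
theorem rt3 : r3 * t3 * r3⁻¹ = c3⁻¹ := by decide +kernel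
theorem c3_3 : c3 ^ 3 = 1 := by decide +kernel
theorem t3_3 : t3 ^ 3 = 1 := by decide +kernel
theorem ct3 : c3 * t3 = t3 * c3 := by decide +kernel
theorem c3_ne : c3 ≠ 1 := by decide +kernel
theorem s3_ne : s3 ≠ 1 := by decide +kernel
theorem sr3_ne : s3 * r3 ≠ 1 := by decide +kernel
theorem ts3_1 : (r3 * r3) * (r3 * r3) = 1 ∧ r3 * r3 ≠ 1 := ⟨by decide +kernel, by decide +kernel⟩
theorem ts3_4 : (s3 * (r3 * r3)) * (s3 * (r3 * r3)) = 1 ∧ s3 * (r3 * r3) ≠ 1 := ⟨by decide +kernel, by decide +kernel⟩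
theorem ts3_5 : (s3 * r3 * (r3 * r3)) * (s3 * r3 * (r3 * r3)) = 1 ∧ s3 * r3 * (r3 * r3) ≠ 1 :=
  ⟨by decide +kernel, by decide +kernel⟩

theorem ts3 {t : A7} (ht : t ∈ ({r3 * r3, s3, s3 * r3, s3 * (r3 * r3), s3 * r3 * (r3 * r3)} : Set A7)) :
    t * t = 1 ∧ t ≠ 1 := by
  simp only [Set.mem_insert_iff, Set.mem_singleton_iff] at ht
  rcases ht with rfl | rfl | rfl | rfl | rfl
  · exact ts3_1
  · exact ⟨s3_2, s3_ne⟩
  · exact ⟨sr3_2, sr3_ne⟩
  · exact ts3_4
  · exact ts3_5

theorem finrank_inv {K : Type*} [Field K] {V : Type*} [AddCommGroup V] [Module K V] [FiniteDimensional K V]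
    (ρ : A7 →* Module.End K V) {t u : A7} (ht : t * t = 1 ∧ t ≠ 1) (hu : u * u = 1 ∧ u ≠ 1) :
    finrank K ((ρ t).eigenspace 1) = finrank K ((ρ u).eigenspace 1) := by
  obtain ⟨c, hc⟩ := isConj_iff.1 (invol_conj hu.1 hu.2 ht.1 ht.2)
  rw [← hc]
  exact finrank_conj ρ c u 1

/-- **`A₇` has no faithful symplectic module of dimension eight.** -/
theorem one_false {K : Type*} [Field K] [IsAlgClosed K] {V : Type*} [AddCommGroup V] [Module K V]
    [FiniteDimensional K V] (ρ : A7 →* Module.End K V) (hρ : Function.Injective ρ)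
    (B : LinearMap.BilinForm K V) (hnd : ∀ u, (∀ v, B u v = 0) → u = 0)
    (hinv : ∀ g u v, B (ρ g u) (ρ g v) = B u v) (hAlt : B.IsAlt) (h2 : (2 : K) ≠ 0) (h8 : finrank K V = 8) : False := by
  have hne : ∀ t, t ≠ 1 → ρ t ≠ 1 := fun t ht h => ht (hρ (by rw [h, map_one]))
  by_cases h5 : (5 : K) = 0
  · have h3 : (3 : K) ≠ 0 := by
      intro h3
      apply h2
      linear_combination h5 - h3
    let A : Subgroup A7 := Subgroup.closure {c3, t3}
    have hcA : c3 ∈ A := Subgroup.subset_closure (by simp)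
    have htA : t3 ∈ A := Subgroup.subset_closure (by simp)
    have hcomm : ∀ a ∈ A, ∀ b ∈ A, a * b = b * a := by
      intro a ha b hb
      have := Subgroup.closure_induction₂ (p := fun x y _ _ => x * y = y * x) (k := {c3, t3}) (by
        rintro x y hx hy
        simp only [Set.mem_insert_iff, Set.mem_singleton_iff] at hx hy
        rcases hx with rfl | rfl <;> rcases hy with rfl | rfl
        · rfl
        · exact ct3
        · exact ct3.symm
        · rfl) (by intro x hx; simp) (by intro x hx; simp)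
        (by intro x y z _ _ _ h1 h2; rw [mul_assoc, h2, ← mul_assoc, h1, mul_assoc])
        (by intro x y z _ _ _ h1 h2; rw [← mul_assoc, h1, mul_assoc, h2, ← mul_assoc])
        (by
          intro x y _ _ h
          calc x⁻¹ * y = x⁻¹ * (y * x) * x⁻¹ := by group
            _ = x⁻¹ * (x * y) * x⁻¹ := by rw [h]
            _ = y * x⁻¹ := by group)
        (by
          intro x y _ _ h
          calc x * y⁻¹ = y⁻¹ * (y * x) * y⁻¹ := by group
            _ = y⁻¹ * (x * y) * y⁻¹ := by rw [h]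
            _ = y⁻¹ * x := by group) ha hb
      exact this
    have hexp : ∀ a ∈ A, a ^ 3 = 1 := by
      intro a ha
      induction ha using Subgroup.closure_induction with
      | mem x hx =>
        simp only [Set.mem_insert_iff, Set.mem_singleton_iff] at hx
        rcases hx with rfl | rfl
        · exact c3_3
        · exact t3_3
      | one => rw [one_pow]
      | mul x y hx hy h1 h2 =>
        have h3 : Commute x y := hcomm x hx y hy
        rw [h3.mul_pow, h1, h2, one_mul]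
      | inv x hx h => rw [inv_pow, h, inv_one]
    have hr : ∀ a ∈ A, r3 * a * r3⁻¹ ∈ A := by
      intro a ha
      induction ha using Subgroup.closure_induction with
      | mem x hx =>
        simp only [Set.mem_insert_iff, Set.mem_singleton_iff] at hx
        rcases hx with rfl | rfl
        · rw [rc3]; exact htA
        · rw [rt3]; exact A.inv_mem hcA
      | one => rw [mul_one, mul_inv_cancel]; exact A.one_mem
      | mul x y hx hy h1 h2 =>
        have e : r3 * (x * y) * r3⁻¹ = (r3 * x * r3⁻¹) * (r3 * y * r3⁻¹) := by group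
        rw [e]; exact A.mul_mem h1 h2
      | inv x hx h =>
        have e : r3 * x⁻¹ * r3⁻¹ = (r3 * x * r3⁻¹)⁻¹ := by group
        rw [e]; exact A.inv_mem h
    have hr2 : ∀ a ∈ A, (r3 * r3) * a * (r3 * r3)⁻¹ = a⁻¹ := by
      intro a ha
      induction ha using Subgroup.closure_induction with
      | mem x hx =>
        simp only [Set.mem_insert_iff, Set.mem_singleton_iff] at hx
        rcases hx with rfl | rfl
        · calc r3 * r3 * c3 * (r3 * r3)⁻¹ = r3 * (r3 * c3 * r3⁻¹) * r3⁻¹ := by group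
            _ = c3⁻¹ := by rw [rc3, rt3]
        · calc r3 * r3 * t3 * (r3 * r3)⁻¹ = r3 * (r3 * t3 * r3⁻¹) * r3⁻¹ := by group
            _ = (r3 * c3 * r3⁻¹)⁻¹ := by rw [rt3]; group
            _ = t3⁻¹ := by rw [rc3]
      | one => simp
      | mul x y hx hy h1 h2 =>
        have e : r3 * r3 * (x * y) * (r3 * r3)⁻¹ = (r3 * r3 * x * (r3 * r3)⁻¹) * (r3 * r3 * y * (r3 * r3)⁻¹) := by group
        rw [e, h1, h2, mul_inv_rev]
        exact hcomm _ (A.inv_mem hx) _ (A.inv_mem hy)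
      | inv x hx h =>
        rw [← conj_inv, h]
    have key := reg_four ρ hcomm (N := 3) (by exact_mod_cast h3) hexp B hnd hinv (by decide) hAlt h2 hcA (hne _ c3_ne)
      hr hr2 r3_4 h8
    refine dihedral ρ B hnd hinv hAlt h2 h8 r3_4 s3_2 sr3_2 ?_ (hne _ s3_ne) (hne _ sr3_ne) (key 1) (key (-1))
    intro t ht
    exact finrank_inv ρ (ts3 ht) ts3_1
  · let A : Subgroup A7 := Subgroup.zpowers a5
    have hcA : a5 ∈ A := Subgroup.mem_zpowers a5
    have hcomm : ∀ a ∈ A, ∀ b ∈ A, a * b = b * a := by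
      intro a ha b hb
      obtain ⟨i, rfl⟩ := Subgroup.mem_zpowers_iff.1 ha
      obtain ⟨j, rfl⟩ := Subgroup.mem_zpowers_iff.1 hb
      rw [← zpow_add, ← zpow_add, add_comm]
    have hexp : ∀ a ∈ A, a ^ 5 = 1 := by
      intro a ha
      obtain ⟨i, rfl⟩ := Subgroup.mem_zpowers_iff.1 ha
      rw [← zpow_natCast, ← zpow_mul, mul_comm, zpow_mul, zpow_natCast, a5_5, one_zpow]
    have hr : ∀ a ∈ A, r5 * a * r5⁻¹ ∈ A := by
      intro a ha
      obtain ⟨i, rfl⟩ := Subgroup.mem_zpowers_iff.1 ha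
      rw [← conj_zpow, ra5]
      exact A.zpow_mem (A.pow_mem hcA 2) i
    have hr2 : ∀ a ∈ A, (r5 * r5) * a * (r5 * r5)⁻¹ = a⁻¹ := by
      have h1 : r5 * r5 * a5 * (r5 * r5)⁻¹ = a5⁻¹ := by decide +kernel
      intro a ha
      obtain ⟨i, rfl⟩ := Subgroup.mem_zpowers_iff.1 ha
      rw [← conj_zpow, h1, inv_zpow]
    have key := reg_four ρ hcomm (N := 5) (by exact_mod_cast h5) hexp B hnd hinv (by decide) hAlt h2 hcA (hne _ a5_ne)
      hr hr2 r5_4 h8
    refine dihedral ρ B hnd hinv hAlt h2 h8 r5_4 s5_2 sr5_2 ?_ (hne _ s5_ne) (hne _ sr5_ne) (key 1) (key (-1))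
    intro t ht
    exact finrank_inv ρ (ts5 ht) ts5_1

end Cfsg.Agent.H871.A7
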