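import Cfsg.Agent.H871.A7Span
import Cfsg.Agent.H871.A7One
import Cfsg.Agent.H871.Par3
import Cfsg.Agent.H637.A7Main

/-!
# Cores with socle `A₇` in dimension eight, odd characteristic, do not fix an alternating form

**`a7_eight`**
-/

set_option autoImplicit false
set_option linter.unusedSectionVars false

namespace Cfsg.Agent.H871.A7

open Module Equiv Equiv.Perm Cfsg.Agent.H637.A7Grp Cfsg.Agent.H637.A7Cov

section rep

variable {K : Type*} [Field K] [IsAlgClosed K] {V : Type*} [AddCommGroup V] [Module K V] [FiniteDimensional K V]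

/-- submodules under a spanning set -/
theorem irr_of_span {D : Type*} [Group D] {ρ : D →* Module.End K V} (hspan : Submodule.span K (Set.range ρ) = ⊤)
    (U : Submodule K V) (hU : ∀ d, ∀ v ∈ U, ρ d v ∈ U) : U = ⊥ ∨ U = ⊤ := by
  by_cases h : U = ⊥
  · exact Or.inl h
  · right
    obtain ⟨u, hu, hu0⟩ := Submodule.exists_mem_ne_zero_of_ne_bot h
    have h1 : ∀ A : Module.End K V, ∀ v ∈ U, A v ∈ U := by
      intro A
      have hA : A ∈ Submodule.span K (Set.range ρ) := by rw [hspan]; trivial
      induction hA using Submodule.span_induction with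
      | mem x hx =>
        obtain ⟨d, rfl⟩ := hx
        exact hU d
      | zero => intro v _; exact U.zero_mem
      | add x y _ _ hx hy => intro v hv; exact U.add_mem (hx v hv) (hy v hv)
      | smul c x _ hx => intro v hv; exact U.smul_mem c (hx v hv)
    rw [eq_top_iff]
    intro v _
    have hu' : u ∉ (⊥ : Submodule K V) := fun h0 => hu0 ((Submodule.mem_bot K).1 h0)
    obtain ⟨A, -, hA⟩ := LinearMap.exists_extend_of_notMem (K := K) (0 : (⊥ : Submodule K V) →ₗ[K] V) hu' v
    rw [← hA]
    exact h1 A u hu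

theorem conj_three : ∀ i : Fin 5, ∃ x : alternatingGroup (Fin 7), x * cc * x⁻¹ = s i := by
  intro i
  fin_cases i
  · exact ⟨el (c[0, 4] * c[1, 6, 2, 5]) (by decide +kernel), by decide +kernel⟩
  · exact ⟨el (c[0, 4] * c[1, 6, 3, 5]) (by decide +kernel), by decide +kernel⟩
  · exact ⟨el (c[0, 5, 1, 6, 4]) (by decide +kernel), by decide +kernel⟩
  · exact ⟨el (c[0, 6, 5, 1, 4]) (by decide +kernel), by decide +kernel⟩
  · exact ⟨el (c[0, 4] * c[1, 5]) (by decide +kernel), by decide +kernel⟩

theorem quad_conj {D : Type*} [Group D] {ρ : D →* Module.End K V} {x y : D} (h : ρ x * ρ x + ρ x + 1 = 0) :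
    ρ (y * x * y⁻¹) * ρ (y * x * y⁻¹) + ρ (y * x * y⁻¹) + 1 = 0 := by
  have e1 : ρ y * ρ y⁻¹ = 1 := by rw [← map_mul, mul_inv_cancel, map_one]
  have e2 : ρ y⁻¹ * ρ y = 1 := by rw [← map_mul, inv_mul_cancel, map_one]
  rw [map_mul, map_mul]
  calc ρ y * ρ x * ρ y⁻¹ * (ρ y * ρ x * ρ y⁻¹) + ρ y * ρ x * ρ y⁻¹ + 1
      = ρ y * ρ x * (ρ y⁻¹ * ρ y) * ρ x * ρ y⁻¹ + ρ y * ρ x * ρ y⁻¹ + ρ y * ρ y⁻¹ := by
        rw [e1]; noncomm_ring
    _ = ρ y * (ρ x * ρ x + ρ x + 1) * ρ y⁻¹ := by rw [e2]; noncomm_ring
    _ = 0 := by rw [h, mul_zero, zero_mul]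

/-- the case of the double cover -/
theorem two_false {D : Type*} [Group D] {π : D →* alternatingGroup (Fin 7)} {g : Fin 5 → D} {z : D} (H : Good π g z)
    (ρ : D →* Module.End K V) (hz : ρ z = -1) (h2 : (2 : K) ≠ 0) {B : LinearMap.BilinForm K V} (hB : B.Nondegenerate)
    (hinv : ∀ g u v, B (ρ g u) (ρ g v) = B u v) (hspan : Submodule.span K (Set.range ρ) = ⊤) (h8 : finrank K V = 8) :
    False := by
  have hfin := H.fin
  have hV : Nontrivial V := Module.nontrivial_of_finrank_pos (R := K) (by rw [h8]; norm_num)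
  have hz1 : z ≠ 1 := by
    rintro rfl
    rw [map_one] at hz
    obtain ⟨v, hv⟩ := exists_ne (0 : V)
    apply hv
    have e1 := congrArg (fun A : Module.End K V => A v) hz
    change v = -v at e1
    have e2 : (2 : K) • v = 0 := by
      rw [two_smul]
      nth_rewrite 1 [e1]
      exact neg_add_cancel v
    exact (smul_eq_zero.1 e2).resolve_left h2
  have hcube : ∀ i, g i * g i * g i = 1 := by
    intro i
    have := H.cube i
    rw [pow_succ, pow_two] at this
    exact this
  have key : ∀ i, ρ (g i) * ρ (g i) + ρ (g i) + 1 = 0 := by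
    by_cases h3 : (3 : K) = 0
    · have hch : CharP K 3 := by
        obtain ⟨p, hp⟩ := CharP.exists K
        have h4 : p ∣ 3 := (CharP.cast_eq_zero_iff K p 3).1 (by exact_mod_cast h3)
        rcases (Nat.dvd_prime Nat.prime_three).1 h4 with h | h
        · subst h
          have h5 := CharP.cast_eq_zero K 1
          rw [Nat.cast_one] at h5
          exact absurd h5 one_ne_zero
        · rw [← h]; exact hp
      obtain ⟨S, hS, hSB⟩ := exists_plane H ρ hz h2 hB hinv h8
      have h0 := quad_of_plane H ρ hz h2 h8 (irr_of_span hspan) hS hSB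
      intro i
      obtain ⟨x, hx⟩ := conj_three i
      obtain ⟨x0, hx0⟩ := conj_three 0
      obtain ⟨y, hy⟩ := H.surj (x * x0⁻¹)
      have h5 : y * g 0 * y⁻¹ = g i := by
        apply conj3 H hz1 (hcube 0) (hcube i)
        rw [hy, H.gP, H.gP, ← hx, ← hx0]
        group
      rw [← h5]
      exact quad_conj h0
    · obtain ⟨c, hc, hccc, h0⟩ := two_quad H ρ hz h2 h3 h8
      intro i
      obtain ⟨x, hx⟩ := conj_three i
      obtain ⟨y, hy⟩ := H.surj x
      have h5 : y * c * y⁻¹ = g i := by
        apply conj3 H hz1 hccc (hcube i)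
        rw [hy, H.gP, hc, hx]
      rw [← h5]
      exact quad_conj h0
  let g' : ℕ → D := fun i => if h : i < 5 then g ⟨i, h⟩ else 1
  have hg' : ∀ i (h : i < 5), g' i = g ⟨i, h⟩ := fun i h => dif_pos h
  have hclo : Subgroup.closure {d | ∃ i < 5, d = g' i} = ⊤ := by
    rw [eq_top_iff, ← H.gen]
    apply Subgroup.closure_mono
    rintro _ ⟨i, rfl⟩
    exact ⟨i, i.2, (hg' i i.2).symm⟩
  have h32 := span_bound (K := K) ρ (n := 5) (g := g') hclo (fun i hi => by rw [hg' i hi]; exact key _)
    (fun i hi j hj hij => by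
      rw [hg' i hi, hg' j hj, ← map_mul, ← map_mul]
      have h4 := H.sq ⟨i, hi⟩ ⟨j, hj⟩ (fun h => hij (congrArg Fin.val h))
      rw [pow_two] at h4
      rw [h4, hz]) hspan
  have h64 : finrank K (Module.End K V) = 64 := by
    rw [Module.finrank_linearMap, h8]
  rw [h64] at h32
  norm_num at h32

/-- representations -/
theorem rep_false {P : Type*} [Group P] [Finite P] (π : P →* alternatingGroup (Fin 7)) (hπ : Function.Surjective π)
    (hperf : commutator P = ⊤) (ρ : P →* Module.End K V) (hρ : Function.Injective ρ)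
    (hker : ∀ x, π x = 1 → ρ x = 1 ∨ ρ x = -1) (h2 : (2 : K) ≠ 0) (B : LinearMap.BilinForm K V)
    (hnd : ∀ u, (∀ v, B u v = 0) → u = 0) (hinv : ∀ g u v, B (ρ g u) (ρ g v) = B u v) (hAlt : B.IsAlt)
    (hspan : Submodule.span K (Set.range ρ) = ⊤) (h8 : finrank K V = 8) : False := by
  have hB : B.Nondegenerate := (LinearMap.IsRefl.nondegenerate_iff_separatingLeft hAlt.isRefl).2 hnd
  have hk : ∀ k, π k = 1 → (∀ g, k * g = g * k) ∧ k * k = 1 := by
    intro k hk1
    constructor
    · intro g
      apply hρ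
      rw [map_mul, map_mul]
      rcases hker k hk1 with h | h <;> rw [h] <;> simp
    · apply hρ
      rw [map_mul, map_one]
      rcases hker k hk1 with h | h <;> rw [h] <;> simp
  obtain ⟨D, g, z, H, hsurj, -, -⟩ := exists_good (Q := PUnit.{1}) π hπ hk hperf (S := fun _ => 1) (m := 1)
    (fun _ => rfl) (fun _ _ _ => rfl) rfl (fun _ => rfl)
  let δ : D →* P := (MonoidHom.fst P PUnit.{1}).comp D.subtype
  have hδ : Function.Injective δ := fun a b h => Subtype.ext (Prod.ext h rfl)
  have hδs : Function.Surjective δ := fun p => hsurj p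
  let ρD : D →* Module.End K V := ρ.comp δ
  have hρD : Function.Injective ρD := hρ.comp hδ
  have hinvD : ∀ g u v, B (ρD g u) (ρD g v) = B u v := fun g u v => hinv (δ g) u v
  have hspanD : Submodule.span K (Set.range ρD) = ⊤ := by
    rw [← hspan]
    congr 1
    ext A
    constructor
    · rintro ⟨d, rfl⟩; exact ⟨δ d, rfl⟩
    · rintro ⟨x, rfl⟩
      obtain ⟨d, rfl⟩ := hδs x
      exact ⟨d, rfl⟩
  rcases hker (δ z) H.pi_z with h | h
  · have hz1 : z = 1 := hρD (by rw [map_one]; exact h)
    let π' : D →* alternatingGroup (Fin 7) := π.comp δ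
    have hinj : Function.Injective π' := by
      rw [← MonoidHom.ker_eq_bot_iff, Subgroup.eq_bot_iff_forall]
      intro x hx
      rcases H.ker x hx with h1 | h1
      · exact h1
      · rw [h1, hz1]
    let e := MulEquiv.ofBijective π' ⟨hinj, H.surj⟩
    exact one_false (ρD.comp e.symm.toMonoidHom) (hρD.comp e.symm.injective) B hnd (fun g u v => hinvD _ u v) hAlt h2 h8
  · exact two_false H ρD h h2 hB hinvD hspanD h8

end rep

open Cfsg.Agent.H915.LD Cfsg.Agent.H871.Par Cfsg Cfsg.Geo Matrix in
/-- **`A₇` in dimension eight.** -/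
theorem a7_eight {F : Type*} [Field F] [Finite F] {ι : Type} [Fintype ι] [DecidableEq ι] {P : Subgroup (GL ι F)}
    (hC : Core P) (hA : FixA P) (h2 : (2 : F) ≠ 0) (e : Soc P ≃* alternatingGroup (Fin 7)) (h8 : Fintype.card ι = 8) :
    False := by
  have hne := hC.nonempty
  obtain ⟨f, hf, hfix⟩ := hA
  obtain ⟨B, h1, h3, h4⟩ := exists_form hf.bilinear hf.nondegenerate hfix
  have h2' : (2 : AlgebraicClosure F) ≠ 0 := by
    have := (algebraMap F (AlgebraicClosure F)).injective.ne h2
    rwa [map_ofNat, map_zero] at this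
  refine rep_false (e.toMonoidHom.comp (toSoc P)) (e.surjective.comp (toSoc_surjective P)) hC.commutator_top
    (repP P) (repP_injective P) ?_ h2' B h1 h3 ?_ ?_ ?_
  · intro x hx
    have h5 : x ∈ (scalars ι F).subgroupOf P := by
      rw [← ker_comp e]; exact hx
    exact scalar_of_fix hf.bilinear hf.nondegenerate hfix (Subgroup.mem_subgroupOf.1 h5)
  · have hskew : (gram f)ᵀ = - gram f := by
      ext i j
      exact hf.skew _ _
    intro u
    have h5 : B u u = - B u u := by
      conv_lhs => rw [h4, Matrix.dotProduct_mulVec, ← Matrix.mulVec_transpose, dotProduct_comm]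
      rw [h4, ← Matrix.transpose_map, hskew]
      have h6 : (-gram f).map (algebraMap F (AlgebraicClosure F)) = - (gram f).map (algebraMap F (AlgebraicClosure F)) := by
        ext i j
        simp
      rw [h6, Matrix.neg_mulVec, dotProduct_neg]
    have h6 : (2 : AlgebraicClosure F) * B u u = 0 := by linear_combination h5
    exact (mul_eq_zero.1 h6).resolve_left h2'
  · have h5 := H637.A7Main.span_mK (AlgebraicClosure F) hC.absIrred
    have h6 : ∀ A : Matrix ι ι (AlgebraicClosure F), Matrix.toLin' A ∈ Submodule.span (AlgebraicClosure F) (Set.range (repP P)) := by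
      intro A
      have hA : A ∈ Submodule.span (AlgebraicClosure F) (Set.range (H637.A7Main.mK (AlgebraicClosure F) P)) := by
        rw [h5]; trivial
      induction hA using Submodule.span_induction with
      | mem x hx =>
        obtain ⟨g, rfl⟩ := hx
        apply Submodule.subset_span
        refine ⟨g, ?_⟩
        apply LinearMap.ext
        intro v
        rw [repP_apply]
        rfl
      | zero => rw [map_zero]; exact Submodule.zero_mem _
      | add x y _ _ hx hy => rw [map_add]; exact Submodule.add_mem _ hx hy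
      | smul c x _ hx => rw [map_smul]; exact Submodule.smul_mem _ c hx
    rw [eq_top_iff]
    intro A _
    have := h6 (LinearMap.toMatrix' A)
    rwa [Matrix.toLin'_toMatrix'] at this
  · rw [Module.finrank_fintype_fun_eq_card, h8]

end Cfsg.Agent.H871.A7
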