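import Cfsg.Agent.H871.Par1

/-!
# A regular action on weights, and chains of non-degenerate subspaces

* `reg_four` : `A` abelian of odd exponent, `r` normalises `A`, `r²` is an involution inverting `A`, `B` alternating,
  `dim V = 8`: the eigenspaces of `r` have dimension at most two;
* `split2`, `nd_split`, `even_nd` : eigenspaces of involutions on non-degenerate subspaces.
-/

set_option autoImplicit false
set_option linter.unusedSectionVars false

namespace Cfsg.Agent.H871.A7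

open Module Cfsg.Agent.H912.Bd Cfsg.Agent.H871.Par

variable {K : Type*} [Field K] {V : Type*} [AddCommGroup V] [Module K V] {L : Type*} [Group L]
  [FiniteDimensional K V] (ρ : L →* Module.End K V)

section reg

variable {A : Subgroup L}
  (hA : ∀ a ∈ A, ∀ b ∈ A, a * b = b * a) {N : ℕ} (hN : (N : K) ≠ 0) (hAN : ∀ a ∈ A, a ^ N = 1)
  (B : LinearMap.BilinForm K V) (hnd : ∀ u, (∀ v, B u v = 0) → u = 0)
  (hinv : ∀ g u v, B (ρ g u) (ρ g v) = B u v)

theorem odd_pow_one {x : K} {N : ℕ} (hN : Odd N) (h1 : x * x = 1) (h2 : x ^ N = 1) : x = 1 := by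
  obtain ⟨k, rfl⟩ := hN
  rw [pow_succ, pow_mul, pow_two, h1, one_pow, one_mul] at h2
  exact h2

include hA hN hAN hnd hinv in
theorem reg_four [IsAlgClosed K] (hodd : Odd N) (hAlt : B.IsAlt) (h2 : (2 : K) ≠ 0) {c : L} (hcA : c ∈ A) (hc : ρ c ≠ 1)
    {r : L} (hr : ∀ a ∈ A, r * a * r⁻¹ ∈ A) (hr2 : ∀ a ∈ A, (r * r) * a * (r * r)⁻¹ = a⁻¹)
    (hr4 : (r * r) * (r * r) = 1) (h8 : finrank K V = 8) (lam : K) : finrank K ((ρ r).eigenspace lam) ≤ 2 := by
  obtain ⟨χ, hχ, hχc⟩ := exists_wt ρ hA hN hAN (c := ⟨c, hcA⟩) hc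
  have hmem : ∀ k : ℕ, ∀ a ∈ A, r ^ k * a * (r ^ k)⁻¹ ∈ A := conj_pow_mem hr
  let f : ℕ → A → K := fun k a => χ ⟨r ^ k * a * (r ^ k)⁻¹, hmem k a a.2⟩
  have hmul := wt_mul ρ hχ
  have hone := wt_one ρ hχ
  have hf1 : ∀ (k : ℕ) (a : A), f (k + 1) a = f k ⟨r * a * r⁻¹, hr a a.2⟩ := by
    intro k a
    apply congrArg χ
    apply Subtype.ext
    change r ^ (k + 1) * (a : L) * (r ^ (k + 1))⁻¹ = r ^ k * (r * a * r⁻¹) * (r ^ k)⁻¹
    rw [pow_succ]
    group
  have hfmul : ∀ (k : ℕ) (a b : A), f k (a * b) = f k a * f k b := by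
    intro k a b
    rw [← hmul]
    apply congrArg χ
    apply Subtype.ext
    change r ^ k * (a * b : L) * (r ^ k)⁻¹ = r ^ k * a * (r ^ k)⁻¹ * (r ^ k * b * (r ^ k)⁻¹)
    group
  have hfone : ∀ k : ℕ, f k 1 = 1 := by
    intro k
    rw [← hone]
    apply congrArg χ
    apply Subtype.ext
    change r ^ k * (1 : L) * (r ^ k)⁻¹ = 1
    group
  have hf2 : ∀ (k : ℕ) (a : A), f (k + 2) a * f k a = 1 := by
    intro k a
    have h3 : f (k + 2) a = f k a⁻¹ := by
      rw [hf1, hf1]
      apply congrArg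
      apply Subtype.ext
      change r * (r * (a : L) * r⁻¹) * r⁻¹ = (a : L)⁻¹
      rw [← hr2 a a.2]
      group
    rw [h3, ← hfmul, inv_mul_cancel, hfone]
  have hfN : ∀ (k : ℕ) (a : A), f k a ^ N = 1 := by
    intro k a
    have h3 : ∀ n : ℕ, f k (a ^ n) = f k a ^ n := by
      intro n
      induction n with
      | zero => rw [pow_zero, pow_zero, hfone]
      | succ n ih => rw [pow_succ, hfmul, ih, pow_succ]
    rw [← h3]
    have h4 : a ^ N = 1 := Subtype.ext (hAN a a.2)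
    rw [h4, hfone]
  have hf4 : f 4 = f 0 := by
    funext a
    have h3 := hf2 2 a
    have h4 := hf2 0 a
    have h5 : f 2 a ≠ 0 := left_ne_zero_of_mul (by rw [h4]; exact one_ne_zero)
    exact mul_right_cancel₀ h5 (by rw [h3, mul_comm, h4])
  -- no `f k` has square one
  have hno : ∀ k ≤ 4, ¬ ∀ a, f k a * f k a = 1 := by
    intro k hk hcon
    have h3 : ∀ m a, f (k + m) a = 1 := by
      intro m
      induction m with
      | zero => exact fun a => odd_pow_one hodd (hcon a) (hfN k a)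
      | succ m ih =>
        intro a
        rw [← add_assoc, hf1]
        exact ih _
    have h4 := h3 (4 - k) ⟨c, hcA⟩
    rw [show k + (4 - k) = 4 by omega, hf4] at h4
    apply hχc
    rw [← h4]
    apply congrArg χ
    apply Subtype.ext
    change c = r ^ 0 * c * (r ^ 0)⁻¹
    simp
  have hstep : ∀ {i j : ℕ}, f i = f j → f (i + 1) = f (j + 1) := by
    intro i j hij
    funext a
    rw [hf1, hf1, hij]
  have hd2 : ∀ i ≤ 4, f i ≠ f (i + 2) := by
    intro i hi h
    apply hno i hi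
    intro a
    have := hf2 i a
    rwa [← h] at this
  have hd1 : ∀ i ≤ 4, f i ≠ f (i + 1) := fun i hi h => hd2 i hi (h.trans (hstep h))
  have hd3 : ∀ i, i + 3 ≤ 4 → f i ≠ f (i + 3) := by
    intro i hi h
    apply hd2 i (by omega)
    funext a
    have e1 : ∀ a, f i a * f (i + 1) a = 1 := by
      intro a
      have := hf2 (i + 1) a
      rw [show i + 1 + 2 = i + 3 by ring, ← h] at this
      exact this
    have e2 : f (i + 1) a * f (i + 2) a = 1 := by
      rw [hf1 i, show i + 2 = (i + 1) + 1 by ring, hf1 (i + 1)]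
      exact e1 _
    have e3 : f (i + 1) a ≠ 0 := right_ne_zero_of_mul (by rw [e1 a]; exact one_ne_zero)
    apply mul_left_cancel₀ e3
    rw [e2, mul_comm, e1]
  have hinj : Function.Injective (fun i : Fin 4 => f i) := by
    intro i j h
    have key : ∀ i j : ℕ, i < j → j < 4 → f i ≠ f j := by
      intro i j hij hj
      obtain ⟨d, rfl⟩ : ∃ d, j = i + d := ⟨j - i, by omega⟩
      have hd : d = 1 ∨ d = 2 ∨ d = 3 := by omega
      rcases hd with rfl | rfl | rfl
      · exact hd1 i (by omega)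
      · exact hd2 i (by omega)
      · exact hd3 i (by omega)
    by_contra hne
    rcases lt_or_gt_of_ne hne with h1 | h1
    · exact key i j h1 j.2 h
    · exact key j i h1 i.2 h.symm
  have hind : iSupIndep (fun i : Fin 4 => wt ρ A (f i)) := (indep_wt ρ hA hN hAN).comp hinj
  have hW : ∀ (k : ℕ) (v : V), v ∈ wt ρ A (f k) → ρ r⁻¹ v ∈ wt ρ A (f (k + 1)) := by
    intro k v hv
    have h3 := map_wt_le ρ (χ := f k) hr
    have h4 : (fun a : A => f k ⟨r * a * r⁻¹, hr a a.2⟩) = f (k + 1) := by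
      funext a
      exact (hf1 k a).symm
    rw [h4] at h3
    exact h3 ⟨v, hv, rfl⟩
  have hle : ∀ k : ℕ, finrank K (wt ρ A (f k)) ≤ finrank K (wt ρ A (f (k + 1))) := by
    intro k
    have h3 := finrank_wt_le ρ (χ := f k) hr
    have h4 : (fun a : A => f k ⟨r * a * r⁻¹, hr a a.2⟩) = f (k + 1) := by
      funext a
      exact (hf1 k a).symm
    rwa [h4] at h3
  have h0χ : f 0 = χ := by
    funext a
    apply congrArg χ
    apply Subtype.ext
    change r ^ 0 * (a : L) * (r ^ 0)⁻¹ = a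
    simp
  have hev : Even (finrank K (wt ρ A χ)) :=
    even_wt_of_inv ρ hA hN hAN B hnd hinv hAlt h2 (t := r * r) hr4 hr2 hχ
  have hpos : 0 < finrank K (wt ρ A χ) := by
    rw [Module.finrank_pos_iff]
    exact Submodule.nontrivial_iff_ne_bot.2 hχ
  have hge : 2 ≤ finrank K (wt ρ A χ) := by
    obtain ⟨k, hk⟩ := hev
    omega
  have g0 : 2 ≤ finrank K (wt ρ A (f 0)) := by rw [h0χ]; exact hge
  have g1 := g0.trans (hle 0)
  have g2 := g1.trans (hle 1)
  have g3 := g2.trans (hle 2)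
  by_cases hlam : lam = 0
  · have h3 : (ρ r).eigenspace lam = ⊥ := by
      rw [eq_bot_iff]
      intro v hv
      rw [Module.End.mem_eigenspace_iff, hlam, zero_smul] at hv
      rw [Submodule.mem_bot]
      apply rho_injective ρ r
      rw [hv, map_zero]
    rw [h3, finrank_bot]
    norm_num
  let φ : (wt ρ A (f 1) × wt ρ A (f 2)) × (wt ρ A (f 3) × (ρ r).eigenspace lam) →ₗ[K] V :=
    ((wt ρ A (f 1)).subtype.coprod (wt ρ A (f 2)).subtype).coprod
      ((wt ρ A (f 3)).subtype.coprod ((ρ r).eigenspace lam).subtype)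
  have hφ : ∀ w1 w2 w3 e, φ ((w1, w2), (w3, e)) = (w1 : V) + w2 + (w3 + e) := fun w1 w2 w3 e => rfl
  have hinjφ : Function.Injective φ := by
    rw [← LinearMap.ker_eq_bot, LinearMap.ker_eq_bot']
    rintro ⟨⟨w1, w2⟩, ⟨w3, e⟩⟩ h
    rw [hφ] at h
    have he : ρ r (e : V) = lam • (e : V) := Module.End.mem_eigenspace_iff.1 e.2
    have he' : ρ r⁻¹ (e : V) = lam⁻¹ • (e : V) := by
      have h3 : ρ r⁻¹ (ρ r (e : V)) = e := by
        rw [← Module.End.mul_apply, ← map_mul, inv_mul_cancel, map_one]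
        rfl
      rw [he, map_smul] at h3
      rw [← h3, smul_smul, inv_mul_cancel₀ hlam, one_smul, h3]
    have hsum : ρ r⁻¹ (w3 : V) + -(lam⁻¹ • (w1 : V)) + (ρ r⁻¹ (w1 : V) - lam⁻¹ • (w2 : V)) +
        (ρ r⁻¹ (w2 : V) - lam⁻¹ • (w3 : V)) = 0 := by
      have h4 := congrArg (ρ r⁻¹) h
      rw [map_add, map_add, map_add, he', map_zero] at h4
      have h5 : (e : V) = -((w1 : V) + w2 + w3) := by
        rw [eq_neg_iff_add_eq_zero, ← h]
        abel
      rw [h5] at h4
      rw [← h4, smul_neg, smul_add, smul_add]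
      abel
    rw [iSupIndep_iff_finsetSum_eq_zero_imp_eq_zero] at hind
    have m0 : ρ r⁻¹ (w3 : V) ∈ wt ρ A (f 0) := by rw [← hf4]; exact hW 3 _ w3.2
    have m1 : -(lam⁻¹ • (w1 : V)) ∈ wt ρ A (f 1) := Submodule.neg_mem _ (Submodule.smul_mem _ _ w1.2)
    have m2 : ρ r⁻¹ (w1 : V) - lam⁻¹ • (w2 : V) ∈ wt ρ A (f 2) :=
      Submodule.sub_mem _ (hW 1 _ w1.2) (Submodule.smul_mem _ _ w2.2)
    have m3 : ρ r⁻¹ (w2 : V) - lam⁻¹ • (w3 : V) ∈ wt ρ A (f 3) :=
      Submodule.sub_mem _ (hW 2 _ w2.2) (Submodule.smul_mem _ _ w3.2)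
    have h5 := hind Finset.univ (![ρ r⁻¹ (w3 : V), -(lam⁻¹ • (w1 : V)), ρ r⁻¹ (w1 : V) - lam⁻¹ • (w2 : V),
      ρ r⁻¹ (w2 : V) - lam⁻¹ • (w3 : V)]) (by
        intro i _
        fin_cases i
        · exact m0
        · exact m1
        · exact m2
        · exact m3) (by
        rw [Fin.sum_univ_four]
        exact hsum)
    have k1 : -(lam⁻¹ • (w1 : V)) = 0 := h5 1 (Finset.mem_univ _)
    have k2 : ρ r⁻¹ (w1 : V) - lam⁻¹ • (w2 : V) = 0 := h5 2 (Finset.mem_univ _)
    have k3 : ρ r⁻¹ (w2 : V) - lam⁻¹ • (w3 : V) = 0 := h5 3 (Finset.mem_univ _)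
    have hli : lam⁻¹ ≠ 0 := inv_ne_zero hlam
    have z1 : (w1 : V) = 0 := (smul_eq_zero.1 (neg_eq_zero.1 k1)).resolve_left hli
    rw [z1, map_zero, zero_sub, neg_eq_zero] at k2
    have z2 : (w2 : V) = 0 := (smul_eq_zero.1 k2).resolve_left hli
    rw [z2, map_zero, zero_sub, neg_eq_zero] at k3
    have z3 : (w3 : V) = 0 := (smul_eq_zero.1 k3).resolve_left hli
    have z4 : (e : V) = 0 := by
      rw [z1, z2, z3] at h
      simpa using h
    exact Prod.ext (Prod.ext (Subtype.ext z1) (Subtype.ext z2)) (Prod.ext (Subtype.ext z3) (Subtype.ext z4))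
  have h9 := LinearMap.finrank_le_finrank_of_injective hinjφ
  rw [Module.finrank_prod, Module.finrank_prod, Module.finrank_prod, h8] at h9
  have e1 : finrank K (wt ρ A (f (0 + 1))) = finrank K (wt ρ A (f 1)) := rfl
  have e2 : finrank K (wt ρ A (f (1 + 1))) = finrank K (wt ρ A (f 2)) := rfl
  have e3 : finrank K (wt ρ A (f (2 + 1))) = finrank K (wt ρ A (f 3)) := rfl
  rw [e1] at g1
  rw [e2] at g2
  rw [e3] at g3
  omega

end reg

/-! ### involutions on subspaces -/

section inv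

variable {ρ}

theorem split2 (h2 : (2 : K) ≠ 0) {T : Module.End K V} {U : Submodule K V} (hU : ∀ v ∈ U, T v ∈ U)
    (hT : ∀ v ∈ U, T (T v) = v) :
    finrank K U = finrank K ↥(U ⊓ T.eigenspace 1) + finrank K ↥(U ⊓ T.eigenspace (-1)) := by
  have h4 : (U ⊓ T.eigenspace 1) ⊓ (U ⊓ T.eigenspace (-1)) = ⊥ := by
    rw [eq_bot_iff]
    rintro v ⟨⟨-, h⟩, ⟨-, h'⟩⟩
    have e1 : T v = (1 : K) • v := Module.End.mem_eigenspace_iff.1 h
    have e2 : T v = (-1 : K) • v := Module.End.mem_eigenspace_iff.1 h'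
    rw [Submodule.mem_bot]
    have e3 : (2 : K) • v = 0 := by
      rw [e1] at e2
      have : (2 : K) • v = (1 : K) • v - (-1 : K) • v := by module
      rw [this, e2, sub_self]
    exact (smul_eq_zero.1 e3).resolve_left h2
  have h5 : (U ⊓ T.eigenspace 1) ⊔ (U ⊓ T.eigenspace (-1)) = U := by
    apply le_antisymm (sup_le inf_le_left inf_le_left)
    intro v hv
    have e1 : v = (2 : K)⁻¹ • (v + T v) + (2 : K)⁻¹ • (v - T v) := by
      rw [← smul_add, add_add_sub_cancel, ← two_smul K v, smul_smul, inv_mul_cancel₀ h2, one_smul]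
    rw [e1]
    refine Submodule.add_mem_sup ⟨U.smul_mem _ (U.add_mem hv (hU v hv)), ?_⟩
      ⟨U.smul_mem _ (U.sub_mem hv (hU v hv)), ?_⟩
    · change _ ∈ T.eigenspace 1
      rw [Module.End.mem_eigenspace_iff, map_smul, map_add, hT v hv, one_smul, add_comm]
    · change _ ∈ T.eigenspace (-1)
      rw [Module.End.mem_eigenspace_iff, map_smul, map_sub, hT v hv, neg_one_smul, ← smul_neg, neg_sub]
  have h6 := Submodule.finrank_sup_add_finrank_inf_eq (U ⊓ T.eigenspace 1) (U ⊓ T.eigenspace (-1))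
  rw [h4, h5, finrank_bot, add_zero] at h6
  exact h6

/-- `B` is non-degenerate on `U` -/
def ND (B : LinearMap.BilinForm K V) (U : Submodule K V) : Prop := ∀ u ∈ U, (∀ v ∈ U, B u v = 0) → u = 0

theorem nd_split {B : LinearMap.BilinForm K V} (h2 : (2 : K) ≠ 0) {T : Module.End K V} (hB : ∀ u v, B (T u) (T v) = B u v)
    {U : Submodule K V} (hU : ∀ v ∈ U, T v ∈ U) (hT : ∀ v ∈ U, T (T v) = v) (hnd : ND B U) {e : K} (he : e * e = 1) :
    ND B (U ⊓ T.eigenspace e) := by
  rintro u ⟨hu, hu1⟩ h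
  have hu2 : T u = e • u := Module.End.mem_eigenspace_iff.1 hu1
  apply hnd u hu
  intro v hv
  have e1 : B u (v + e • T v) = 0 := by
    apply h
    refine ⟨U.add_mem hv (U.smul_mem _ (hU v hv)), ?_⟩
    change _ ∈ T.eigenspace e
    rw [Module.End.mem_eigenspace_iff, map_add, map_smul, hT v hv, smul_add, smul_smul, he, one_smul, add_comm]
  have e2 : B u (v - e • T v) = 0 := by
    have e0 : T (v - e • T v) = -(e • (v - e • T v)) := by
      rw [map_sub, map_smul, hT v hv, smul_sub, smul_smul, he, one_smul, neg_sub]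
    have e3 : B u (v - e • T v) = B (T u) (T (v - e • T v)) := (hB _ _).symm
    rw [hu2, e0] at e3
    generalize v - e • T v = y at e3 ⊢
    simp only [map_smul, map_neg, LinearMap.smul_apply, smul_eq_mul] at e3
    have e5 : (2 : K) * B u y = 0 := by
      have e6 : B u y = -((e * e) * B u y) := by
        conv_lhs => rw [e3]
        ring
      rw [he, one_mul] at e6
      linear_combination e6
    exact (mul_eq_zero.1 e5).resolve_left h2
  have e3 : (2 : K) * B u v = B u (v + e • T v) + B u (v - e • T v) := by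
    rw [← map_add, add_add_sub_cancel, map_add]
    ring
  rw [e1, e2, add_zero] at e3
  exact (mul_eq_zero.1 e3).resolve_left h2

theorem even_nd {B : LinearMap.BilinForm K V} (hAlt : B.IsAlt) {U : Submodule K V} (h : ND B U) : Even (finrank K U) := by
  apply H953.even_finrank_of_alt (B.restrict U) (fun v => hAlt v)
  intro u hu
  exact Subtype.ext (h u u.2 fun v hv => hu ⟨v, hv⟩)

end inv

end Cfsg.Agent.H871.A7
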