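import Cfsg.Agent.H871.A7Three

/-!
# The double cover of `A₇` in characteristic three, dimension eight: three-cycles are quadratic
-/

set_option autoImplicit false
set_option linter.unusedSectionVars false

namespace Cfsg.Agent.H871.A7

open Module Equiv Equiv.Perm Cfsg.Agent.H637.A7Grp Cfsg.Agent.H637.A7Cov

/-- elements of `A₇` -/
def el (x : Perm (Fin 7)) (h : sign x = 1) : alternatingGroup (Fin 7) := ⟨x, mem_alternatingGroup.2 h⟩

theorem el_apply (x : Perm (Fin 7)) (h : sign x = 1) (a : Fin 7) : (el x h : Perm (Fin 7)) a = x a := rfl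

theorem exists_six : ∀ k : Fin 7, ∃ x : alternatingGroup (Fin 7), (x : Perm (Fin 7)) 6 = k := by
  intro k
  fin_cases k
  · exact ⟨el (c[6, 0] * c[1, 2]) (by decide +kernel), by decide +kernel⟩
  · exact ⟨el (c[6, 1] * c[0, 2]) (by decide +kernel), by decide +kernel⟩
  · exact ⟨el (c[6, 2] * c[1, 0]) (by decide +kernel), by decide +kernel⟩
  · exact ⟨el (c[6, 3] * c[1, 2]) (by decide +kernel), by decide +kernel⟩
  · exact ⟨el (c[6, 4] * c[1, 2]) (by decide +kernel), by decide +kernel⟩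
  · exact ⟨el (c[6, 5] * c[1, 2]) (by decide +kernel), by decide +kernel⟩
  · exact ⟨1, rfl⟩

/-- moves fixing `6` -/
theorem move1 : ∀ k : Fin 7, k = 6 ∨ ∃ x : alternatingGroup (Fin 7), (x : Perm (Fin 7)) 5 = k ∧ (x : Perm (Fin 7)) 6 = 6 := by
  intro k
  fin_cases k
  · exact Or.inr ⟨el (c[5, 0] * c[1, 2]) (by decide +kernel), by decide +kernel, by decide +kernel⟩
  · exact Or.inr ⟨el (c[5, 1] * c[0, 2]) (by decide +kernel), by decide +kernel, by decide +kernel⟩
  · exact Or.inr ⟨el (c[5, 2] * c[1, 0]) (by decide +kernel), by decide +kernel, by decide +kernel⟩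
  · exact Or.inr ⟨el (c[5, 3] * c[1, 2]) (by decide +kernel), by decide +kernel, by decide +kernel⟩
  · exact Or.inr ⟨el (c[5, 4] * c[1, 2]) (by decide +kernel), by decide +kernel, by decide +kernel⟩
  · exact Or.inr ⟨1, rfl, rfl⟩
  · exact Or.inl rfl

/-- moves fixing `5`, `6` -/
theorem move2 : ∀ k : Fin 7, k = 6 ∨ k = 5 ∨ ∃ x : alternatingGroup (Fin 7), (x : Perm (Fin 7)) 4 = k ∧
    (x : Perm (Fin 7)) 5 = 5 ∧ (x : Perm (Fin 7)) 6 = 6 := by
  intro k
  fin_cases k
  · exact Or.inr (Or.inr ⟨el (c[4, 0] * c[1, 2]) (by decide +kernel), by decide +kernel, by decide +kernel, by decide +kernel⟩)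
  · exact Or.inr (Or.inr ⟨el (c[4, 1] * c[0, 2]) (by decide +kernel), by decide +kernel, by decide +kernel, by decide +kernel⟩)
  · exact Or.inr (Or.inr ⟨el (c[4, 2] * c[1, 0]) (by decide +kernel), by decide +kernel, by decide +kernel, by decide +kernel⟩)
  · exact Or.inr (Or.inr ⟨el (c[4, 3] * c[1, 2]) (by decide +kernel), by decide +kernel, by decide +kernel, by decide +kernel⟩)
  · exact Or.inr (Or.inr ⟨1, rfl, rfl, rfl⟩)
  · exact Or.inr (Or.inl rfl)
  · exact Or.inl rfl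

/-- moves fixing `4`, `5`, `6` -/
theorem move3 : ∀ k : Fin 7, k = 6 ∨ k = 5 ∨ k = 4 ∨ ∃ x : alternatingGroup (Fin 7), (x : Perm (Fin 7)) 3 = k ∧
    (x : Perm (Fin 7)) 4 = 4 ∧ (x : Perm (Fin 7)) 5 = 5 ∧ (x : Perm (Fin 7)) 6 = 6 := by
  intro k
  fin_cases k
  · exact Or.inr (Or.inr (Or.inr ⟨el (c[3, 0] * c[1, 2]) (by decide +kernel), by decide +kernel, by decide +kernel, by decide +kernel, by decide +kernel⟩))
  · exact Or.inr (Or.inr (Or.inr ⟨el (c[3, 1] * c[0, 2]) (by decide +kernel), by decide +kernel, by decide +kernel, by decide +kernel, by decide +kernel⟩))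
  · exact Or.inr (Or.inr (Or.inr ⟨el (c[3, 2] * c[1, 0]) (by decide +kernel), by decide +kernel, by decide +kernel, by decide +kernel, by decide +kernel⟩))
  · exact Or.inr (Or.inr (Or.inr ⟨1, rfl, rfl, rfl, rfl⟩))
  · exact Or.inr (Or.inr (Or.inl rfl))
  · exact Or.inr (Or.inl rfl)
  · exact Or.inl rfl

def q1 : alternatingGroup (Fin 7) := el (c[0, 1] * c[2, 3]) (by decide +kernel)
def q2 : alternatingGroup (Fin 7) := el (c[0, 2] * c[1, 3]) (by decide +kernel)
def q3 : alternatingGroup (Fin 7) := el (c[3, 4] * c[5, 6]) (by decide +kernel)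
def q4 : alternatingGroup (Fin 7) := el (c[3, 5] * c[4, 6]) (by decide +kernel)

theorem nilp_two {K : Type*} [Field K] {W : Type*} [AddCommGroup W] [Module K W] [FiniteDimensional K W]
    (hW : finrank K W = 2) {f : Module.End K W} (hf : IsNilpotent f) : f * f = 0 := by
  have h1 := hf.charpoly_eq_X_pow_finrank
  have h2 := LinearMap.aeval_self_charpoly f
  rw [h1, hW, map_pow, Polynomial.aeval_X, pow_two] at h2
  exact h2

section span

variable {K : Type*} [Field K] [IsAlgClosed K] {V : Type*} [AddCommGroup V] [Module K V] [FiniteDimensional K V]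
    {D : Type*} [Group D] {π : D →* alternatingGroup (Fin 7)} {g : Fin 5 → D} {z : D} (H : Good π g z)
    (ρ : D →* Module.End K V) (hz : ρ z = -1) (h2 : (2 : K) ≠ 0)

include H hz h2

theorem evenU {x y : alternatingGroup (Fin 7)} (hx : x * x = 1) (hx1 : x ≠ 1) (hy : y * y = 1) (hy1 : y ≠ 1)
    (hxy : (x * y) * (x * y) = 1) (hxy1 : x * y ≠ 1) {U : Submodule K V}
    (hU : ∀ d, π d = x ∨ π d = y → ∀ v ∈ U, ρ d v ∈ U) : Even (finrank K U) := by
  obtain ⟨i, hi⟩ := H.surj x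
  obtain ⟨j, hj⟩ := H.surj y
  have i2 : i * i = z := H.sq_eq (by rw [hi, hx]) (by rw [hi]; exact hx1)
  have j2 : j * j = z := H.sq_eq (by rw [hj, hy]) (by rw [hj]; exact hy1)
  have e2 : (i * j) * (i * j) = z := H.sq_eq (by rw [map_mul, hi, hj, hxy]) (by rw [map_mul, hi, hj]; exact hxy1)
  have hop : ∀ (a b : D) (v : V), ρ a (ρ b v) = ρ (a * b) v := fun a b v => by rw [map_mul]; rfl
  have hzv : ∀ v, ρ z v = -v := fun v => by rw [hz]; rfl
  refine even_quat h2 (I := ρ i) (J := ρ j) (hU i (Or.inl hi)) (hU j (Or.inr hj)) (fun v _ => by rw [hop, i2, hzv])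
    (fun v _ => by rw [hop, j2, hzv]) (fun v _ => ?_)
  have e3 : i * j = z * (j * i) := by
    have hi' : i⁻¹ = z * i := by
      rw [inv_eq_iff_mul_eq_one, H.zc, ← mul_assoc, i2, H.zz]
    have hj' : j⁻¹ = z * j := by
      rw [inv_eq_iff_mul_eq_one, H.zc, ← mul_assoc, j2, H.zz]
    calc i * j = z * (i * j)⁻¹ := by rw [← e2]; group
      _ = z * (j⁻¹ * i⁻¹) := by rw [mul_inv_rev]
      _ = z * ((z * j) * (z * i)) := by rw [hi', hj']
      _ = z * (z * (j * z) * i) := by group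
      _ = z * (z * (z * j) * i) := by rw [H.zc j]
      _ = z * (z * z) * (j * i) := by group
      _ = z * (j * i) := by rw [H.zz, mul_one]
  rw [hop, e3, ← hop, ← hop, hzv]

theorem quad_of_plane [CharP K 3] (h8 : finrank K V = 8)
    (hirr : ∀ U : Submodule K V, (∀ d, ∀ v ∈ U, ρ d v ∈ U) → U = ⊥ ∨ U = ⊤)
    {S : Submodule K V} (hS : finrank K S = 2) (hSB : ∀ d ∈ pre π, ∀ v ∈ S, ρ d v ∈ S) :
    ρ (g 0) * ρ (g 0) + ρ (g 0) + 1 = 0 := by
  have hop : ∀ (a b : D) (v : V), ρ a (ρ b v) = ρ (a * b) v := fun a b v => by rw [map_mul]; rfl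
  have hex : ∀ k : Fin 7, ∃ d : D, (π d : Perm (Fin 7)) 6 = k := by
    intro k
    obtain ⟨x, hx⟩ := exists_six k
    obtain ⟨d, rfl⟩ := H.surj x
    exact ⟨d, hx⟩
  choose dk hdk using hex
  let T : Fin 7 → Submodule K V := fun k => S.map (ρ (dk k))
  have hTr : ∀ k, finrank K (T k) = 2 := by
    intro k
    rw [← hS]
    exact (Submodule.equivMapOfInjective (ρ (dk k)) (H912.Bd.rho_injective ρ (dk k)) S).finrank_eq.symm
  have hT : ∀ (d : D) (k l : Fin 7), (π d : Perm (Fin 7)) k = l → ∀ v ∈ T k, ρ d v ∈ T l := by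
    rintro d k l hkl _ ⟨s, hs, rfl⟩
    refine ⟨ρ ((dk l)⁻¹ * d * dk k) s, hSB _ ?_ s hs, ?_⟩
    · rw [mem_pre, map_mul, map_mul, map_inv, Subgroup.coe_mul, Subgroup.coe_mul, Subgroup.coe_inv, Perm.mul_apply,
        Perm.mul_apply, hdk k, hkl, Perm.inv_eq_iff_eq, hdk l]
    · rw [hop, hop]
      congr 2
      group
  -- all of them
  have hall : ∀ W : Submodule K V, (∀ k, T k ≤ W) → W = ⊤ := by
    intro W hW
    have h1 : (⨆ k, T k) = ⊥ ∨ (⨆ k, T k) = ⊤ := by
      apply hirr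
      intro d v hv
      have h3 : (⨆ k, T k).map (ρ d) ≤ ⨆ k, T k := by
        rw [Submodule.map_iSup]
        refine iSup_le fun k => ?_
        rintro _ ⟨w, hw, rfl⟩
        exact Submodule.mem_iSup_of_mem _ (hT d k _ rfl w hw)
      exact h3 ⟨v, hv, rfl⟩
    rcases h1 with h | h
    · exfalso
      have h3 : T 0 ≤ ⊥ := by rw [← h]; exact le_iSup T 0
      have h4 := Submodule.finrank_mono h3
      rw [hTr, finrank_bot] at h4
      omega
    · rw [eq_top_iff, ← h]
      exact iSup_le hW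
  -- transfer
  have htr : ∀ (W : Submodule K V) (a k : Fin 7) (x : alternatingGroup (Fin 7)), (x : Perm (Fin 7)) a = k →
      (∀ d, π d = x → ∀ v ∈ W, ρ d v ∈ W) → T a ≤ W → T k ≤ W := by
    intro W a k x hxa hW haW v hv
    obtain ⟨d, rfl⟩ := H.surj x
    have h1 : ρ d⁻¹ v ∈ T a := hT d⁻¹ k a (by rw [map_inv, Subgroup.coe_inv, Perm.inv_eq_iff_eq, hxa]) v hv
    have h3 := hW d rfl _ (haW h1)
    rw [hop, mul_inv_cancel, map_one] at h3
    exact h3
  have hsup : ∀ (W W' : Submodule K V) (d : D), (∀ v ∈ W, ρ d v ∈ W ⊔ W') → (∀ v ∈ W', ρ d v ∈ W ⊔ W') →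
      ∀ v ∈ W ⊔ W', ρ d v ∈ W ⊔ W' := by
    intro W W' d h1 h3 v hv
    have h4 : (W ⊔ W').map (ρ d) ≤ W ⊔ W' := by
      rw [Submodule.map_sup]
      refine sup_le ?_ ?_
      · rintro _ ⟨w, hw, rfl⟩; exact h1 w hw
      · rintro _ ⟨w, hw, rfl⟩; exact h3 w hw
    exact h4 ⟨v, hv, rfl⟩
  have hqe : ∀ {U : Submodule K V}, (∀ d, π d = q1 ∨ π d = q2 → ∀ v ∈ U, ρ d v ∈ U) → Even (finrank K U) := fun hU =>
    evenU H ρ hz h2 (x := q1) (y := q2) (by decide +kernel) (by decide +kernel) (by decide +kernel) (by decide +kernel)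
      (by decide +kernel) (by decide +kernel) hU
  -- (i)
  have hstab56 : ∀ d, π d = q1 ∨ π d = q2 → ∀ k : Fin 7, k = 4 ∨ k = 5 ∨ k = 6 → ∀ v ∈ T k, ρ d v ∈ T k := by
    intro d hd k hk v hv
    apply hT d k k _ v hv
    rcases hd with hd | hd <;> rw [hd] <;> rcases hk with rfl | rfl | rfl <;> decide +kernel
  have i1 : T 5 ⊓ T 6 = ⊥ := by
    have h1 : Even (finrank K ↥(T 5 ⊓ T 6)) := hqe fun d hd v hv =>
      ⟨hstab56 d hd 5 (by simp) v hv.1, hstab56 d hd 6 (by simp) v hv.2⟩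
    have h3 := Submodule.finrank_mono (inf_le_left : T 5 ⊓ T 6 ≤ T 5)
    rw [hTr] at h3
    obtain ⟨m, hm⟩ := h1
    have h4 : m = 0 ∨ m = 1 := by omega
    rcases h4 with rfl | rfl
    · exact Submodule.finrank_eq_zero.1 hm
    · exfalso
      have h5 : T 5 ⊓ T 6 = T 5 := Submodule.eq_of_le_of_finrank_eq inf_le_left (by rw [hm, hTr])
      have h6 : T 5 ≤ T 6 := by rw [← h5]; exact inf_le_right
      have h7 := hall (T 6) fun k => by
        rcases move1 k with rfl | ⟨x, hx, hx6⟩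
        · exact le_rfl
        · exact htr (T 6) 5 k x hx (fun d hd v hv => hT d 6 6 (by rw [hd, hx6]) v hv) h6
      have h9 := hTr 6
      rw [h7, finrank_top, h8] at h9
      omega
  have f1 : finrank K ↥(T 5 ⊔ T 6) = 4 := by
    have := Submodule.finrank_sup_add_finrank_inf_eq (T 5) (T 6)
    rw [i1, finrank_bot, hTr, hTr] at this
    omega
  have hst2 : ∀ (d : D), (π d : Perm (Fin 7)) 5 = 5 → (π d : Perm (Fin 7)) 6 = 6 → ∀ v ∈ T 5 ⊔ T 6, ρ d v ∈ T 5 ⊔ T 6 :=
    fun d h5 h6 => hsup _ _ d (fun v hv => Submodule.mem_sup_left (hT d 5 5 h5 v hv))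
      (fun v hv => Submodule.mem_sup_right (hT d 6 6 h6 v hv))
  have i2 : T 4 ⊓ (T 5 ⊔ T 6) = ⊥ := by
    have h1 : Even (finrank K ↥(T 4 ⊓ (T 5 ⊔ T 6))) := hqe fun d hd v hv =>
      ⟨hstab56 d hd 4 (by simp) v hv.1, hst2 d (by rcases hd with hd | hd <;> rw [hd] <;> decide +kernel)
        (by rcases hd with hd | hd <;> rw [hd] <;> decide +kernel) v hv.2⟩
    have h3 := Submodule.finrank_mono (inf_le_left : T 4 ⊓ (T 5 ⊔ T 6) ≤ T 4)
    rw [hTr] at h3
    obtain ⟨m, hm⟩ := h1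
    have h4 : m = 0 ∨ m = 1 := by omega
    rcases h4 with rfl | rfl
    · exact Submodule.finrank_eq_zero.1 hm
    · exfalso
      have h5 : T 4 ⊓ (T 5 ⊔ T 6) = T 4 := Submodule.eq_of_le_of_finrank_eq inf_le_left (by rw [hm, hTr])
      have h6 : T 4 ≤ T 5 ⊔ T 6 := by rw [← h5]; exact inf_le_right
      have h7 := hall (T 5 ⊔ T 6) fun k => by
        rcases move2 k with rfl | rfl | ⟨x, hx, hx5, hx6⟩
        · exact le_sup_right
        · exact le_sup_left
        · exact htr _ 4 k x hx (fun d hd => hst2 d (by rw [hd, hx5]) (by rw [hd, hx6])) h6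
      rw [h7, finrank_top, h8] at f1
      omega
  have f2 : finrank K ↥(T 4 ⊔ (T 5 ⊔ T 6)) = 6 := by
    have := Submodule.finrank_sup_add_finrank_inf_eq (T 4) (T 5 ⊔ T 6)
    rw [i2, finrank_bot, hTr, f1] at this
    omega
  have hst3 : ∀ (d : D), (π d : Perm (Fin 7)) 4 = 4 → (π d : Perm (Fin 7)) 5 = 5 → (π d : Perm (Fin 7)) 6 = 6 →
      ∀ v ∈ T 4 ⊔ (T 5 ⊔ T 6), ρ d v ∈ T 4 ⊔ (T 5 ⊔ T 6) :=
    fun d h4 h5 h6 => hsup _ _ d (fun v hv => Submodule.mem_sup_left (hT d 4 4 h4 v hv))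
      (fun v hv => Submodule.mem_sup_right (hst2 d h5 h6 v hv))
  have i3 : finrank K ↥(T 3 ⊓ (T 4 ⊔ (T 5 ⊔ T 6))) ≤ 1 := by
    by_contra hcon
    push Not at hcon
    have h3 := Submodule.finrank_mono (inf_le_left : T 3 ⊓ (T 4 ⊔ (T 5 ⊔ T 6)) ≤ T 3)
    rw [hTr] at h3
    have h5 : T 3 ⊓ (T 4 ⊔ (T 5 ⊔ T 6)) = T 3 := Submodule.eq_of_le_of_finrank_eq inf_le_left (by rw [hTr]; omega)
    have h6 : T 3 ≤ T 4 ⊔ (T 5 ⊔ T 6) := by rw [← h5]; exact inf_le_right
    have h7 := hall (T 4 ⊔ (T 5 ⊔ T 6)) fun k => by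
      rcases move3 k with rfl | rfl | rfl | ⟨x, hx, hx4, hx5, hx6⟩
      · exact le_sup_of_le_right le_sup_right
      · exact le_sup_of_le_right le_sup_left
      · exact le_sup_left
      · exact htr _ 3 k x hx (fun d hd => hst3 d (by rw [hd, hx4]) (by rw [hd, hx5]) (by rw [hd, hx6])) h6
    rw [h7, finrank_top, h8] at f2
    omega
  set Y := T 3 ⊔ (T 4 ⊔ (T 5 ⊔ T 6)) with hY
  have m3 : T 3 ≤ Y := le_sup_left
  have m4 : T 4 ≤ Y := le_sup_of_le_right le_sup_left
  have m5 : T 5 ≤ Y := le_sup_of_le_right (le_sup_of_le_right le_sup_left)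
  have m6 : T 6 ≤ Y := le_sup_of_le_right (le_sup_of_le_right le_sup_right)
  have hYst : ∀ d, π d = q3 ∨ π d = q4 → ∀ v ∈ Y, ρ d v ∈ Y := by
    intro d hd v hv
    have hmap : Y.map (ρ d) ≤ Y := by
      rw [hY, Submodule.map_sup, Submodule.map_sup, Submodule.map_sup]
      have key : ∀ k l : Fin 7, (π d : Perm (Fin 7)) k = l → T l ≤ Y → (T k).map (ρ d) ≤ Y := by
        intro k l hkl hl
        rintro _ ⟨w, hw, rfl⟩
        exact hl (hT d k l hkl w hw)
      rcases hd with hd | hd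
      · refine sup_le (key 3 4 (by rw [hd]; decide +kernel) m4) (sup_le (key 4 3 (by rw [hd]; decide +kernel) m3)
          (sup_le (key 5 6 (by rw [hd]; decide +kernel) m6) (key 6 5 (by rw [hd]; decide +kernel) m5)))
      · refine sup_le (key 3 5 (by rw [hd]; decide +kernel) m5) (sup_le (key 4 6 (by rw [hd]; decide +kernel) m6)
          (sup_le (key 5 3 (by rw [hd]; decide +kernel) m3) (key 6 4 (by rw [hd]; decide +kernel) m4)))
    exact hmap ⟨v, hv, rfl⟩
  have hYe : Even (finrank K Y) := evenU H ρ hz h2 (x := q3) (y := q4) (by decide +kernel) (by decide +kernel)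
    (by decide +kernel) (by decide +kernel) (by decide +kernel) (by decide +kernel) hYst
  have f3 : finrank K Y = 8 := by
    have h1 := Submodule.finrank_sup_add_finrank_inf_eq (T 3) (T 4 ⊔ (T 5 ⊔ T 6))
    rw [hTr, f2, ← hY] at h1
    have h3 := Submodule.finrank_le Y
    rw [h8] at h3
    obtain ⟨m, hm⟩ := hYe
    omega
  have hYtop : Y = ⊤ := Submodule.eq_top_of_finrank_eq (by rw [f3, h8])
  -- the three-cycle
  have hcube : g 0 * g 0 * g 0 = 1 := by
    have := H.cube 0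
    rw [pow_succ, pow_two] at this
    exact this
  have h3K : (3 : K) = 0 := by
    have := CharP.cast_eq_zero K 3
    exact_mod_cast this
  have hquad : ∀ k : Fin 7, (s 0 : Perm (Fin 7)) k = k → ∀ v ∈ T k, ρ (g 0) (ρ (g 0) v) + ρ (g 0) v + v = 0 := by
    intro k hk v hv
    have hst : ∀ v ∈ T k, (ρ (g 0)) v ∈ T k := hT (g 0) k k (by rw [H.gP 0, hk])
    let f : Module.End K (T k) := (ρ (g 0)).restrict hst
    have hf : ∀ w : T k, (f w : V) = ρ (g 0) w := fun w => rfl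
    have hf3 : f * f * f = 1 := by
      apply LinearMap.ext
      intro w
      apply Subtype.ext
      change ρ (g 0) (ρ (g 0) (ρ (g 0) (w : V))) = w
      rw [hop, hop, hcube, map_one]
      rfl
    have hn : IsNilpotent (f - 1) := by
      refine ⟨3, ?_⟩
      have hnt : Nontrivial (T k) := Module.nontrivial_of_finrank_pos (R := K) (by rw [hTr]; norm_num)
      have hp3 : Fact (Nat.Prime 3) := ⟨by norm_num⟩
      have hch : CharP (Module.End K (T k)) 3 :=
        charP_of_injective_algebraMap (algebraMap K (Module.End K (T k))).injective 3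
      have hcom : Commute f 1 := Commute.one_right _
      rw [sub_pow_char_of_commute (p := 3) hcom, one_pow, pow_succ, pow_two, hf3, sub_self]
    have h4 := nilp_two (hTr k) hn
    have h5 := congrArg (fun A : Module.End K (T k) => (A ⟨v, hv⟩ : V)) h4
    have h6 : ρ (g 0) (ρ (g 0) v - v) - (ρ (g 0) v - v) = 0 := h5
    have h7 : ρ (g 0) (ρ (g 0) v) + ρ (g 0) v + v = (ρ (g 0) (ρ (g 0) v - v) - (ρ (g 0) v - v)) + (3 : K) • ρ (g 0) v := by
      rw [map_sub]
      module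
    rw [h7, h6, h3K, zero_smul, add_zero]
  apply LinearMap.ext
  intro v
  change ρ (g 0) (ρ (g 0) v) + ρ (g 0) v + v = 0
  have hker : Y ≤ LinearMap.ker (ρ (g 0) * ρ (g 0) + ρ (g 0) + 1) := by
    rw [hY]
    refine sup_le ?_ (sup_le ?_ (sup_le ?_ ?_))
    · exact fun w hw => hquad 3 (by decide +kernel) w hw
    · exact fun w hw => hquad 4 (by decide +kernel) w hw
    · exact fun w hw => hquad 5 (by decide +kernel) w hw
    · exact fun w hw => hquad 6 (by decide +kernel) w hw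
  have hv : v ∈ Y := by rw [hYtop]; trivial
  exact hker hv

end span

end Cfsg.Agent.H871.A7
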