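import Cfsg.Agent.H871.A7Two
import Cfsg.Agent.H905.MdI
import Cfsg.Agent.H875.FnMono
import Cfsg.Agent.S0254

/-!
# The double cover of `A₇` in characteristic three, dimension eight: a plane invariant under `SL₂(9)`
-/

set_option autoImplicit false
set_option linter.unusedSectionVars false

namespace Cfsg.Agent.H871.A7

open Module Equiv Equiv.Perm Cfsg.Agent.H637.A7Grp Cfsg.Agent.H637.A7Cov Matrix

abbrev Six := {x : Fin 7 // x ≠ 6}

/-- the point stabiliser -/
def emb : alternatingGroup Six →* alternatingGroup (Fin 7) :=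
  ((ofSubtype (p := fun x : Fin 7 => x ≠ 6)).comp (alternatingGroup Six).subtype).codRestrict (alternatingGroup (Fin 7))
    (fun x => mem_alternatingGroup.2 (by
      rw [MonoidHom.comp_apply, Subgroup.subtype_apply, sign_ofSubtype]
      exact mem_alternatingGroup.1 x.2))

theorem emb_coe (x : alternatingGroup Six) : (emb x : Perm (Fin 7)) = ofSubtype (x : Perm Six) := rfl

theorem emb_inj : Function.Injective emb := by
  intro x y h
  apply Subtype.ext
  exact ofSubtype_injective (congrArg Subtype.val h)

theorem mem_range_emb {x : alternatingGroup (Fin 7)} : x ∈ emb.range ↔ (x : Perm (Fin 7)) 6 = 6 := by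
  constructor
  · rintro ⟨y, rfl⟩
    rw [emb_coe]
    exact ofSubtype_apply_of_not_mem _ (by simp)
  · intro h
    have h1 : ∀ a : Fin 7, (x : Perm (Fin 7)) a ≠ 6 ↔ a ≠ 6 := by
      intro a
      refine not_congr ⟨fun h2 => ?_, fun h2 => by rw [h2, h]⟩
      apply (x : Perm (Fin 7)).injective
      rw [h2, h]
    have h2 : ∀ a : Fin 7, (x : Perm (Fin 7)) a ≠ a → a ≠ 6 := by
      rintro a ha rfl
      exact ha h
    have h3 := ofSubtype_subtypePerm (p := fun a : Fin 7 => a ≠ 6) h1 h2
    refine ⟨⟨(x : Perm (Fin 7)).subtypePerm h1, mem_alternatingGroup.2 ?_⟩, Subtype.ext h3⟩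
    rw [← sign_ofSubtype, h3]
    exact mem_alternatingGroup.1 x.2

section plane

variable {K : Type*} [Field K] [IsAlgClosed K] {V : Type*} [AddCommGroup V] [Module K V] [FiniteDimensional K V]
    {D : Type*} [Group D] {π : D →* alternatingGroup (Fin 7)} {g : Fin 5 → D} {z : D} (H : Good π g z)
    (ρ : D →* Module.End K V) (hz : ρ z = -1) (h2 : (2 : K) ≠ 0)

/-- the preimage of the stabiliser of the point six -/
def pre (π : D →* alternatingGroup (Fin 7)) : Subgroup D := emb.range.comap π

theorem mem_pre {d : D} : d ∈ pre π ↔ (π d : Perm (Fin 7)) 6 = 6 := mem_range_emb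

/-- the projection -/
noncomputable def fB (π : D →* alternatingGroup (Fin 7)) : pre π →* alternatingGroup Six :=
  (MonoidHom.ofInjective emb_inj).symm.toMonoidHom.comp ((π.comp (pre π).subtype).codRestrict emb.range (fun x => x.2))

theorem emb_fB (x : pre π) : emb (fB π x) = π x := by
  change emb ((MonoidHom.ofInjective emb_inj).symm _) = _
  rw [← MonoidHom.ofInjective_apply emb_inj]
  exact congrArg Subtype.val ((MonoidHom.ofInjective emb_inj).apply_symm_apply _)

include H

theorem fB_surj : Function.Surjective (fB π) := by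
  intro t
  obtain ⟨x, hx⟩ := H.surj (emb t)
  exact ⟨⟨x, ⟨t, hx.symm⟩⟩, emb_inj (by rw [emb_fB]; exact hx)⟩

theorem fB_ker {x : pre π} (hx : fB π x = 1) : (x : D) = 1 ∨ (x : D) = z :=
  H.ker _ (by rw [← emb_fB, hx, map_one])

theorem z_mem : z ∈ pre π := by
  rw [mem_pre, H.pi_z]
  rfl

theorem fB_ker_le : (fB π).ker ≤ Subgroup.center (pre π) := by
  intro x hx
  rw [Subgroup.mem_center_iff]
  intro y
  apply Subtype.ext
  rcases fB_ker H hx with h | h
  · rw [Subgroup.coe_mul, Subgroup.coe_mul, h, one_mul, mul_one]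
  · rw [Subgroup.coe_mul, Subgroup.coe_mul, h]
    exact (H.zc y).symm

theorem fB_card : Nat.card (fB π).ker ∣ 2 := by
  classical
  have := H.fin
  have h1 : Nat.card (fB π).ker ≤ 2 := by
    have h3 : Function.Injective (fun x : (fB π).ker => decide ((x : pre π) = 1)) := by
      intro x y h
      by_cases hx : ((x : pre π) : D) = 1
      · have hx' : (x : pre π) = 1 := Subtype.ext hx
        simp only [hx', decide_true] at h
        have hy' : (y : pre π) = 1 := by simpa using h.symm
        exact Subtype.ext (hx'.trans hy'.symm)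
      · have hx' : (x : pre π) ≠ 1 := fun h0 => hx (congrArg Subtype.val h0)
        simp only [hx', decide_false] at h
        have hy' : (y : pre π) ≠ 1 := by simpa using h.symm
        have hy : ((y : pre π) : D) ≠ 1 := fun h0 => hy' (Subtype.ext h0)
        exact Subtype.ext (Subtype.ext (((fB_ker H x.2).resolve_left hx).trans ((fB_ker H y.2).resolve_left hy).symm))
    have h4 := Nat.card_le_card_of_injective _ h3
    rwa [Nat.card_eq_fintype_card (α := Bool), Fintype.card_bool] at h4
  have h2 : 0 < Nat.card (fB π).ker := Nat.card_pos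
  interval_cases h : Nat.card (fB π).ker <;> norm_num

def p6 : Fin 4 → Six := ![⟨0, by decide⟩, ⟨1, by decide⟩, ⟨2, by decide⟩, ⟨3, by decide⟩]

def i6 : alternatingGroup Six := ⟨swap (p6 0) (p6 1) * swap (p6 2) (p6 3), mem_alternatingGroup.2 (by decide +kernel)⟩

omit H in
theorem i6_sq : i6 * i6 = 1 := by decide +kernel
omit H in
theorem i6_ne : i6 ≠ 1 := by decide +kernel

theorem pre_perfect : commutator (pre π) = ⊤ := by
  have h5 : 5 ≤ Nat.card Six := by rw [Nat.card_eq_fintype_card]; decide
  have h1 : (commutator (pre π)).map (fB π) = ⊤ := by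
    rw [commutator_def, Subgroup.map_commutator, Subgroup.map_top_of_surjective _ (fB_surj H), ← commutator_def]
    exact commutator_alternatingGroup_eq_top h5
  have hzC : (⟨z, z_mem H⟩ : pre π) ∈ commutator (pre π) := by
    have h3 : i6 ∈ (commutator (pre π)).map (fB π) := by rw [h1]; trivial
    obtain ⟨y, hy, e⟩ := h3
    have h4 : (y : D) * (y : D) = z := by
      apply H.sq_eq
      · rw [← emb_fB, e, ← map_mul, i6_sq, map_one]
      · rw [← emb_fB, e]
        intro h0
        exact i6_ne (emb_inj (by rw [h0, map_one]))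
    have h6 : (⟨z, z_mem H⟩ : pre π) = y * y := Subtype.ext h4.symm
    rw [h6]
    exact mul_mem hy hy
  rw [eq_top_iff]
  intro x _
  have h3 : fB π x ∈ (commutator (pre π)).map (fB π) := by rw [h1]; trivial
  obtain ⟨y, hy, e⟩ := h3
  have h4 : π (x : D) = π (y : D) := by rw [← emb_fB, ← emb_fB, e]
  rcases H.eq_or h4 with h | h
  · have : x = y := Subtype.ext h
    rw [this]; exact hy
  · have : x = ⟨z, z_mem H⟩ * y := Subtype.ext h
    rw [this]; exact mul_mem hzC hy

include hz h2 in
theorem exists_plane [CharP K 3] {B : LinearMap.BilinForm K V} (hB : B.Nondegenerate)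
    (hinv : ∀ g u v, B (ρ g u) (ρ g v) = B u v) (h8 : finrank K V = 8) :
    ∃ S : Submodule K V, finrank K S = 2 ∧ ∀ d ∈ pre π, ∀ v ∈ S, ρ d v ∈ S := by
  classical
  have hfin := H.fin
  have hp3 : Fact (Nat.Prime 3) := ⟨by norm_num⟩
  have hV : Nontrivial V := Module.nontrivial_of_finrank_pos (R := K) (by rw [h8]; norm_num)
  have hzv : ∀ v, ρ z v = -v := fun v => by rw [hz]; rfl
  have hneg : ∀ v : V, -v = v → v = 0 := by
    intro v e1
    have e2 : (2 : K) • v = 0 := by
      rw [two_smul]
      nth_rewrite 1 [← e1]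
      exact neg_add_cancel v
    exact (smul_eq_zero.1 e2).resolve_left h2
  have hz1 : z ≠ 1 := by
    rintro rfl
    obtain ⟨v, hv⟩ := exists_ne (0 : V)
    apply hv
    apply hneg
    rw [← hzv v, map_one]
    rfl
  -- the field with nine elements
  let E := GaloisField 3 2
  have : Fintype E := Fintype.ofFinite E
  have hcE : Fintype.card E = 9 := by
    rw [← Nat.card_eq_fintype_card, GaloisField.card 3 2 (by norm_num)]
    norm_num
  have hEp : CharP E 3 := inferInstance
  obtain ⟨e0⟩ := S0254.result (F := E) hcE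
  let e1 : alternatingGroup (Fin 6) ≃* alternatingGroup Six := Equiv.altCongrHom (Fintype.equivOfCardEq (by decide))
  let e := e0.trans e1
  let πG : SpecialLinearGroup (Fin 2) E →* alternatingGroup Six :=
    e.toMonoidHom.comp (QuotientGroup.mk' (Subgroup.center (SpecialLinearGroup (Fin 2) E)))
  have hπG : Function.Surjective πG := e.surjective.comp (QuotientGroup.mk'_surjective _)
  have hkG : ∀ x, πG x = 1 → x ∈ Subgroup.center (SpecialLinearGroup (Fin 2) E) := by
    intro x hx
    have h3 : (QuotientGroup.mk' (Subgroup.center (SpecialLinearGroup (Fin 2) E))) x = 1 :=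
      e.injective (hx.trans (map_one e).symm)
    exact (QuotientGroup.eq_one_iff x).1 h3
  obtain ⟨θ, hθ, hcomp⟩ := H905.PCover.exists_hom_of_noPCov (p := 3) (πG := πG) (f := fB π)
    (H905.Md.sl_perfect (l := 1) le_rfl (fun _ => by rw [Nat.card_eq_fintype_card, hcE]; norm_num))
    (fun r hr hne => H60.CrossA.noPCov_SL_cross 1 3 hr hne) hπG (fun x hx => hkG x hx) (pre_perfect H) (fB_surj H)
    (fB_ker_le H) (by norm_num) (by
      have h3 := fB_card H
      exact Nat.Coprime.coprime_dvd_left h3 (by norm_num))
  -- `-1` goes to `z`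
  obtain ⟨m, hm⟩ := hθ ⟨z, z_mem H⟩
  have hmc : m ∈ Subgroup.center (SpecialLinearGroup (Fin 2) E) := by
    apply hkG
    rw [← hcomp, MonoidHom.comp_apply, hm]
    exact emb_inj (by rw [emb_fB, map_one]; exact H.pi_z)
  obtain ⟨a, ha, ham⟩ := Matrix.SpecialLinearGroup.mem_center_iff.1 hmc
  rw [Fintype.card_fin] at ha
  have ha1 : a = -1 := by
    have h3 : (a - 1) * (a + 1) = 0 := by linear_combination ha
    rcases mul_eq_zero.1 h3 with h | h
    · exfalso
      apply hz1
      have h4 : a = 1 := sub_eq_zero.1 h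
      have h5 : m = 1 := by
        apply Subtype.ext
        rw [← ham, h4, map_one]
        rfl
      rw [h5, map_one] at hm
      exact (congrArg Subtype.val hm).symm
    · exact eq_neg_of_add_eq_zero_left h
  -- a minimal subspace
  let stab : Submodule K V → Prop := fun S => S ≠ ⊥ ∧ ∀ d ∈ pre π, ∀ v ∈ S, ρ d v ∈ S
  have hex : ∃ n, ∃ S, stab S ∧ finrank K S = n :=
    ⟨_, ⊤, ⟨top_ne_bot, fun _ _ _ _ => Submodule.mem_top⟩, rfl⟩
  obtain ⟨S, ⟨hS0, hSs⟩, hSn⟩ := Nat.find_spec hex
  have hmin : ∀ N, stab N → N ≤ S → N = S := by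
    intro N hN hle
    apply Submodule.eq_of_le_of_finrank_le hle
    rw [hSn]
    exact Nat.find_min' hex ⟨N, hN, rfl⟩
  have hSnt : Nontrivial S := Submodule.nontrivial_iff_ne_bot.2 hS0
  let ρS : pre π →* Module.End K S :=
    { toFun := fun d => (ρ d).restrict (fun v hv => hSs d d.2 v hv)
      map_one' := by
        apply LinearMap.ext
        intro v
        apply Subtype.ext
        change ρ ((1 : pre π) : D) v = v
        rw [Subgroup.coe_one, map_one]
        rfl
      map_mul' := fun a b => by
        apply LinearMap.ext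
        intro v
        apply Subtype.ext
        change ρ ((a * b : pre π) : D) v = ρ a (ρ b v)
        rw [Subgroup.coe_mul, map_mul]
        rfl }
  have hρS : ∀ d v, (ρS d v : V) = ρ (d : D) v := fun d v => rfl
  let R : SpecialLinearGroup (Fin 2) E →* Module.End K S := ρS.comp θ
  have hRm : ∀ v, R m v = -v := by
    intro v
    apply Subtype.ext
    change ρ ((θ m : pre π) : D) v = _
    rw [hm]
    exact hzv v
  let : Algebra (ZMod 3) K := ZMod.algebra K 3
  let j : E →+* K := (IsAlgClosed.lift (R := ZMod 3) (S := E) (M := K)).toRingHom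
  obtain ⟨r, Φ, hr0, hr8, hinj, hΦ, hrange⟩ := H875.Fn.exists_model j R 3 (by
      intro N hN
      by_cases hNb : N = ⊥
      · exact Or.inl hNb
      · right
        have h3 := hmin (N.map S.subtype) ⟨by
            intro h0
            apply hNb
            rw [eq_bot_iff]
            intro v hv
            have h4 : (v : V) ∈ N.map S.subtype := ⟨v, hv, rfl⟩
            rw [h0, Submodule.mem_bot] at h4
            exact (Submodule.mem_bot K).2 (Subtype.ext h4), by
            rintro d hd _ ⟨v, hv, rfl⟩
            obtain ⟨x, hx⟩ := hθ ⟨d, hd⟩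
            refine ⟨R x v, hN x hv, ?_⟩
            change (ρS (θ x) v : V) = _
            rw [hx]
            rfl⟩ (Submodule.map_subtype_le S N)
        rw [eq_top_iff]
        intro v _
        have h4 : (v : V) ∈ N.map S.subtype := by rw [h3]; exact v.2
        obtain ⟨w, hw, e⟩ := h4
        have : w = v := Subtype.ext e
        rwa [← this]) (by
      intro v hv
      have h3 := hv m
      rw [hRm] at h3
      apply Subtype.ext
      exact hneg _ (congrArg Subtype.val h3))
  -- the parity of `r`
  have hodd : Odd r := by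
    by_contra hcon
    rw [Nat.not_odd_iff_even] at hcon
    obtain ⟨v, hv⟩ := exists_ne (0 : S)
    apply hv
    apply hinj
    rw [map_zero]
    have hL : ∀ f ∈ H875.Fn.L j r, ∀ x : E × E, f (-x) = f x := by
      intro f hf
      induction hf using Submodule.span_induction with
      | mem f hf =>
        obtain ⟨c, rfl⟩ := hf
        intro x
        change j ((-x).1 * c.1 + (-x).2 * c.2) ^ r = j (x.1 * c.1 + x.2 * c.2) ^ r
        have h3 : (-x).1 * c.1 + (-x).2 * c.2 = -(x.1 * c.1 + x.2 * c.2) := by
          rw [Prod.fst_neg, Prod.snd_neg]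
          ring
        rw [h3, map_neg, hcon.neg_pow]
      | zero => intro x; rfl
      | add f g _ _ hf hg =>
        intro x
        change f (-x) + g (-x) = f x + g x
        rw [hf, hg]
      | smul c f _ hf =>
        intro x
        change c • f (-x) = c • f x
        rw [hf]
    have h3 : Φ (R m v) = -(Φ v) := by rw [hRm, map_neg]
    rw [hΦ] at h3
    have hv' : Φ v ∈ H875.Fn.L j r := by rw [← hrange]; exact ⟨v, rfl⟩
    ext x
    have h4 := congrFun h3 x
    rw [H875.Fn.act_apply] at h4
    have h5 : H875.Fn.vm x m = -x := by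
      unfold H875.Fn.vm
      have hm' : m.1 = -1 := by
        rw [← ham, ha1, map_neg, map_one]
      rw [hm']
      ext <;> simp <;> exact mul_neg_one _
    rw [h5, hL _ hv', Pi.neg_apply] at h4
    have h6 : (2 : K) * Φ v x = 0 := by linear_combination h4
    rw [Pi.zero_apply]
    exact (mul_eq_zero.1 h6).resolve_left h2
  have hdim : finrank K S = (H875.Fn.SS 3 r).card := by
    rw [← H875.Fn.finrank_L j 3 hr8, ← hrange]
    exact (LinearEquiv.ofInjective Φ hinj).finrank_eq
  rw [hcE] at hr8
  have hcases : finrank K S = 2 ∨ finrank K S = 6 := by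
    rw [hdim]
    have h3 : r = 1 ∨ r = 3 ∨ r = 5 ∨ r = 7 := by
      obtain ⟨k, hk⟩ := hodd
      omega
    rcases h3 with rfl | rfl | rfl | rfl
    · left; decide
    · left; decide
    · right; decide
    · right; decide
  rcases hcases with h | h
  · exact ⟨S, h, hSs⟩
  · refine ⟨B.orthogonal S, ?_, ?_⟩
    · rw [LinearMap.BilinForm.finrank_orthogonal hB, h8, h]
    · intro d hd v hv
      rw [LinearMap.BilinForm.mem_orthogonal_iff] at hv ⊢
      intro s hs
      have h3 := hv (ρ d⁻¹ s) (hSs d⁻¹ (inv_mem hd) s hs)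
      change B s (ρ d v) = 0
      rw [← h3, ← hinv d (ρ d⁻¹ s) v]
      congr 2
      rw [← Module.End.mul_apply, ← map_mul, mul_inv_cancel, map_one]
      rfl

end plane

end Cfsg.Agent.H871.A7
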