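import Cfsg.Agent.H871.A7Clif
import Cfsg.Agent.H637.A7Cov

/-!
# The double cover of `A₇`: lifts of three-cycles satisfy `x² + x + 1 = 0` in dimension eight, characteristic `≠ 2, 3`
-/

set_option autoImplicit false
set_option linter.unusedSectionVars false

namespace Cfsg.Agent.H871.A7

open Module Equiv Equiv.Perm Cfsg.Agent.H637.A7Grp Cfsg.Agent.H637.A7Cov

section lin

variable {K : Type*} [Field K] {V : Type*} [AddCommGroup V] [Module K V] [FiniteDimensional K V]

/-- a subspace stable under anticommuting square roots of `-1` has even dimension -/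
theorem even_quat [IsAlgClosed K] (h2 : (2 : K) ≠ 0) {I J : Module.End K V} {U : Submodule K V}
    (hI : ∀ v ∈ U, I v ∈ U) (hJ : ∀ v ∈ U, J v ∈ U) (hII : ∀ v ∈ U, I (I v) = -v)
    (hJJ : ∀ v ∈ U, J (J v) = -v) (hIJ : ∀ v ∈ U, I (J v) = -(J (I v))) : Even (finrank K U) := by
  obtain ⟨s, hs⟩ := IsAlgClosed.exists_pow_nat_eq (-1 : K) (n := 2) (by norm_num)
  have h1 := split2 (K := K) h2 (T := s • I) (U := U) (fun v hv => U.smul_mem _ (hI v hv)) (fun v hv => by
    rw [LinearMap.smul_apply, LinearMap.smul_apply, map_smul, smul_smul, hII v hv, ← pow_two, hs]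
    simp)
  have h3 : ∀ e : K, finrank K ↥(U ⊓ (s • I).eigenspace e) ≤ finrank K ↥(U ⊓ (s • I).eigenspace (-e)) := by
    intro e
    let f : ↥(U ⊓ (s • I).eigenspace e) →ₗ[K] ↥(U ⊓ (s • I).eigenspace (-e)) :=
      LinearMap.restrict J (fun v hv => by
        refine ⟨hJ v hv.1, ?_⟩
        change _ ∈ (s • I).eigenspace (-e)
        have e1 := Module.End.mem_eigenspace_iff.1 hv.2
        rw [Module.End.mem_eigenspace_iff]
        rw [LinearMap.smul_apply] at e1 ⊢
        rw [hIJ v hv.1, smul_neg, ← map_smul, e1, map_smul, neg_smul])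
    apply LinearMap.finrank_le_finrank_of_injective (f := f)
    rw [← LinearMap.ker_eq_bot, LinearMap.ker_eq_bot']
    intro v hv
    have e2 : J (v : V) = 0 := congrArg Subtype.val hv
    have e3 := hJJ v v.2.1
    rw [e2, map_zero] at e3
    exact Subtype.ext (neg_eq_zero.1 e3.symm)
  have h4 := h3 1
  have h5 := h3 (-1)
  rw [neg_neg] at h5
  exact ⟨finrank K ↥(U ⊓ (s • I).eigenspace 1), by omega⟩

/-- cube roots of unity -/
structure Cub (w : K) : Prop where
  rel : w * w + w + 1 = 0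
  ne : (3 : K) ≠ 0

theorem Cub.cube {w : K} (h : Cub w) : w * w * w = 1 := by
  have := h.rel
  linear_combination (w - 1) * this

theorem Cub.ne_one {w : K} (h : Cub w) : w ≠ 1 := by
  rintro rfl
  apply h.ne
  have := h.rel
  linear_combination this

theorem Cub.sq_ne_one {w : K} (h : Cub w) : w * w ≠ 1 := by
  intro h1
  apply h.ne_one
  have := h.cube
  rw [h1, one_mul] at this
  exact this

theorem Cub.sq_ne {w : K} (h : Cub w) : w * w ≠ w := by
  intro h1
  have h2 := h.cube
  rw [h1, h1] at h2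
  exact h.ne_one h2

theorem Cub.sq {w : K} (h : Cub w) : Cub (w * w) := ⟨by
  have h1 := h.rel
  have h2 := h.cube
  linear_combination h1 + w * h2, h.ne⟩

theorem exists_cub [IsAlgClosed K] (h3 : (3 : K) ≠ 0) : ∃ w : K, Cub w := by
  obtain ⟨w, hw⟩ := IsAlgClosed.exists_root (Polynomial.X ^ 2 + Polynomial.X + Polynomial.C 1 : Polynomial K) (by
    have h1 : (Polynomial.X ^ 2 + Polynomial.X + Polynomial.C 1 : Polynomial K).degree = 2 := by
      compute_degree!
    rw [h1]; decide)
  refine ⟨w, ?_, h3⟩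
  rw [Polynomial.IsRoot.def] at hw
  simp only [Polynomial.eval_add, Polynomial.eval_pow, Polynomial.eval_X, Polynomial.eval_C] at hw
  linear_combination hw

/-- joint decomposition for an operator of order three -/
theorem split3 {w : K} (hw : Cub w) {T : Module.End K V} {U : Submodule K V} (hU : ∀ v ∈ U, T v ∈ U)
    (hT : ∀ v ∈ U, T (T (T v)) = v) :
    finrank K U = finrank K ↥(U ⊓ T.eigenspace 1) + finrank K ↥(U ⊓ T.eigenspace w) +
      finrank K ↥(U ⊓ T.eigenspace (w * w)) := by
  have h3 := hw.ne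
  have hc := hw.cube
  have hr := hw.rel
  -- two eigenspaces
  have hdis : ∀ {a b : K}, a ≠ b → ∀ {v : V}, T v = a • v → T v = b • v → v = 0 := by
    intro a b hab v h1 h2
    have h4 : (a - b) • v = 0 := by rw [sub_smul, ← h1, ← h2, sub_self]
    exact (smul_eq_zero.1 h4).resolve_left (sub_ne_zero.2 hab)
  have i1 : (U ⊓ T.eigenspace 1) ⊓ (U ⊓ T.eigenspace w) = ⊥ := by
    rw [eq_bot_iff]
    rintro v ⟨⟨-, h⟩, ⟨-, h'⟩⟩
    exact hdis hw.ne_one.symm (Module.End.mem_eigenspace_iff.1 h) (Module.End.mem_eigenspace_iff.1 h')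
  have i2 : ((U ⊓ T.eigenspace 1) ⊔ (U ⊓ T.eigenspace w)) ⊓ (U ⊓ T.eigenspace (w * w)) = ⊥ := by
    rw [eq_bot_iff]
    rintro v ⟨h, ⟨-, h'⟩⟩
    obtain ⟨a, ⟨-, ha⟩, b, ⟨-, hb⟩, rfl⟩ := Submodule.mem_sup.1 h
    have ha' : T a = (1 : K) • a := Module.End.mem_eigenspace_iff.1 ha
    have hb' : T b = w • b := Module.End.mem_eigenspace_iff.1 hb
    have h4 : T (a + b) = (w * w) • (a + b) := Module.End.mem_eigenspace_iff.1 h'
    rw [map_add, ha', hb'] at h4
    have h5 : (1 - w * w) • a = (w * w - w) • b := by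
      rw [sub_smul, sub_smul, sub_eq_sub_iff_add_eq_add, h4, smul_add]
      abel
    have h6 : T ((1 - w * w) • a) = (1 : K) • ((1 - w * w) • a) := by rw [map_smul, ha', smul_comm]
    have h7 : T ((1 - w * w) • a) = w • ((1 - w * w) • a) := by rw [h5, map_smul, hb', smul_comm]
    have h8 := hdis hw.ne_one.symm h6 h7
    have ha0 : a = 0 := (smul_eq_zero.1 h8).resolve_left (sub_ne_zero.2 hw.sq_ne_one.symm)
    rw [h8] at h5
    have hb0 : b = 0 := (smul_eq_zero.1 h5.symm).resolve_left (sub_ne_zero.2 hw.sq_ne)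
    rw [Submodule.mem_bot, ha0, hb0, add_zero]
  have hsup : (U ⊓ T.eigenspace 1) ⊔ (U ⊓ T.eigenspace w) ⊔ (U ⊓ T.eigenspace (w * w)) = U := by
    apply le_antisymm (sup_le (sup_le inf_le_left inf_le_left) inf_le_left)
    intro v hv
    have hv1 := hU v hv
    have hv2 := hU _ hv1
    have e1 : v = (3 : K)⁻¹ • (v + T v + T (T v)) + (3 : K)⁻¹ • (v + (w * w) • T v + w • T (T v)) +
        (3 : K)⁻¹ • (v + w • T v + (w * w) • T (T v)) := by
      have e2 : (v + T v + T (T v)) + (v + (w * w) • T v + w • T (T v)) + (v + w • T v + (w * w) • T (T v)) =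
          (3 : K) • v + (w * w + w + 1) • T v + (w * w + w + 1) • T (T v) := by module
      rw [← smul_add, ← smul_add, e2, hr, zero_smul, zero_smul, add_zero, add_zero, smul_smul, inv_mul_cancel₀ h3,
        one_smul]
    rw [e1]
    refine Submodule.add_mem_sup (Submodule.add_mem_sup ⟨U.smul_mem _ (U.add_mem (U.add_mem hv hv1) hv2), ?_⟩
      ⟨U.smul_mem _ (U.add_mem (U.add_mem hv (U.smul_mem _ hv1)) (U.smul_mem _ hv2)), ?_⟩)
      ⟨U.smul_mem _ (U.add_mem (U.add_mem hv (U.smul_mem _ hv1)) (U.smul_mem _ hv2)), ?_⟩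
    · change _ ∈ T.eigenspace 1
      rw [Module.End.mem_eigenspace_iff, map_smul, map_add, map_add, hT v hv, one_smul]
      congr 1
      abel
    · change _ ∈ T.eigenspace w
      rw [Module.End.mem_eigenspace_iff, map_smul, map_add, map_add, map_smul, map_smul, hT v hv, smul_comm]
      congr 1
      have e3 : w • (v + (w * w) • T v + w • T (T v)) = w • v + (w * w * w) • T v + (w * w) • T (T v) := by module
      rw [e3, hc, one_smul]
      abel
    · change _ ∈ T.eigenspace (w * w)
      rw [Module.End.mem_eigenspace_iff, map_smul, map_add, map_add, map_smul, map_smul, hT v hv, smul_comm]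
      congr 1
      have e3 : (w * w) • (v + w • T v + (w * w) • T (T v)) = (w * w) • v + (w * w * w) • T v +
          ((w * w * w) * w) • T (T v) := by module
      rw [e3, hc, one_smul, one_mul]
      abel
  have h6 := Submodule.finrank_sup_add_finrank_inf_eq (U ⊓ T.eigenspace 1) (U ⊓ T.eigenspace w)
  have h7 := Submodule.finrank_sup_add_finrank_inf_eq ((U ⊓ T.eigenspace 1) ⊔ (U ⊓ T.eigenspace w))
    (U ⊓ T.eigenspace (w * w))
  rw [i1, finrank_bot, add_zero] at h6
  rw [i2, hsup, finrank_bot, add_zero, h6] at h7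
  exact h7

/-- **The triangle inequality** for `SL₂(3)`. -/
theorem triangle (h2 : (2 : K) ≠ 0) {a b c : K} (hbc : b ≠ c) {T I J Q : Module.End K V} {U : Submodule K V}
    (hTU : ∀ v ∈ U, T v ∈ U) (hIU : ∀ v ∈ U, I v ∈ U)
    (hpoly : ∀ v ∈ U, T (T (T v)) - (a + b + c) • T (T v) + (a * b + b * c + a * c) • T v - (a * b * c) • v = 0)
    (hTI : ∀ v, T (I v) = J (T v)) (hTJ : ∀ v, T (J v) = Q (T v)) (ha : a ≠ 0)
    (hII : ∀ v, I (I v) = -v) (hIJ : (∀ v, Q v = I (J v)) ∨ (∀ v, Q v = -(I (J v)))) :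
    finrank K ↥(U ⊓ T.eigenspace a) ≤ finrank K ↥(U ⊓ T.eigenspace b) + finrank K ↥(U ⊓ T.eigenspace c) := by
  let f : ↥(U ⊓ T.eigenspace a) →ₗ[K] ↥((U ⊓ T.eigenspace b) ⊔ (U ⊓ T.eigenspace c)) :=
    LinearMap.codRestrict _ (((T - algebraMap K _ a) ∘ₗ I) ∘ₗ (U ⊓ T.eigenspace a).subtype) (by
      intro v
      have hv := v.2.1
      have hIv := hIU _ hv
      set x := I (v : V) with hx
      have h1 := hTU _ hIv
      have h3 := hTU _ h1
      change T x - a • x ∈ _
      have hbc' : b - c ≠ 0 := sub_ne_zero.2 hbc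
      have e1 : T x - a • x = (b - c)⁻¹ • ((T (T x) - a • T x) - c • (T x - a • x)) +
          (-(b - c)⁻¹) • ((T (T x) - a • T x) - b • (T x - a • x)) := by
        have e2 : (b - c)⁻¹ • ((T (T x) - a • T x) - c • (T x - a • x)) +
          (-(b - c)⁻¹) • ((T (T x) - a • T x) - b • (T x - a • x)) = ((b - c)⁻¹ * (b - c)) • (T x - a • x) := by
          module
        rw [e2, inv_mul_cancel₀ hbc', one_smul]
      have hp := hpoly x hIv
      rw [e1]
      refine Submodule.add_mem_sup ⟨?_, ?_⟩ ⟨?_, ?_⟩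
      · exact U.smul_mem _ (U.sub_mem (U.sub_mem h3 (U.smul_mem _ h1)) (U.smul_mem _ (U.sub_mem h1 (U.smul_mem _ hIv))))
      · change _ ∈ T.eigenspace b
        rw [Module.End.mem_eigenspace_iff, map_smul, smul_comm]
        congr 1
        simp only [map_sub, map_smul]
        rw [← sub_eq_zero, ← hp]
        module
      · exact U.smul_mem _ (U.sub_mem (U.sub_mem h3 (U.smul_mem _ h1)) (U.smul_mem _ (U.sub_mem h1 (U.smul_mem _ hIv))))
      · change _ ∈ T.eigenspace c
        rw [Module.End.mem_eigenspace_iff, map_smul, smul_comm]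
        congr 1
        simp only [map_sub, map_smul]
        rw [← sub_eq_zero, ← hp]
        module)
  have hf : Function.Injective f := by
    rw [← LinearMap.ker_eq_bot, LinearMap.ker_eq_bot']
    intro v hv
    have h1 : T (I (v : V)) - a • I (v : V) = 0 := congrArg Subtype.val hv
    have h3 : T (v : V) = a • (v : V) := Module.End.mem_eigenspace_iff.1 v.2.2
    have h4 : T (I (v : V)) = a • I (v : V) := sub_eq_zero.1 h1
    have h5 : J (v : V) = I (v : V) := by
      have h6 := hTI (v : V)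
      rw [h4, h3, map_smul] at h6
      exact (smul_right_injective V ha h6).symm
    have h6 : Q (v : V) = J (v : V) := by
      have h7 := hTJ (v : V)
      rw [h5, h4, h3, map_smul] at h7
      rw [h5]
      exact (smul_right_injective V ha h7).symm
    have h7 : I (J (v : V)) = -v := by rw [h5, hII]
    have h8 : ∃ e : K, e * e = 1 ∧ I (v : V) = e • (v : V) := by
      rcases hIJ with h | h
      · refine ⟨-1, by ring, ?_⟩
        rw [← h5, ← h6, h, h7, neg_one_smul]
      · refine ⟨1, by ring, ?_⟩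
        rw [← h5, ← h6, h, h7, neg_neg, one_smul]
    obtain ⟨e, he, h9⟩ := h8
    have h10 := hII (v : V)
    rw [h9, map_smul, h9, smul_smul, he, one_smul] at h10
    have h11 : (2 : K) • (v : V) = 0 := by
      rw [two_smul]
      nth_rewrite 1 [h10]
      exact neg_add_cancel _
    exact Subtype.ext ((smul_eq_zero.1 h11).resolve_left h2)
  exact (LinearMap.finrank_le_finrank_of_injective hf).trans
    (Submodule.finrank_add_le_finrank_add_finrank _ _)

end lin

/-! ### the group -/

section grp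

variable {D : Type*} [Group D] {π : D →* alternatingGroup (Fin 7)} {g : Fin 5 → D} {z : D} (H : Good π g z)

include H

theorem uniq3 (hz : z ≠ 1) {x y : D} (hx : x * x * x = 1) (hy : y * y * y = 1) (h : π x = π y) : x = y := by
  rcases H.eq_or h with h1 | h1
  · exact h1
  · exfalso
    apply hz
    have e : x * x * x = z * z * z * (y * y * y) := by
      rw [h1]
      have c1 := H.zc y
      calc z * y * (z * y) * (z * y) = z * (y * z) * y * (z * y) := by group
        _ = z * (z * y) * y * (z * y) := by rw [c1]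
        _ = z * z * y * (y * z) * y := by group
        _ = z * z * y * (z * y) * y := by rw [c1]
        _ = z * z * (y * z) * y * y := by group
        _ = z * z * (z * y) * y * y := by rw [c1]
        _ = z * z * z * (y * y * y) := by group
    rw [hx, hy, mul_one, H.zz, one_mul] at e
    exact e.symm

theorem lift3 {t : alternatingGroup (Fin 7)} (ht : t * t * t = 1) : ∃ x : D, π x = t ∧ x * x * x = 1 := by
  obtain ⟨y, rfl⟩ := H.surj t
  have h1 : y * y * y = 1 ∨ y * y * y = z := H.ker _ (by rw [map_mul, map_mul, ht])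
  refine ⟨y * (y * y * y), ?_, ?_⟩
  · rw [map_mul, map_mul π (y * y), map_mul π y, ht, mul_one]
  · have h2 : (y * y * y) * (y * y * y) = 1 := by
      rcases h1 with h | h
      · rw [h, one_mul]
      · rw [h, H.zz]
    calc y * (y * y * y) * (y * (y * y * y)) * (y * (y * y * y)) =
          ((y * y * y) * (y * y * y)) * ((y * y * y) * (y * y * y)) := by group
      _ = 1 := by rw [h2, one_mul]

/-- a lift of an element of order three is carried to the lift -/
theorem conj3 (hz : z ≠ 1) {x y b : D} (hx : x * x * x = 1) (hy : y * y * y = 1) (h : π b * π x * (π b)⁻¹ = π y) :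
    b * x * b⁻¹ = y := by
  apply uniq3 H hz _ hy (by rw [map_mul, map_mul, map_inv, h])
  calc b * x * b⁻¹ * (b * x * b⁻¹) * (b * x * b⁻¹) = b * (x * x * x) * b⁻¹ := by group
    _ = 1 := by rw [hx, mul_one, mul_inv_cancel]

end grp

def cc : alternatingGroup (Fin 7) := ⟨c[4, 5, 6], mem_alternatingGroup.2 (by decide +kernel)⟩
def tt : alternatingGroup (Fin 7) := ⟨c[0, 1, 2], mem_alternatingGroup.2 (by decide +kernel)⟩
def ii : alternatingGroup (Fin 7) := ⟨c[0, 1] * c[2, 3], mem_alternatingGroup.2 (by decide +kernel)⟩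
def jj : alternatingGroup (Fin 7) := ⟨c[1, 2] * c[0, 3], mem_alternatingGroup.2 (by decide +kernel)⟩
def kk : alternatingGroup (Fin 7) := ⟨c[2, 0] * c[1, 3], mem_alternatingGroup.2 (by decide +kernel)⟩
def rr : alternatingGroup (Fin 7) := ⟨c[0, 4] * c[1, 6, 2, 5], mem_alternatingGroup.2 (by decide +kernel)⟩

theorem cc3 : cc * cc * cc = 1 := by decide +kernel
theorem tt3 : tt * tt * tt = 1 := by decide +kernel
theorem ii2 : ii * ii = 1 := by decide +kernel
theorem iine : ii ≠ 1 := by decide +kernel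
theorem jj2 : jj * jj = 1 := by decide +kernel
theorem jjne : jj ≠ 1 := by decide +kernel
theorem ij2 : (ii * jj) * (ii * jj) = 1 := by decide +kernel
theorem ijne : ii * jj ≠ 1 := by decide +kernel
theorem tij : tt * ii * tt⁻¹ = jj := by decide +kernel
theorem tjk : tt * jj * tt⁻¹ = kk := by decide +kernel
theorem ijk : ii * jj = kk := by decide +kernel
theorem ctt : cc * tt * cc⁻¹ = tt := by decide +kernel
theorem ict : ii * cc * ii⁻¹ = cc := by decide +kernel
theorem jct : jj * cc * jj⁻¹ = cc := by decide +kernel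
theorem rct : rr * cc * rr⁻¹ = tt := by decide +kernel
theorem rtc : rr * tt * rr⁻¹ = cc⁻¹ := by decide +kernel

theorem two_quad {K : Type*} [Field K] [IsAlgClosed K] {V : Type*} [AddCommGroup V] [Module K V] [FiniteDimensional K V]
    {D : Type*} [Group D] {π : D →* alternatingGroup (Fin 7)} {g : Fin 5 → D} {z : D} (H : Good π g z)
    (ρ : D →* Module.End K V) (hz : ρ z = -1) (h2 : (2 : K) ≠ 0) (h3 : (3 : K) ≠ 0) (h8 : finrank K V = 8) :
    ∃ c : D, π c = cc ∧ c * c * c = 1 ∧ ρ c * ρ c + ρ c + 1 = 0 := by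
  have hV : Nontrivial V := Module.nontrivial_of_finrank_pos (R := K) (by rw [h8]; norm_num)
  have hz1 : z ≠ 1 := by
    rintro rfl
    rw [map_one] at hz
    obtain ⟨v, hv⟩ := exists_ne (0 : V)
    apply hv
    have e1 := congrArg (fun A : Module.End K V => A v) hz
    change v = -v at e1
    have e2 : (2 : K) • v = 0 := by
      rw [two_smul]
      nth_rewrite 1 [e1]
      exact neg_add_cancel v
    exact (smul_eq_zero.1 e2).resolve_left h2
  obtain ⟨c, hc, hccc⟩ := lift3 H cc3
  obtain ⟨t, ht, httt⟩ := lift3 H tt3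
  obtain ⟨i, hi⟩ := H.surj ii
  obtain ⟨r, hr⟩ := H.surj rr
  refine ⟨c, hc, hccc, ?_⟩
  set j := t * i * t⁻¹ with hj
  set k := t * j * t⁻¹ with hk
  have hπj : π j = jj := by rw [hj, map_mul, map_mul, map_inv, ht, hi, tij]
  have hπk : π k = kk := by rw [hk, map_mul, map_mul, map_inv, ht, hπj, tjk]
  have i2 : i * i = z := H.sq_eq (by rw [hi, ii2]) (by rw [hi]; exact iine)
  have j2 : j * j = z := H.sq_eq (by rw [hπj, jj2]) (by rw [hπj]; exact jjne)
  have e2 : (i * j) * (i * j) = z := H.sq_eq (by rw [map_mul, hi, hπj, ij2]) (by rw [map_mul, hi, hπj]; exact ijne)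
  have hkij : k = i * j ∨ k = z * (i * j) := H.eq_or (by rw [hπk, map_mul, hi, hπj, ijk])
  have hic : i * c * i⁻¹ = c := conj3 H hz1 hccc hccc (by rw [hi, hc, ict])
  have hjc : j * c * j⁻¹ = c := conj3 H hz1 hccc hccc (by rw [hπj, hc, jct])
  have hct : c * t * c⁻¹ = t := conj3 H hz1 httt httt (by rw [hc, ht, ctt])
  have hrc : r * c * r⁻¹ = t := conj3 H hz1 hccc httt (by rw [hr, hc, ht, rct])
  have hrt : r * t * r⁻¹ = c⁻¹ := conj3 H hz1 httt (by
    rw [← mul_inv_rev, ← mul_inv_rev, ← mul_assoc, hccc, inv_one]) (by rw [hr, ht, map_inv, hc, rtc])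
  -- operators
  have hop : ∀ (a b : D) (v : V), ρ a (ρ b v) = ρ (a * b) v := fun a b v => by rw [map_mul]; rfl
  have hzv : ∀ v, ρ z v = -v := fun v => by rw [hz]; rfl
  have hII : ∀ v, ρ i (ρ i v) = -v := fun v => by rw [hop, i2, hzv]
  have hJJ : ∀ v, ρ j (ρ j v) = -v := fun v => by rw [hop, j2, hzv]
  have hIJ : ∀ v, ρ i (ρ j v) = -(ρ j (ρ i v)) := by
    intro v
    have e3 : i * j = z * (j * i) := by
      -- `i j = z (i j)⁻¹ = z j⁻¹ i⁻¹ = z (z j) (z i)`
      have hi' : i⁻¹ = z * i := by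
        rw [inv_eq_iff_mul_eq_one, H.zc, ← mul_assoc, i2, H.zz]
      have hj' : j⁻¹ = z * j := by
        rw [inv_eq_iff_mul_eq_one, H.zc, ← mul_assoc, j2, H.zz]
      calc i * j = z * (i * j)⁻¹ := by rw [← e2]; group
        _ = z * (j⁻¹ * i⁻¹) := by rw [mul_inv_rev]
        _ = z * ((z * j) * (z * i)) := by rw [hi', hj']
        _ = z * (z * (j * z) * i) := by group
        _ = z * (z * (z * j) * i) := by rw [H.zc j]
        _ = z * (z * z) * (j * i) := by group
        _ = z * (j * i) := by rw [H.zz, mul_one]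
    rw [hop, e3, ← hop, ← hop, hzv]
  have hTI : ∀ v, ρ t (ρ i v) = ρ j (ρ t v) := by
    intro v
    rw [hop, hop, hj]
    congr 2
    group
  have hTJ : ∀ v, ρ t (ρ j v) = ρ k (ρ t v) := by
    intro v
    rw [hop, hop, hk]
    congr 2
    group
  have hQ : (∀ v, ρ k v = ρ i (ρ j v)) ∨ (∀ v, ρ k v = -(ρ i (ρ j v))) := by
    rcases hkij with h | h
    · left
      intro v
      rw [h, hop]
    · right
      intro v
      rw [h, ← hop, hzv, hop]
  have hT3 : ∀ v, ρ t (ρ t (ρ t v)) = v := by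
    intro v
    rw [hop, hop, httt, map_one]
    rfl
  have hC3 : ∀ v, ρ c (ρ c (ρ c v)) = v := by
    intro v
    rw [hop, hop, hccc, map_one]
    rfl
  have hCT : ∀ v, ρ c (ρ t v) = ρ t (ρ c v) := by
    intro v
    rw [hop, hop, mul_inv_eq_iff_eq_mul.1 hct]
  have hCI : ∀ v, ρ c (ρ i v) = ρ i (ρ c v) := by
    intro v
    rw [hop, hop, ← mul_inv_eq_iff_eq_mul.1 hic]
  have hCJ : ∀ v, ρ c (ρ j v) = ρ j (ρ c v) := by
    intro v
    rw [hop, hop, ← mul_inv_eq_iff_eq_mul.1 hjc]
  obtain ⟨w, hw⟩ := exists_cub h3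
  -- the rotation
  have hrot : ∀ a b : K, b * b * b = 1 → finrank K ↥((ρ c).eigenspace a ⊓ (ρ t).eigenspace b) ≤
      finrank K ↥((ρ c).eigenspace (b * b) ⊓ (ρ t).eigenspace a) := by
    intro a b hb
    have hm : ((ρ c).eigenspace a ⊓ (ρ t).eigenspace b).map (ρ r) ≤ (ρ c).eigenspace (b * b) ⊓ (ρ t).eigenspace a := by
      rintro _ ⟨v, ⟨h4, h5⟩, rfl⟩
      have h4' : ρ c v = a • v := Module.End.mem_eigenspace_iff.1 h4
      have h5' : ρ t v = b • v := Module.End.mem_eigenspace_iff.1 h5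
      refine ⟨?_, ?_⟩
      · change _ ∈ (ρ c).eigenspace (b * b)
        rw [Module.End.mem_eigenspace_iff, hop]
        have e4 : c * r = r * (t * t) := by
          have e5 : c = r * t⁻¹ * r⁻¹ := by
            have := congrArg (fun x => x⁻¹) hrt
            simp only [inv_inv] at this
            rw [← this]
            group
          have e6 : t⁻¹ = t * t := inv_eq_of_mul_eq_one_left httt
          rw [e5, inv_mul_cancel_right, e6]
        rw [e4, ← hop, ← hop, h5', map_smul, h5', map_smul, map_smul, smul_smul]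
      · change _ ∈ (ρ t).eigenspace a
        rw [Module.End.mem_eigenspace_iff, hop]
        have e4 : t * r = r * c := (mul_inv_eq_iff_eq_mul.1 hrc).symm
        rw [e4, ← hop, h4', map_smul]
    exact (Submodule.equivMapOfInjective (ρ r) (H912.Bd.rho_injective ρ r) _).finrank_eq.trans_le (Submodule.finrank_mono hm)
  have hw3 := hw.cube
  have hw3' : (w * w) * (w * w) * (w * w) = 1 := hw.sq.cube
  have hww : (w * w) * (w * w) = w := by linear_combination w * hw3
  have r1 := hrot 1 w hw3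
  have r2 := hrot (w * w) 1 (by ring)
  have r3 := hrot 1 (w * w) hw3'
  have r4 := hrot w 1 (by ring)
  have r5 := hrot w w hw3
  have r6 := hrot (w * w) w hw3
  have r7 := hrot (w * w) (w * w) hw3'
  have r8 := hrot w (w * w) hw3'
  rw [one_mul] at r2 r4
  rw [hww] at r3 r7 r8
  -- stable subspaces
  have hUt : ∀ a : K, ∀ v ∈ (ρ c).eigenspace a, ρ t v ∈ (ρ c).eigenspace a := by
    intro a v hv
    rw [Module.End.mem_eigenspace_iff] at hv ⊢
    rw [hCT, hv, map_smul]
  have hUi : ∀ a : K, ∀ v ∈ (ρ c).eigenspace a, ρ i v ∈ (ρ c).eigenspace a := by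
    intro a v hv
    rw [Module.End.mem_eigenspace_iff] at hv ⊢
    rw [hCI, hv, map_smul]
  have hUj : ∀ a : K, ∀ v ∈ (ρ c).eigenspace a, ρ j v ∈ (ρ c).eigenspace a := by
    intro a v hv
    rw [Module.End.mem_eigenspace_iff] at hv ⊢
    rw [hCJ, hv, map_smul]
  have s0 := split3 hw (T := ρ c) (U := ⊤) (fun _ _ => Submodule.mem_top) (fun v _ => hC3 v)
  rw [finrank_top, h8, top_inf_eq, top_inf_eq, top_inf_eq] at s0
  have s1 := split3 hw (T := ρ t) (hUt 1) (fun v _ => hT3 v)
  have s2 := split3 hw (T := ρ t) (hUt w) (fun v _ => hT3 v)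
  have s3 := split3 hw (T := ρ t) (hUt (w * w)) (fun v _ => hT3 v)
  have p1 := even_quat h2 (hUi 1) (hUj 1) (fun v _ => hII v) (fun v _ => hJJ v) (fun v _ => hIJ v)
  have p2 := even_quat h2 (hUi w) (hUj w) (fun v _ => hII v) (fun v _ => hJJ v) (fun v _ => hIJ v)
  have hrel := hw.rel
  have tri : ∀ a : K, finrank K ↥((ρ c).eigenspace a ⊓ (ρ t).eigenspace 1) ≤
      finrank K ↥((ρ c).eigenspace a ⊓ (ρ t).eigenspace w) + finrank K ↥((ρ c).eigenspace a ⊓ (ρ t).eigenspace (w * w)) := by
    intro a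
    refine triangle h2 (a := 1) (b := w) (c := w * w) hw.sq_ne.symm (T := ρ t) (I := ρ i) (J := ρ j) (Q := ρ k) (hUt a)
      (hUi a) ?_ hTI hTJ one_ne_zero hII hQ
    intro v _
    have e4 : (1 : K) + w + w * w = 0 := by linear_combination hrel
    have e5 : (1 : K) * w + w * (w * w) + 1 * (w * w) = 0 := by linear_combination hrel + hw3
    have e6 : (1 : K) * w * (w * w) = 1 := by linear_combination hw3
    rw [e4, e5, e6, hT3, zero_smul, zero_smul, one_smul, sub_zero, add_zero, sub_self]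
  have t1 := tri 1
  have t2 := tri w
  obtain ⟨x1, hx1⟩ := p1
  obtain ⟨x2, hx2⟩ := p2
  have hfin : finrank K ((ρ c).eigenspace 1) = 0 := by omega
  have hbot : (ρ c).eigenspace 1 = ⊥ := Submodule.finrank_eq_zero.1 hfin
  apply LinearMap.ext
  intro v
  have e7 : ρ c (ρ c v) + ρ c v + v ∈ (ρ c).eigenspace 1 := by
    rw [Module.End.mem_eigenspace_iff, map_add, map_add, hC3, one_smul]
    abel
  rw [hbot, Submodule.mem_bot] at e7
  exact e7

end Cfsg.Agent.H871.A7
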