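import Cfsg.Agent.H871.DecompTwo

/-!
The stabiliser in `SL` of a decomposition into subspaces of dimension at least two is maximal.
-/

set_option autoImplicit false
set_option linter.unusedSectionVars false

namespace Cfsg.Agent.H871

open Matrix Cfsg.Agent.H873

variable {ι : Type} [Fintype ι] [DecidableEq ι] {F : Type*} [Field F]

section

variable {t m : ℕ} {D : Fin t → Submodule F (ι → F)} {E : Fin t → Matrix ι ι F}

theorem exists_val_one (hE : Proj D E) {j : Fin t} {ψ : ι → F} (h : ψ ᵥ* E j ≠ 0) :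
    ∃ c ∈ D j, ψ ⬝ᵥ c = 1 := by
  obtain ⟨y, hy, hψy⟩ : ∃ y ∈ D j, ψ ⬝ᵥ y ≠ 0 := by
    by_contra hc
    push Not at hc
    apply h
    apply dotProduct_eq_iff.1
    intro v
    rw [← dotProduct_mulVec, zero_dotProduct]
    exact hc _ (hE.mem j v)
  refine ⟨(ψ ⬝ᵥ y)⁻¹ • y, (D j).smul_mem _ hy, ?_⟩
  rw [dotProduct_smul, smul_eq_mul, inv_mul_cancel₀ hψy]

theorem hom_fix (c γ : ι → F) (h : γ ⬝ᵥ c = 1) (δ : Fˣ) {x : ι → F} (hx : γ ⬝ᵥ x = 0) :
    (hom c γ h δ : Matrix ι ι F) *ᵥ x = x := by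
  rw [hom_mulVec, hx, mul_zero, zero_smul, add_zero]

/-- Case 2 with a third member. -/
theorem top_of_third [Nontrivial ι] (hD : Cfsg.Geo.IsMDecomposition m D) (hm : 2 ≤ m)
    (hE : Proj D E) {M : Subgroup (GL ι F)}
    (hM : Cfsg.Geo.decompositionStabilizer D ⊓ Cfsg.Geo.specialLinear ι F ≤ M) {j k l : Fin t}
    (hjk : j ≠ k) (hlj : l ≠ j) (hlk : l ≠ k) (δ : Fˣ) (hδ : δ ≠ 1)
    {b ψ : ι → F} (h : Tt M b ψ) (hbk : E k *ᵥ b ≠ 0)
    (hψj : ψ ᵥ* E j ≠ 0) (h0 : ψ ⬝ᵥ (E j *ᵥ b) = 0) : Cfsg.Geo.specialLinear ι F ≤ M := by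
  obtain ⟨c, hc, hc1⟩ := exists_val_one hE hψj
  have hγc : (ψ ᵥ* E j) ⬝ᵥ c = 1 := by rw [← dotProduct_mulVec, hE.self j c hc, hc1]
  obtain ⟨c', hc', hc'b⟩ := exists_off_line hD hm l (E l *ᵥ b)
  obtain ⟨γ', hγ', hγ'b, hγ'c⟩ := hE.exists_dd l hc' hc'b (hE.mem l b)
  have hd := exists_diag hD hE hlj.symm hc (hE.dd_mk j ψ) hγc hc' hγ' hγ'c δ
  have h1 := h.conj (hM hd)
  have hb : ((hom c (ψ ᵥ* E j) hγc δ * hom c' γ' hγ'c δ⁻¹ : GL ι F) : Matrix ι ι F) *ᵥ b = b := by
    rw [Units.val_mul, ← mulVec_mulVec, hom_fix c' γ' hγ'c δ⁻¹ (by rw [hγ'.apply, hγ'b]),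
      hom_fix c _ hγc δ (by rw [← dotProduct_mulVec, h0])]
  have hψ : ψ ᵥ* ((((hom c (ψ ᵥ* E j) hγc δ * hom c' γ' hγ'c δ⁻¹)⁻¹ : GL ι F)) : Matrix ι ι F) =
      ψ + (((δ : F) - 1) * (ψ ⬝ᵥ c')) • γ' + (((δ⁻¹ : Fˣ) : F) - 1) • (ψ ᵥ* E j) := by
    rw [_root_.mul_inv_rev, Units.val_mul, ← vecMul_vecMul, vecMul_hom_inv, vecMul_hom_inv, inv_inv,
      add_dotProduct, hc1, smul_dotProduct, hE.dd_other hlj.symm hγ' hc, smul_zero, add_zero,
      mul_one]
  rw [hb, hψ] at h1
  have h2 := h1.sub_right h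
  refine top_of_case_one hD hm hE hM h2 hbk ?_ ?_
  · rw [sub_vecMul, add_vecMul, add_vecMul, smul_vecMul, smul_vecMul]
    have e1 : γ' ᵥ* E k = 0 := by
      conv_lhs => rw [← (show γ' ᵥ* E l = γ' from hγ')]
      rw [vecMul_vecMul, hE.mul_other hlk, vecMul_zero]
    have e2 : ψ ᵥ* E j ᵥ* E k = 0 := by
      rw [vecMul_vecMul, hE.mul_other hjk, vecMul_zero]
    rw [e1, e2, smul_zero, smul_zero, add_zero, add_zero, sub_self]
  · intro h3
    have h4 := congrArg (fun φ => φ ⬝ᵥ c) h3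
    simp only [sub_dotProduct, add_dotProduct, smul_dotProduct, zero_dotProduct] at h4
    rw [hE.dd_other hlj.symm hγ' hc, hγc, hc1, smul_zero, add_zero, smul_eq_mul, mul_one,
      add_sub_cancel_left, sub_eq_zero] at h4
    apply hδ
    rw [← inv_eq_one]
    exact Units.ext h4

/-- Case 2 with only two members available. -/
theorem top_of_pair [Nontrivial ι] (hD : Cfsg.Geo.IsMDecomposition m D) (hm : 2 ≤ m)
    (hE : Proj D E) {M : Subgroup (GL ι F)}
    (hM : Cfsg.Geo.decompositionStabilizer D ⊓ Cfsg.Geo.specialLinear ι F ≤ M) {j k : Fin t}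
    (hjk : j ≠ k) (δ : Fˣ) (hδ : δ * δ ≠ 1)
    {b ψ : ι → F} (h : Tt M b ψ) (hbk : E k *ᵥ b ≠ 0)
    (hψj : ψ ᵥ* E j ≠ 0) (hψk : ψ ᵥ* E k ≠ 0)
    (h0 : ψ ⬝ᵥ (E j *ᵥ b) = 0) (h0' : ψ ⬝ᵥ (E k *ᵥ b) = 0) :
    Cfsg.Geo.specialLinear ι F ≤ M := by
  obtain ⟨c, hc, hc1⟩ := exists_val_one hE hψj
  have hγc : (ψ ᵥ* E j) ⬝ᵥ c = 1 := by rw [← dotProduct_mulVec, hE.self j c hc, hc1]
  obtain ⟨c', hc', hc1'⟩ := exists_val_one hE hψk
  have hγc' : (ψ ᵥ* E k) ⬝ᵥ c' = 1 := by rw [← dotProduct_mulVec, hE.self k c' hc', hc1']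
  have hd := exists_diag hD hE hjk hc (hE.dd_mk j ψ) hγc hc' (hE.dd_mk k ψ) hγc' δ
  have h1 := h.conj (hM hd)
  have hb : ((hom c (ψ ᵥ* E j) hγc δ * hom c' (ψ ᵥ* E k) hγc' δ⁻¹ : GL ι F) : Matrix ι ι F) *ᵥ b
      = b := by
    rw [Units.val_mul, ← mulVec_mulVec, hom_fix c' _ hγc' δ⁻¹ (by rw [← dotProduct_mulVec, h0']),
      hom_fix c _ hγc δ (by rw [← dotProduct_mulVec, h0])]
  have hψ : ψ ᵥ* ((((hom c (ψ ᵥ* E j) hγc δ * hom c' (ψ ᵥ* E k) hγc' δ⁻¹)⁻¹ : GL ι F)) :
      Matrix ι ι F) =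
      ψ + ((δ : F) - 1) • (ψ ᵥ* E k) + (((δ⁻¹ : Fˣ) : F) - 1) • (ψ ᵥ* E j) := by
    rw [_root_.mul_inv_rev, Units.val_mul, ← vecMul_vecMul, vecMul_hom_inv, vecMul_hom_inv, inv_inv,
      add_dotProduct, hc1, smul_dotProduct, hE.dd_other hjk (hE.dd_mk k ψ) hc, smul_zero, add_zero,
      mul_one, hc1', mul_one]
  rw [hb, hψ] at h1
  have h2 := h1.sub_right (h.smul_right (δ : F))
  refine top_of_case_one hD hm hE hM h2 hbk ?_ ?_
  · rw [sub_vecMul, add_vecMul, add_vecMul, smul_vecMul, smul_vecMul, smul_vecMul]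
    have e1 : ψ ᵥ* E k ᵥ* E k = ψ ᵥ* E k := by
      rw [vecMul_vecMul, hE.mul_self]
    have e2 : ψ ᵥ* E j ᵥ* E k = 0 := by
      rw [vecMul_vecMul, hE.mul_other hjk, vecMul_zero]
    rw [e1, e2, smul_zero, add_zero, sub_smul, one_smul, add_sub_cancel, sub_self]
  · intro h3
    have h4 := congrArg (fun φ => φ ⬝ᵥ c) h3
    simp only [sub_dotProduct, add_dotProduct, smul_dotProduct, zero_dotProduct] at h4
    rw [hE.dd_other hjk (hE.dd_mk k ψ) hc, hγc, hc1, smul_zero, add_zero, smul_eq_mul, mul_one,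
      smul_eq_mul, mul_one, add_sub_cancel, sub_eq_zero] at h4
    apply hδ
    have h5 : δ⁻¹ = δ := Units.ext h4
    rw [mul_eq_one_iff_eq_inv, h5]

/-- A root group whose centre has two non-zero components. -/
theorem top_of_two [Nontrivial ι] (hD : Cfsg.Geo.IsMDecomposition m D) (hm : 2 ≤ m)
    (hc : 3 ≤ m ∨ (∃ δ : Fˣ, δ * δ ≠ 1) ∨ (3 ≤ t ∧ ∃ δ : Fˣ, δ ≠ 1))
    (hE : Proj D E) {M : Subgroup (GL ι F)}
    (hM : Cfsg.Geo.decompositionStabilizer D ⊓ Cfsg.Geo.specialLinear ι F ≤ M) {j k : Fin t}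
    (hjk : j ≠ k) {b ψ : ι → F} (h : Tt M b ψ) (hbj : E j *ᵥ b ≠ 0) (hbk : E k *ᵥ b ≠ 0)
    (hψ0 : ψ ≠ 0) : Cfsg.Geo.specialLinear ι F ≤ M := by
  by_cases hψj : ψ ᵥ* E j = 0
  · exact top_of_case_one hD hm hE hM h hbj hψj hψ0
  by_cases hψk : ψ ᵥ* E k = 0
  · exact top_of_case_one hD hm hE hM h hbk hψk hψ0
  -- a vector of `D j ∩ ker ψ` off the line of `b_j`
  have hmain : ∀ {j k : Fin t}, j ≠ k → E j *ᵥ b ≠ 0 → ψ ᵥ* E k ≠ 0 →
      (∃ a ∈ D j, a ≠ 0 ∧ ψ ⬝ᵥ a = 0 ∧ E j *ᵥ b ∉ Submodule.span F {a}) →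
      Cfsg.Geo.specialLinear ι F ≤ M := by
    rintro j k hjk hbj hψk ⟨a, ha, ha0, hψa, hab⟩
    exact top_of_ker hD hm hE hM hjk h hbj ha hab hψa ha0 hψk
  -- the kernel of `ψ` in `D j`
  have hker : ∀ j : Fin t, m ≤ Module.finrank F
      (D j ⊓ LinearMap.ker (dotProductEquiv F ι ψ) : Submodule F (ι → F)) + 1 := by
    intro j
    have h1 := Submodule.finrank_sup_add_finrank_inf_eq (D j) (LinearMap.ker (dotProductEquiv F ι ψ))
    have h2 : Module.finrank F (LinearMap.ker (dotProductEquiv F ι ψ)) + 1 ≥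
        Module.finrank F (ι → F) := by
      have h3 := LinearMap.finrank_range_add_finrank_ker (dotProductEquiv F ι ψ)
      have h4 : Module.finrank F (LinearMap.range (dotProductEquiv F ι ψ)) ≤ 1 := by
        have := Submodule.finrank_le (LinearMap.range (dotProductEquiv F ι ψ))
        rwa [Module.finrank_self] at this
      omega
    have h5 := Submodule.finrank_le (D j ⊔ LinearMap.ker (dotProductEquiv F ι ψ))
    rw [hD.finrank_eq] at h1
    omega
  have hmem : ∀ {j : Fin t} {a : ι → F}, a ∈ (D j ⊓ LinearMap.ker (dotProductEquiv F ι ψ) :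
      Submodule F (ι → F)) → a ∈ D j ∧ ψ ⬝ᵥ a = 0 := by
    intro j a ha
    exact ⟨ha.1, ha.2⟩
  by_cases h0 : ψ ⬝ᵥ (E j *ᵥ b) = 0
  · by_cases h0' : ψ ⬝ᵥ (E k *ᵥ b) = 0
    · rcases hc with hc | ⟨δ, hδ⟩ | ⟨ht, δ, hδ⟩
      · -- large members
        apply hmain hjk hbj hψk
        obtain ⟨a, ha, hab⟩ : ∃ a ∈ (D j ⊓ LinearMap.ker (dotProductEquiv F ι ψ) :
            Submodule F (ι → F)), a ∉ Submodule.span F {E j *ᵥ b} := by
          by_contra hcon
          push Not at hcon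
          have h1 : (D j ⊓ LinearMap.ker (dotProductEquiv F ι ψ) : Submodule F (ι → F)) ≤
            Submodule.span F {E j *ᵥ b} := hcon
          have h2 := Submodule.finrank_mono h1
          rw [finrank_span_singleton hbj] at h2
          have h3 := hker j
          omega
        obtain ⟨ha1, ha2⟩ := hmem ha
        refine ⟨a, ha1, ?_, ha2, ?_⟩
        · rintro rfl
          exact hab (Submodule.zero_mem _)
        · intro hcon
          obtain ⟨c, hc⟩ := Submodule.mem_span_singleton.1 hcon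
          have hc0 : c ≠ 0 := by
            rintro rfl
            rw [zero_smul] at hc
            exact hbj hc.symm
          apply hab
          rw [Submodule.mem_span_singleton]
          exact ⟨c⁻¹, by rw [← hc, smul_smul, inv_mul_cancel₀ hc0, one_smul]⟩
      · exact top_of_pair hD hm hE hM hjk δ hδ h hbk hψj hψk h0 h0'
      · obtain ⟨l, hlj, hlk⟩ : ∃ l : Fin t, l ≠ j ∧ l ≠ k := by
          have h1 : ({j, k} : Finset (Fin t)).card < (Finset.univ : Finset (Fin t)).card := by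
            rw [Finset.card_pair hjk, Finset.card_univ, Fintype.card_fin]
            omega
          obtain ⟨l, -, hl⟩ := Finset.exists_mem_notMem_of_card_lt_card h1
          simp only [Finset.mem_insert, Finset.mem_singleton, not_or] at hl
          exact ⟨l, hl.1, hl.2⟩
        exact top_of_third hD hm hE hM hjk hlj hlk δ hδ h hbk hψj h0
    · -- use `k`
      apply hmain hjk.symm hbk hψj
      obtain ⟨a, ha, ha0⟩ : ∃ a ∈ (D k ⊓ LinearMap.ker (dotProductEquiv F ι ψ) :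
          Submodule F (ι → F)), a ≠ 0 := by
        apply Submodule.exists_mem_ne_zero_of_ne_bot
        intro hbot
        have h3 := hker k
        rw [hbot, finrank_bot] at h3
        omega
      obtain ⟨ha1, ha2⟩ := hmem ha
      refine ⟨a, ha1, ha0, ha2, ?_⟩
      intro hcon
      obtain ⟨c, hc⟩ := Submodule.mem_span_singleton.1 hcon
      apply h0'
      rw [← hc, dotProduct_smul, ha2, smul_zero]
  · apply hmain hjk hbj hψk
    obtain ⟨a, ha, ha0⟩ : ∃ a ∈ (D j ⊓ LinearMap.ker (dotProductEquiv F ι ψ) :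
        Submodule F (ι → F)), a ≠ 0 := by
      apply Submodule.exists_mem_ne_zero_of_ne_bot
      intro hbot
      have h3 := hker j
      rw [hbot, finrank_bot] at h3
      omega
    obtain ⟨ha1, ha2⟩ := hmem ha
    refine ⟨a, ha1, ha0, ha2, ?_⟩
    intro hcon
    obtain ⟨c, hc⟩ := Submodule.mem_span_singleton.1 hcon
    apply h0
    rw [← hc, dotProduct_smul, ha2, smul_zero]

/-- An element not stabilising the decomposition maps some member into no member. -/
theorem exists_not_into (hD : Cfsg.Geo.IsMDecomposition m D) (hE : Proj D E) (g : GL ι F)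
    (hg : g ∉ Cfsg.Geo.decompositionStabilizer D) :
    ∃ i, ∀ j, ∃ v ∈ D i, (g : Matrix ι ι F) *ᵥ v ∉ D j := by
  by_contra hcon
  push Not at hcon
  choose σ hσ using hcon
  have hinj : Function.Injective σ := by
    intro i i' h
    by_contra hne
    -- a vector of `D i` mapped into `D (σ i) = g (D i')`
    have hmap : ∀ i, (D i).map (Matrix.toLin' (g : Matrix ι ι F)) = D (σ i) := by
      intro i
      apply Submodule.eq_of_le_of_finrank_eq
      · rintro _ ⟨v, hv, rfl⟩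
        rw [Matrix.toLin'_apply]
        exact hσ i v hv
      · rw [hD.finrank_eq]
        have hinj : Function.Injective (Matrix.toLin' (g : Matrix ι ι F)) := by
          intro x y hxy
          rw [Matrix.toLin'_apply, Matrix.toLin'_apply] at hxy
          rw [← inv_mulVec_mulVec g x, hxy, inv_mulVec_mulVec]
        rw [← (Submodule.equivMapOfInjective _ hinj (D i)).finrank_eq, hD.finrank_eq]
    have hDi : D i ≠ ⊥ := by
      intro h0
      have := hD.finrank_eq i
      rw [h0, finrank_bot] at this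
      have := hD.pos
      omega
    obtain ⟨v, hv, hv0⟩ := Submodule.exists_mem_ne_zero_of_ne_bot hDi
    have h1 := hσ i v hv
    rw [h, ← hmap i'] at h1
    obtain ⟨u, hu, huv⟩ := h1
    rw [Matrix.toLin'_apply] at huv
    have h2 : u = v := by rw [← inv_mulVec_mulVec g u, huv, inv_mulVec_mulVec]
    rw [h2] at hu
    apply hv0
    rw [← hE.self i v hv]
    exact hE.other i' i v (Ne.symm hne) hu
  exact hg (mem_decomp_of hD g (Equiv.ofBijective σ (Finite.injective_iff_bijective.1 hinj)) hσ)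

/-- The stabiliser in `SL` of a decomposition into members of dimension at least two. -/
theorem decomp_maximal_two (hD : Cfsg.Geo.IsMDecomposition m D) (hm : 2 ≤ m)
    (hc : 3 ≤ m ∨ (∃ δ : Fˣ, δ * δ ≠ 1) ∨ (3 ≤ t ∧ ∃ δ : Fˣ, δ ≠ 1)) :
    Cfsg.Geo.IsMaximalIn (Cfsg.Geo.specialLinear ι F)
      (Cfsg.Geo.decompositionStabilizer D ⊓ Cfsg.Geo.specialLinear ι F) := by
  obtain ⟨E, hE⟩ := exists_proj hD
  have hbot : ∀ i, D i ≠ ⊥ := by
    intro i h0
    have := hD.finrank_eq i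
    rw [h0, finrank_bot] at this
    omega
  have : Nontrivial ι := by
    by_contra hn
    rw [not_nontrivial_iff_subsingleton] at hn
    have h1 := hD.two_le
    have h2 := hD.finrank_eq ⟨0, by omega⟩
    have h3 := Submodule.finrank_le (D ⟨0, by omega⟩)
    rw [Module.finrank_fintype_fun_eq_card] at h3
    have h4 := Fintype.card_le_one_iff_subsingleton.2 hn
    omega
  have h01 : (⟨0, by have := hD.two_le; omega⟩ : Fin t) ≠ ⟨1, by have := hD.two_le; omega⟩ := by
    simp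
  set i0 : Fin t := ⟨0, by have := hD.two_le; omega⟩
  set i1 : Fin t := ⟨1, by have := hD.two_le; omega⟩
  refine ⟨lt_of_le_of_ne inf_le_right ?_, ?_⟩
  · intro hEq
    obtain ⟨a, ha, ha0⟩ := Submodule.exists_mem_ne_zero_of_ne_bot (hbot i0)
    obtain ⟨b, hb, hb0⟩ := Submodule.exists_mem_ne_zero_of_ne_bot (hbot i1)
    obtain ⟨φ, hφ, hφb⟩ := hE.exists_dd_one i1 hb hb0
    have h0 : φ ⬝ᵥ a = 0 := hE.dd_other h01 hφ ha
    have h1 := tv_mem_specialLinear a φ h0
    rw [← hEq] at h1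
    obtain ⟨⟨σ, hσ⟩, -⟩ := h1
    have h2 : b + a ∈ D (σ i1) := by
      rw [← hσ i1]
      refine ⟨b, hb, ?_⟩
      rw [Matrix.toLin'_apply, tv_mulVec, hφb, one_smul]
    have h3 := hE.self _ _ h2
    by_cases h4 : σ i1 = i0
    · rw [h4, mulVec_add, hE.other i1 i0 b h01.symm hb, hE.self i0 a ha, zero_add] at h3
      apply hb0
      have : b + a - a = 0 := by rw [← h3, sub_self]
      rwa [add_sub_cancel_right] at this
    · rw [mulVec_add, hE.other i0 _ a (Ne.symm h4) ha, add_zero] at h3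
      by_cases h5 : σ i1 = i1
      · rw [h5, hE.self i1 b hb] at h3
        apply ha0
        have : b + a - b = 0 := by rw [← h3, sub_self]
        rwa [add_sub_cancel_left] at this
      · rw [hE.other i1 _ b (Ne.symm h5) hb] at h3
        apply hb0
        have h6 : E i1 *ᵥ (b + a) = 0 := by rw [← h3, mulVec_zero]
        rwa [mulVec_add, hE.self i1 b hb, hE.other i0 i1 a h01 ha, add_zero] at h6
  · intro M hM hMS
    by_cases hle : M ≤ Cfsg.Geo.decompositionStabilizer D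
    · left
      exact le_antisymm (le_inf hle hMS) hM
    · right
      refine le_antisymm hMS ?_
      obtain ⟨g, hgM, hgn⟩ := SetLike.not_le_iff_exists.1 hle
      obtain ⟨i, hi⟩ := exists_not_into hD hE g hgn
      -- a vector of `D i` whose image has two non-zero components
      obtain ⟨a, ha, j, k, hjk, hj, hk⟩ : ∃ a ∈ D i, ∃ j k, j ≠ k ∧
          E j *ᵥ ((g : Matrix ι ι F) *ᵥ a) ≠ 0 ∧ E k *ᵥ ((g : Matrix ι ι F) *ᵥ a) ≠ 0 := by
        by_contra hcon
        push Not at hcon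
        have hone : ∀ a ∈ D i, ∀ j, E j *ᵥ ((g : Matrix ι ι F) *ᵥ a) ≠ 0 →
            (g : Matrix ι ι F) *ᵥ a ∈ D j := by
          intro a ha j hj
          have h1 := hE.sum ((g : Matrix ι ι F) *ᵥ a)
          rw [Finset.sum_eq_single j (fun k _ hk => hcon a ha j k (Ne.symm hk) hj)
            (fun h => absurd (Finset.mem_univ _) h)] at h1
          rw [← h1]
          exact hE.mem j _
        obtain ⟨a, ha, ha0⟩ := Submodule.exists_mem_ne_zero_of_ne_bot (hbot i)
        have hga : (g : Matrix ι ι F) *ᵥ a ≠ 0 := by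
          intro h0
          apply ha0
          rw [← inv_mulVec_mulVec g a, h0, mulVec_zero]
        obtain ⟨j, hj⟩ : ∃ j, E j *ᵥ ((g : Matrix ι ι F) *ᵥ a) ≠ 0 := by
          by_contra hc
          push Not at hc
          apply hga
          rw [← hE.sum ((g : Matrix ι ι F) *ᵥ a)]
          exact Finset.sum_eq_zero fun i _ => hc i
        obtain ⟨a', ha', hj'⟩ := hi j
        have hga' : (g : Matrix ι ι F) *ᵥ a' ≠ 0 := by
          intro h0
          apply hj'
          rw [h0]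
          exact (D j).zero_mem
        obtain ⟨k, hk⟩ : ∃ k, E k *ᵥ ((g : Matrix ι ι F) *ᵥ a') ≠ 0 := by
          by_contra hc
          push Not at hc
          apply hga'
          rw [← hE.sum ((g : Matrix ι ι F) *ᵥ a')]
          exact Finset.sum_eq_zero fun i _ => hc i
        have hk1 := hone a' ha' k hk
        have hjk : j ≠ k := by
          rintro rfl
          exact hj' hk1
        have hj1 := hone a ha j hj
        apply hk
        have h1 := hcon (a + a') ((D i).add_mem ha ha') j k hjk (by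
          rw [mulVec_add, mulVec_add, hE.other k j _ hjk.symm hk1, add_zero]
          exact hj)
        rw [mulVec_add, mulVec_add, hE.other j k _ hjk hj1, zero_add] at h1
        exact h1
      have ha0 : a ≠ 0 := by
        rintro rfl
        rw [mulVec_zero, mulVec_zero] at hj
        exact hj rfl
      obtain ⟨z, hz, hza⟩ := exists_off_line hD hm i a
      obtain ⟨φ, hφ, hφa, hφz⟩ := hE.exists_dd i hz hza ha
      have h1 := ((tt_decomp hD hE ha hφ hφa).mono hM).conj hgM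
      refine top_of_two hD hm hc hE hM hjk h1 hj hk ?_
      intro h0
      have h2 : φ = 0 := by
        have := congrArg (fun ψ => ψ ᵥ* (g : Matrix ι ι F)) h0
        simp only [vecMul_vecMul, zero_vecMul] at this
        rwa [← Units.val_mul, inv_mul_cancel, Units.val_one, vecMul_one] at this
      rw [h2, zero_dotProduct] at hφz
      exact zero_ne_one hφz

end

end Cfsg.Agent.H871
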