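import Cfsg.Agent.H871.MonoSL
import Cfsg.Agent.H871.DecompMax

/-!
Decompositions into lines: the stabiliser is conjugate to the monomial group.
-/

set_option autoImplicit false
set_option linter.unusedSectionVars false

namespace Cfsg.Agent.H871

open Matrix Cfsg.Agent.H873

variable {ι : Type} [Fintype ι] [DecidableEq ι] {F : Type*} [Field F]

/-- A frame: a matrix carrying the coordinate lines to the members of the decomposition. -/
theorem exists_frame {t : ℕ} {D : Fin t → Submodule F (ι → F)}
    (hD : Cfsg.Geo.IsMDecomposition 1 D) :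
    ∃ (P : GL ι F) (e : ι ≃ Fin t), ∀ k, D (e k) = Submodule.span F {(P : Matrix ι ι F) *ᵥ
      Pi.single k 1} := by
  classical
  have h1 : ∀ i, ∃ v : ι → F, v ∈ D i ∧ v ≠ 0 ∧ D i = Submodule.span F {v} := by
    intro i
    have h := hD.finrank_eq i
    obtain ⟨⟨v, hv⟩, hv0, hspan⟩ := finrank_eq_one_iff'.1 h
    refine ⟨v, hv, fun h0 => hv0 (Subtype.ext h0), le_antisymm ?_ ?_⟩
    · intro w hw
      obtain ⟨c, hc⟩ := hspan ⟨w, hw⟩
      have := congrArg Subtype.val hc
      exact Submodule.mem_span_singleton.2 ⟨c, this⟩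
    · rw [Submodule.span_singleton_le_iff_mem]
      exact hv
  choose v hv hv0 hspan using h1
  have hli : LinearIndependent F v := hD.indep.linearIndependent _ hv hv0
  have htop : ⊤ ≤ Submodule.span F (Set.range v) := by
    rw [← hD.iSup_eq_top]
    refine iSup_le fun i => ?_
    rw [hspan i]
    exact Submodule.span_mono (by rintro _ rfl; exact ⟨i, rfl⟩)
  have hcard : Fintype.card ι = Fintype.card (Fin t) := by
    have h2 := Module.finrank_eq_card_basis (Module.Basis.mk hli htop)
    rwa [Module.finrank_pi] at h2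
  let e : ι ≃ Fin t := Fintype.equivOfCardEq hcard
  let A : Matrix ι ι F := Matrix.of fun i k => v (e k) i
  have hA : IsUnit A := by
    rw [← Matrix.linearIndependent_cols_iff_isUnit]
    exact hli.comp e e.injective
  obtain ⟨P, hP⟩ := hA
  refine ⟨P, e, fun k => ?_⟩
  rw [hspan (e k)]
  congr 2
  funext i
  rw [entry_eq, hP]
  rfl

theorem mem_decomp_iff_isMon {t : ℕ} {D : Fin t → Submodule F (ι → F)}
    (hD : Cfsg.Geo.IsMDecomposition 1 D) {P : GL ι F} {e : ι ≃ Fin t}
    (hP : ∀ k, D (e k) = Submodule.span F {(P : Matrix ι ι F) *ᵥ Pi.single k 1}) (g : GL ι F) :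
    g ∈ Cfsg.Geo.decompositionStabilizer D ↔ IsMon (P⁻¹ * g * P) := by
  constructor
  · rintro ⟨σ, hσ⟩ k
    refine ⟨e.symm (σ (e k)), fun l hl => ?_⟩
    have h1 : (g : Matrix ι ι F) *ᵥ ((P : Matrix ι ι F) *ᵥ Pi.single k 1) ∈ D (σ (e k)) := by
      rw [← hσ (e k), ← Matrix.toLin'_apply]
      apply Submodule.mem_map_of_mem
      rw [hP k]
      exact Submodule.mem_span_singleton_self _
    have h2 := hP (e.symm (σ (e k)))
    rw [Equiv.apply_symm_apply] at h2
    rw [h2] at h1
    obtain ⟨c, hc⟩ := Submodule.mem_span_singleton.1 h1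
    rw [← entry_eq ((P⁻¹ * g * P : GL ι F) : Matrix ι ι F) l k, Units.val_mul, Units.val_mul,
      ← mulVec_mulVec, ← mulVec_mulVec, ← hc, mulVec_smul, inv_mulVec_mulVec, Pi.smul_apply,
      Pi.single_apply, if_neg hl, smul_zero]
  · intro h
    obtain ⟨τ, d, hτ⟩ := (isMon_iff _).1 h
    have hg : g = P * mn τ d * P⁻¹ := by
      rw [← hτ]
      group
    refine mem_decomp_of hD g ((e.symm.trans τ⁻¹).trans e) fun i w hw => ?_
    obtain ⟨k, rfl⟩ := e.surjective i
    rw [hP k] at hw
    obtain ⟨c, rfl⟩ := Submodule.mem_span_singleton.1 hw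
    have h3 : (mn τ d : Matrix ι ι F) *ᵥ Pi.single k 1 = ((d (τ⁻¹ k) : Fˣ) : F) •
        Pi.single (τ⁻¹ k) 1 := by
      rw [mn_mulVec]
      funext l
      rw [Pi.smul_apply, smul_eq_mul]
      by_cases hl : l = τ⁻¹ k
      · rw [hl]
        simp
      · have : τ l ≠ k := by
          intro h4
          apply hl
          rw [← h4]
          simp
        rw [Pi.single_apply, Pi.single_apply, if_neg this, if_neg hl, mul_zero, mul_zero]
    have h4 : (g : Matrix ι ι F) *ᵥ (c • (P : Matrix ι ι F) *ᵥ Pi.single k 1) =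
        (c * ((d (τ⁻¹ k) : Fˣ) : F)) • ((P : Matrix ι ι F) *ᵥ Pi.single (τ⁻¹ k) 1) := by
      rw [mulVec_smul, hg, Units.val_mul, Units.val_mul, ← mulVec_mulVec, ← mulVec_mulVec,
        inv_mulVec_mulVec, h3, mulVec_smul, smul_smul]
    rw [h4, Equiv.trans_apply, Equiv.trans_apply, Equiv.symm_apply_apply, hP (τ⁻¹ k)]
    exact Submodule.smul_mem _ _ (Submodule.mem_span_singleton_self _)

theorem conj_mem_specialLinear (P g : GL ι F) :
    P * g * P⁻¹ ∈ Cfsg.Geo.specialLinear ι F ↔ g ∈ Cfsg.Geo.specialLinear ι F := by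
  rw [mem_specialLinear_iff, mem_specialLinear_iff]
  have h1 : Matrix.det ((P * g * P⁻¹ : GL ι F) : Matrix ι ι F) = Matrix.det (g : Matrix ι ι F) := by
    rw [Units.val_mul, Units.val_mul, Matrix.det_mul, Matrix.det_mul]
    have h2 : Matrix.det (P : Matrix ι ι F) * Matrix.det ((P⁻¹ : GL ι F) : Matrix ι ι F) = 1 := by
      rw [← Matrix.det_mul, ← Units.val_mul, mul_inv_cancel, Units.val_one, Matrix.det_one]
    linear_combination (Matrix.det (g : Matrix ι ι F)) * h2
  rw [h1]

/-- **The stabiliser of a decomposition into lines is maximal in `SL`**, if the overgroups of the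
monomial group are as expected. -/
theorem decomp_maximal_one {t : ℕ} {D : Fin t → Submodule F (ι → F)}
    (hD : Cfsg.Geo.IsMDecomposition 1 D) [Nontrivial ι]
    (hmono : ∀ M : Subgroup (GL ι F), HasMon M → M ≤ Cfsg.Geo.specialLinear ι F →
      (∀ g ∈ M, IsMon g) ∨ Cfsg.Geo.specialLinear ι F ≤ M) :
    Cfsg.Geo.IsMaximalIn (Cfsg.Geo.specialLinear ι F)
      (Cfsg.Geo.decompositionStabilizer D ⊓ Cfsg.Geo.specialLinear ι F) := by
  obtain ⟨P, e, hP⟩ := exists_frame hD
  have hiff := mem_decomp_iff_isMon hD hP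
  refine ⟨lt_of_le_of_ne inf_le_right ?_, ?_⟩
  · intro heq
    obtain ⟨a, b, hab⟩ := exists_pair_ne ι
    have h0 : (Pi.single b (1 : F) : ι → F) ⬝ᵥ Pi.single a 1 = 0 := by simp [hab]
    have h1 : P * tv (Pi.single a 1) (Pi.single b 1) h0 * P⁻¹ ∈ Cfsg.Geo.specialLinear ι F :=
      (conj_mem_specialLinear P _).2 (tv_mem_specialLinear _ _ h0)
    rw [← heq] at h1
    have h2 := (hiff _).1 h1.1
    have h3 : P⁻¹ * (P * tv (Pi.single a 1) (Pi.single b 1) h0 * P⁻¹) * P =
        tv (Pi.single a 1) (Pi.single b 1) h0 := by group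
    rw [h3] at h2
    obtain ⟨i, hi⟩ := h2 b
    have h4 : ∀ k, ((tv (Pi.single a 1) (Pi.single b 1) h0 : GL ι F) : Matrix ι ι F) k b =
        (Pi.single b (1 : F) : ι → F) k + (Pi.single a (1 : F) : ι → F) k := by
      intro k
      rw [← entry_eq ((tv (Pi.single a 1) (Pi.single b 1) h0 : GL ι F) : Matrix ι ι F) k b,
        tv_mulVec]
      simp
    by_cases hia : a = i
    · have := hi b (by rw [← hia]; exact hab.symm)
      rw [h4] at this
      simp [hab.symm] at this
    · have := hi a hia
      rw [h4] at this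
      simp [hab] at this
  · intro M hHM hMS
    set M' : Subgroup (GL ι F) := M.comap (MulAut.conj P).toMonoidHom with hM'
    have hmem : ∀ x, x ∈ M' ↔ P * x * P⁻¹ ∈ M := fun x => Iff.rfl
    have hmon : HasMon M' := by
      intro σ d hd
      rw [hmem]
      apply hHM
      refine ⟨(hiff _).2 ?_, (conj_mem_specialLinear P _).2 ?_⟩
      · have h3 : P⁻¹ * (P * mn σ d * P⁻¹) * P = mn σ d := by group
        rw [h3]
        exact isMon_mn σ d
      · apply mn_mem_specialLinear
        have := congrArg Units.val hd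
        rw [Units.val_mul, coe_sgn, Units.val_one, Units.coe_prod] at this
        exact this
    have hM'S : M' ≤ Cfsg.Geo.specialLinear ι F := by
      intro x hx
      exact (conj_mem_specialLinear P x).1 (hMS ((hmem x).1 hx))
    rcases hmono M' hmon hM'S with h | h
    · left
      apply le_antisymm _ hHM
      intro g hg
      refine ⟨(hiff g).2 (h _ ?_), hMS hg⟩
      rw [hmem]
      have : P * (P⁻¹ * g * P) * P⁻¹ = g := by group
      rwa [this]
    · right
      apply le_antisymm hMS
      intro g hg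
      have h1 : P⁻¹ * g * P ∈ Cfsg.Geo.specialLinear ι F := by
        rw [← conj_mem_specialLinear P]
        have : P * (P⁻¹ * g * P) * P⁻¹ = g := by group
        rwa [this]
      have h2 := (hmem _).1 (h h1)
      have : P * (P⁻¹ * g * P) * P⁻¹ = g := by group
      rwa [this] at h2

/-- The number of members of a decomposition. -/
theorem card_decomp {t m : ℕ} {D : Fin t → Submodule F (ι → F)}
    (hD : Cfsg.Geo.IsMDecomposition m D) : Fintype.card ι ≤ t * m := by
  obtain ⟨E, hE⟩ := exists_proj hD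
  let T : (ι → F) →ₗ[F] (∀ i, D i) :=
    LinearMap.pi fun i => (Matrix.toLin' (E i)).codRestrict (D i) fun v => by
      rw [Matrix.toLin'_apply]
      exact hE.mem i v
  have hT : Function.Injective T := by
    rw [← LinearMap.ker_eq_bot, LinearMap.ker_eq_bot']
    intro v hv
    rw [← hE.sum v]
    refine Finset.sum_eq_zero fun i _ => ?_
    have h1 := congrArg Subtype.val (congrFun hv i)
    exact h1
  have h1 := LinearMap.finrank_le_finrank_of_injective hT
  rw [Module.finrank_pi, Module.finrank_pi_fintype, Finset.sum_congr rfl fun i _ => hD.finrank_eq i,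
    Finset.sum_const, Finset.card_univ, Fintype.card_fin, smul_eq_mul] at h1
  exact h1

end Cfsg.Agent.H871
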