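import Cfsg.Agent.H871.DecompTwo

/-!
Monomial matrices: `mn σ d` (`v ↦ fun i => d i * v (σ i)`), the predicate `IsMon`, root elements.
-/

set_option autoImplicit false
set_option linter.unusedSectionVars false

namespace Cfsg.Agent.H871

open Matrix Cfsg.Agent.H873

variable {ι : Type} [Fintype ι] [DecidableEq ι] {F : Type*} [Field F]

/-- The matrix of `v ↦ fun i => d i * v (σ i)`. -/
def mnMat (σ : Equiv.Perm ι) (d : ι → Fˣ) : Matrix ι ι F :=
  Matrix.diagonal (fun i => (d i : F)) * σ.permMatrix F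

theorem mnMat_mulVec (σ : Equiv.Perm ι) (d : ι → Fˣ) (v : ι → F) :
    mnMat σ d *ᵥ v = fun i => (d i : F) * v (σ i) := by
  funext i
  rw [mnMat, ← mulVec_mulVec, permMatrix_mulVec, mulVec_diagonal]
  rfl

theorem mnMat_apply (σ : Equiv.Perm ι) (d : ι → Fˣ) (i j : ι) :
    (mnMat σ d : Matrix ι ι F) i j = if σ i = j then (d i : F) else 0 := by
  have h := congrFun (mnMat_mulVec (F := F) σ d (Pi.single j 1)) i
  rw [mulVec_single_one] at h
  rw [Matrix.col_apply] at h
  rw [h, Pi.single_apply]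
  simp

/-- The monomial element. -/
def mn (σ : Equiv.Perm ι) (d : ι → Fˣ) : GL ι F where
  val := mnMat σ d
  inv := mnMat σ⁻¹ (fun i => (d (σ⁻¹ i))⁻¹)
  val_inv := by
    apply Matrix.mulVec_injective
    funext v
    rw [← mulVec_mulVec, mnMat_mulVec, mnMat_mulVec, one_mulVec]
    funext i
    simp
  inv_val := by
    apply Matrix.mulVec_injective
    funext v
    rw [← mulVec_mulVec, mnMat_mulVec, mnMat_mulVec, one_mulVec]
    funext i
    simp

theorem mn_mulVec (σ : Equiv.Perm ι) (d : ι → Fˣ) (v : ι → F) :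
    (mn σ d : Matrix ι ι F) *ᵥ v = fun i => (d i : F) * v (σ i) := mnMat_mulVec σ d v

theorem mn_apply (σ : Equiv.Perm ι) (d : ι → Fˣ) (i j : ι) :
    (mn σ d : Matrix ι ι F) i j = if σ i = j then (d i : F) else 0 := mnMat_apply σ d i j

theorem mn_inv (σ : Equiv.Perm ι) (d : ι → Fˣ) :
    ((mn σ d)⁻¹ : GL ι F) = mn σ⁻¹ (fun i => (d (σ⁻¹ i))⁻¹) := by
  apply Units.ext
  rfl

theorem mn_mul (σ τ : Equiv.Perm ι) (d e : ι → Fˣ) :
    (mn σ d * mn τ e : GL ι F) = mn (τ * σ) (fun i => d i * e (σ i)) := by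
  apply gl_ext
  intro v
  rw [Units.val_mul, ← mulVec_mulVec, mn_mulVec, mn_mulVec, mn_mulVec]
  funext i
  simp [mul_assoc]

theorem vecMul_mn_inv (σ : Equiv.Perm ι) (d : ι → Fˣ) (φ : ι → F) :
    φ ᵥ* (((mn σ d)⁻¹ : GL ι F) : Matrix ι ι F) = fun i => ((d i)⁻¹ : Fˣ) * φ (σ i) := by
  apply dotProduct_eq_iff.1
  intro v
  rw [← dotProduct_mulVec, mn_inv, mn_mulVec]
  unfold dotProduct
  rw [← Equiv.sum_comp σ]
  refine Finset.sum_congr rfl fun i _ => ?_
  simp
  ring

theorem det_mn (σ : Equiv.Perm ι) (d : ι → Fˣ) :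
    Matrix.det (mn σ d : Matrix ι ι F) = (((Equiv.Perm.sign σ : ℤˣ) : ℤ) : F) * ∏ i, (d i : F) := by
  change Matrix.det (mnMat σ d : Matrix ι ι F) = _
  rw [mnMat, Matrix.det_mul, det_diagonal, det_permutation, mul_comm]

theorem mn_mem_specialLinear (σ : Equiv.Perm ι) (d : ι → Fˣ)
    (h : (((Equiv.Perm.sign σ : ℤˣ) : ℤ) : F) * ∏ i, (d i : F) = 1) :
    mn σ d ∈ Cfsg.Geo.specialLinear ι F := by
  rw [mem_specialLinear_iff, det_mn, h]

/-- Every column is a multiple of a basis vector. -/
def IsMon (g : GL ι F) : Prop := ∀ j, ∃ i, ∀ k, k ≠ i → (g : Matrix ι ι F) k j = 0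

theorem isMon_mn (σ : Equiv.Perm ι) (d : ι → Fˣ) : IsMon (mn σ d : GL ι F) := by
  intro j
  refine ⟨σ⁻¹ j, fun k hk => ?_⟩
  rw [mn_apply, if_neg]
  rintro rfl
  exact hk (by simp)

theorem col_eq (g : GL ι F) (j : ι) : (g : Matrix ι ι F) *ᵥ Pi.single j 1 = fun k => (g : Matrix ι ι F) k j := by
  rw [mulVec_single_one]
  rfl

theorem col_ne_zero (g : GL ι F) (j : ι) : ∃ i, (g : Matrix ι ι F) i j ≠ 0 := by
  by_contra h
  push Not at h
  have h1 : (g : Matrix ι ι F) *ᵥ Pi.single j 1 = 0 := by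
    rw [col_eq]
    funext k
    exact h k
  have h2 := inv_mulVec_mulVec g (Pi.single j 1)
  rw [h1, mulVec_zero] at h2
  have := congrFun h2 j
  simp at this

theorem isMon_iff (g : GL ι F) : IsMon g ↔ ∃ σ d, g = mn σ d := by
  constructor
  · intro h
    choose τ hτ using h
    have hne : ∀ j, (g : Matrix ι ι F) (τ j) j ≠ 0 := by
      intro j hj
      obtain ⟨i, hi⟩ := col_ne_zero g j
      by_cases h1 : i = τ j
      · rw [h1] at hi
        exact hi hj
      · exact hi (hτ j i h1)
    have hinj : Function.Injective τ := by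
      intro j j' hjj
      by_contra hne'
      -- a vanishing combination of two columns
      set v : ι → F := (g : Matrix ι ι F) (τ j) j' • Pi.single j 1 -
        (g : Matrix ι ι F) (τ j) j • Pi.single j' 1 with hv
      have h1 : (g : Matrix ι ι F) *ᵥ v = 0 := by
        rw [hv, mulVec_sub, mulVec_smul, mulVec_smul, col_eq, col_eq]
        funext k
        by_cases hk : k = τ j
        · subst hk
          simp [mul_comm]
        · simp [hτ j k hk, hτ j' k (by rw [← hjj]; exact hk)]
      have h2 := inv_mulVec_mulVec g v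
      rw [h1, mulVec_zero] at h2
      have h3 := congrFun h2 j
      rw [hv] at h3
      simp [hne'] at h3
      rw [hjj] at h3
      exact hne j' h3.symm
    let e : Equiv.Perm ι := Equiv.ofBijective τ (Finite.injective_iff_bijective.1 hinj)
    have he : ∀ j, e j = τ j := fun j => rfl
    refine ⟨e.symm, fun i => Units.mk0 ((g : Matrix ι ι F) i (e.symm i)) ?_, ?_⟩
    · have := hne (e.symm i)
      rwa [← he, Equiv.apply_symm_apply] at this
    · apply Units.ext
      ext i j
      rw [mn_apply]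
      by_cases hij : e.symm i = j
      · rw [if_pos hij, Units.val_mk0, hij]
      · rw [if_neg hij]
        apply hτ j i
        rintro rfl
        apply hij
        rw [← he, Equiv.symm_apply_apply]
  · rintro ⟨σ, d, rfl⟩
    exact isMon_mn σ d

theorem IsMon.mul {g h : GL ι F} (hg : IsMon g) (hh : IsMon h) : IsMon (g * h) := by
  obtain ⟨σ, d, rfl⟩ := (isMon_iff g).1 hg
  obtain ⟨τ, e, rfl⟩ := (isMon_iff h).1 hh
  rw [mn_mul]
  exact isMon_mn _ _

theorem IsMon.inv {g : GL ι F} (hg : IsMon g) : IsMon g⁻¹ := by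
  obtain ⟨σ, d, rfl⟩ := (isMon_iff g).1 hg
  rw [mn_inv]
  exact isMon_mn _ _

theorem isMon_of_mul_left {g h : GL ι F} (hg : IsMon g) (hh : IsMon (g * h)) : IsMon h := by
  have := hg.inv.mul hh
  rwa [inv_mul_cancel_left] at this

theorem isMon_of_mul_right {g h : GL ι F} (hg : IsMon g) (hh : IsMon (h * g)) : IsMon h := by
  have := hh.mul hg.inv
  rwa [mul_inv_cancel_right] at this

/-- There is a permutation carrying a pair of distinct points to a pair of distinct points. -/
theorem exists_perm_pair {i j i' j' : ι} (hij : i ≠ j) (hij' : i' ≠ j') :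
    ∃ σ : Equiv.Perm ι, σ i = i' ∧ σ j = j' := by
  refine ⟨Equiv.swap (Equiv.swap i i' j) j' * Equiv.swap i i', ?_, ?_⟩
  · rw [Equiv.Perm.mul_apply, Equiv.swap_apply_left, Equiv.swap_apply_of_ne_of_ne]
    · intro h
      have h2 : Equiv.swap i i' i = Equiv.swap i i' j := by rw [Equiv.swap_apply_left]; exact h
      exact hij ((Equiv.swap i i').injective h2)
    · exact hij'
  · rw [Equiv.Perm.mul_apply, Equiv.swap_apply_left]

/-- A unit equal to the sign of a permutation. -/
theorem sign_mul_self (σ : Equiv.Perm ι) :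
    (((Equiv.Perm.sign σ : ℤˣ) : ℤ) : F) * (((Equiv.Perm.sign σ : ℤˣ) : ℤ) : F) = 1 := by
  rw [← Int.cast_mul, ← Units.val_mul, Int.units_mul_self, Units.val_one, Int.cast_one]

/-- The sign as a unit of the field. -/
def sgn (F : Type*) [Field F] (σ : Equiv.Perm ι) : Fˣ where
  val := (((Equiv.Perm.sign σ : ℤˣ) : ℤ) : F)
  inv := (((Equiv.Perm.sign σ : ℤˣ) : ℤ) : F)
  val_inv := sign_mul_self σ
  inv_val := sign_mul_self σ

theorem coe_sgn (σ : Equiv.Perm ι) : ((sgn F σ : Fˣ) : F) = (((Equiv.Perm.sign σ : ℤˣ) : ℤ) : F) :=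
  rfl

/-- The subgroup contains all the monomial matrices of determinant one. -/
def HasMon (M : Subgroup (GL ι F)) : Prop :=
  ∀ (σ : Equiv.Perm ι) (d : ι → Fˣ), sgn F σ * ∏ i, d i = 1 → mn σ d ∈ M

theorem hasTv_mn {M : Subgroup (GL ι F)} (hM : HasMon M) {a φ : ι → F} (h : HasTv M a φ)
    (σ : Equiv.Perm ι) (d : ι → Fˣ) (hd : sgn F σ * ∏ i, d i = 1) :
    HasTv M (fun i => (d i : F) * a (σ i)) (fun i => ((d i)⁻¹ : Fˣ) * φ (σ i)) := by
  have h1 := h.conj (hM σ d hd)
  rwa [mn_mulVec, vecMul_mn_inv] at h1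

theorem sgn_one : sgn F (1 : Equiv.Perm ι) = 1 := by
  apply Units.ext
  rw [coe_sgn]
  simp

theorem HasMon.diag {M : Subgroup (GL ι F)} (hM : HasMon M) (d : ι → Fˣ) (hd : ∏ i, d i = 1) :
    mn 1 d ∈ M := hM 1 d (by rw [sgn_one, one_mul, hd])

/-- product of a function with two special values -/
theorem prod_two {j l : ι} (hjl : j ≠ l) (x y : Fˣ) :
    ∏ i, (if i = j then x else if i = l then y else 1) = x * y := by
  rw [Finset.prod_eq_mul j l hjl]
  · rw [if_pos rfl, if_neg hjl.symm, if_pos rfl]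
  · intro c _ hc
    rw [if_neg hc.1, if_neg hc.2]
  · intro h; exact absurd (Finset.mem_univ _) h
  · intro h; exact absurd (Finset.mem_univ _) h

theorem exists_ne_three (h4 : 4 ≤ Fintype.card ι) (i j l : ι) : ∃ k, k ≠ i ∧ k ≠ j ∧ k ≠ l := by
  have h1 : ({i, j, l} : Finset ι).card < (Finset.univ : Finset ι).card := by
    rw [Finset.card_univ]
    have : ({i, j, l} : Finset ι).card ≤ 3 := Finset.card_le_three
    omega
  obtain ⟨k, -, hk⟩ := Finset.exists_mem_notMem_of_card_lt_card h1
  simp only [Finset.mem_insert, Finset.mem_singleton, not_or] at hk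
  exact ⟨k, hk.1, hk.2.1, hk.2.2⟩

theorem exists_ne_two (h4 : 3 ≤ Fintype.card ι) (i j : ι) : ∃ k, k ≠ i ∧ k ≠ j := by
  have h1 : ({i, j} : Finset ι).card < (Finset.univ : Finset ι).card := by
    rw [Finset.card_univ]
    have : ({i, j} : Finset ι).card ≤ 2 := Finset.card_le_two
    omega
  obtain ⟨k, -, hk⟩ := Finset.exists_mem_notMem_of_card_lt_card h1
  simp only [Finset.mem_insert, Finset.mem_singleton, not_or] at hk
  exact ⟨k, hk.1, hk.2⟩

/-- A root element in a group containing the monomial matrices of determinant one. -/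
theorem top_of_root [Nontrivial ι] {M : Subgroup (GL ι F)} (hM : HasMon M)
    (h3 : 3 ≤ Fintype.card ι) {i j : ι} (hij : i ≠ j) {c : F} (hc : c ≠ 0)
    (h : HasTv M (Pi.single i 1) (c • Pi.single j 1)) : Cfsg.Geo.specialLinear ι F ≤ M := by
  refine specialLinear_le_of_hasTv fun i' j' hij' s => ?_
  -- all multiples for `i, j`
  have hall : ∀ s : F, HasTv M (s • Pi.single i 1) (Pi.single j 1) := by
    intro s
    by_cases hs : s = 0
    · subst hs
      rw [zero_smul]
      exact hasTv_zero_left _ _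
    obtain ⟨l, hli, hlj⟩ := exists_ne_two h3 i j
    set x : Fˣ := Units.mk0 (s * c⁻¹) (mul_ne_zero hs (inv_ne_zero hc)) with hx
    have h1 := hasTv_mn hM h 1 (fun k => if k = i then x else if k = l then x⁻¹ else 1) (by
      rw [prod_two (Ne.symm hli), sgn_one, one_mul, mul_inv_cancel])
    have h2 : HasTv M ((s * c⁻¹) • Pi.single i 1) (c • Pi.single j 1) := by
      convert h1 using 1
      · funext k
        by_cases hk : k = i
        · subst hk
          simp [hx]
        · simp [hk]
      · funext k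
        by_cases hk : k = j
        · subst hk
          simp [hij.symm, hlj.symm]
        · simp [hk]
    rw [← hasTv_smul_comm, smul_smul] at h2
    have h3 : c * (s * c⁻¹) = s := by field_simp
    rwa [h3] at h2
  obtain ⟨σ, hσ1, hσ2⟩ := exists_perm_pair hij' hij
  obtain ⟨l, hli, hlj⟩ := exists_ne_two h3 i' j'
  have h1 := hasTv_mn hM (hall s) σ (fun k => if k = l then sgn F σ else 1) (by
    rw [Finset.prod_ite_eq' Finset.univ l, if_pos (Finset.mem_univ _)]
    apply Units.ext
    rw [Units.val_mul, coe_sgn, Units.val_one]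
    exact sign_mul_self σ)
  convert h1 using 1
  · funext k
    by_cases hk : k = i'
    · subst hk
      simp [hσ1, hli.symm]
    · have : σ k ≠ i := by
        rintro h
        apply hk
        apply σ.injective
        rw [h, hσ1]
      simp [hk, this]
  · funext k
    by_cases hk : k = j'
    · subst hk
      simp [hσ2, hlj.symm]
    · have : σ k ≠ j := by
        rintro h
        apply hk
        apply σ.injective
        rw [h, hσ2]
      simp [hk, this]

/-- A transvection centred at a basis vector. -/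
theorem top_of_centre [Nontrivial ι] {M : Subgroup (GL ι F)} (hM : HasMon M)
    (h4 : 4 ≤ Fintype.card ι) (hθ : ∃ θ : Fˣ, θ ≠ 1) {i : ι} {φ : ι → F} (hφ : φ ≠ 0)
    (h : HasTv M (Pi.single i 1) φ) : Cfsg.Geo.specialLinear ι F ≤ M := by
  obtain ⟨θ, hθ⟩ := hθ
  have hi : φ i = 0 := by
    have := h.1
    rwa [dotProduct_single, mul_one] at this
  obtain ⟨j, hj⟩ : ∃ j, φ j ≠ 0 := by
    by_contra hc
    push Not at hc
    exact hφ (funext hc)
  have hij : i ≠ j := by
    rintro rfl
    exact hj hi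
  -- changing the axis at two coordinates
  have hstep : ∀ χ : ι → F, HasTv M (Pi.single i 1) χ → ∀ l, l ≠ i → l ≠ j →
      HasTv M (Pi.single i 1) ((((θ⁻¹ : Fˣ) : F) - 1) • (χ j • Pi.single j 1) +
        ((θ : F) - 1) • (χ l • Pi.single l 1)) := by
    intro χ hχ l hli hlj
    have h1 := hasTv_mn hM hχ 1 (fun k => if k = j then θ else if k = l then θ⁻¹ else 1) (by
      rw [prod_two hlj.symm, sgn_one, one_mul, mul_inv_cancel])
    have e1 : (fun k => (((if k = j then θ else if k = l then θ⁻¹ else 1 : Fˣ)) : F) *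
        (Pi.single i (1 : F) : ι → F) ((1 : Equiv.Perm ι) k)) = Pi.single i 1 := by
      funext k
      by_cases hk : k = i
      · subst hk
        simp [hij, hli.symm]
      · simp [hk]
    rw [e1] at h1
    have h2 : HasTv M (Pi.single i 1) (-χ) := by
      have h3 := hχ.neg_left
      have h4 : -(Pi.single i (1 : F) : ι → F) = (-1 : F) • Pi.single i 1 := by rw [neg_one_smul]
      rw [h4, hasTv_smul_comm, neg_one_smul] at h3
      exact h3
    convert h1.add_right h2 using 1
    funext k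
    by_cases hk : k = j
    · subst hk
      simp [hlj]
      ring
    · by_cases hk' : k = l
      · subst hk'
        simp [hk]
        ring
      · simp [hk, hk']
  have hne1 : ((θ⁻¹ : Fˣ) : F) - 1 ≠ 0 := by
    intro h0
    apply hθ
    rw [sub_eq_zero] at h0
    rw [← inv_eq_one]
    exact Units.ext h0
  obtain ⟨l, hli, hlj, -⟩ := exists_ne_three h4 i j j
  obtain ⟨l', hl'i, hl'j, hl'l⟩ := exists_ne_three h4 i j l
  have h1 := hstep φ h l hli hlj
  have h2 := hstep _ h1 l' hl'i hl'j
  have e2 : (((θ⁻¹ : Fˣ) : F) - 1) • (φ j • (Pi.single j (1 : F) : ι → F)) +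
        ((θ : F) - 1) • (φ l • Pi.single l 1) = fun k => if k = j then (((θ⁻¹ : Fˣ) : F) - 1) * φ j
          else if k = l then ((θ : F) - 1) * φ l else 0 := by
    funext k
    by_cases hk : k = j
    · subst hk
      simp [hlj]
    · by_cases hk' : k = l
      · subst hk'
        simp [hk]
      · simp [hk, hk']
  rw [e2] at h2
  simp only [if_pos, if_neg hl'j, if_neg hl'l, zero_smul, smul_zero, add_zero] at h2
  rw [smul_smul] at h2
  exact top_of_root hM (by omega) hij (mul_ne_zero hne1 (mul_ne_zero hne1 hj)) h2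

end Cfsg.Agent.H871
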