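import Cfsg.Agent.H871.MonoBasic

/-!
Overgroups in `GL` of the full monomial group: if no transvection is centred at a basis vector then
all elements are monomial.
-/

set_option autoImplicit false
set_option linter.unusedSectionVars false

namespace Cfsg.Agent.H871

open Matrix Cfsg.Agent.H873

variable {ι : Type} [Fintype ι] [DecidableEq ι] {F : Type*} [Field F]

theorem mulVec_apply_eq (A : Matrix ι ι F) (v : ι → F) (i : ι) :
    (A *ᵥ v) i = (fun k => A i k) ⬝ᵥ v := rfl

theorem entry_eq (A : Matrix ι ι F) (i j : ι) : (A *ᵥ Pi.single j 1) i = A i j := by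
  rw [mulVec_single_one]
  rfl

/-- the homology `diag(1, .., θ, .., 1)` -/
def hm (i : ι) (θ : Fˣ) : GL ι F := mn 1 (fun k => if k = i then θ else 1)

theorem hm_mulVec (i : ι) (θ : Fˣ) (v : ι → F) :
    (hm i θ : Matrix ι ι F) *ᵥ v = v + (((θ : F) - 1) * v i) • Pi.single i 1 := by
  rw [hm, mn_mulVec]
  funext k
  by_cases hk : k = i
  · subst hk
    simp
    ring
  · simp [hk]

theorem hm_inv (i : ι) (θ : Fˣ) : ((hm i θ)⁻¹ : GL ι F) = hm i θ⁻¹ := by
  rw [hm, mn_inv, hm]
  congr 1
  funext k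
  by_cases hk : k = i
  · subst hk
    simp
  · simp [hk]

/-- Only zero transvections are centred at basis vectors. -/
def NoCentre (X : Subgroup (GL ι F)) : Prop :=
  ∀ (i : ι) (φ : ι → F), HasTv X (Pi.single i 1) φ → φ = 0

/-- The group contains all monomial matrices. -/
def HasAllMon (X : Subgroup (GL ι F)) : Prop := ∀ (σ : Equiv.Perm ι) (d : ι → Fˣ), mn σ d ∈ X

theorem row_of_fix {X : Subgroup (GL ι F)} (hX : HasAllMon X) (hP : NoCentre X)
    {θ : Fˣ} (hθ : θ ≠ 1) {g : GL ι F} (hg : g ∈ X) {i : ι} {c : F}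
    (hgi : (g : Matrix ι ι F) *ᵥ Pi.single i 1 = c • Pi.single i 1) :
    ∀ k, k ≠ i → (g : Matrix ι ι F) i k = 0 := by
  have hc : c ≠ 0 := by
    rintro rfl
    have h := inv_mulVec_mulVec g (Pi.single i 1)
    rw [hgi, zero_smul, mulVec_zero] at h
    have := congrFun h i
    simp at this
  have hgi' : ((g⁻¹ : GL ι F) : Matrix ι ι F) *ᵥ Pi.single i 1 = c⁻¹ • Pi.single i 1 := by
    have h := inv_mulVec_mulVec g (Pi.single i 1)
    rw [hgi, mulVec_smul] at h
    rw [← h, smul_smul, inv_mul_cancel₀ hc, one_smul, h]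
  set χ : ι → F := (1 - ((θ⁻¹ : Fˣ) : F)) • (c • (fun k => ((g⁻¹ : GL ι F) : Matrix ι ι F) i k) -
    Pi.single i 1) with hχ
  have hθθ : (θ : F) * ((θ⁻¹ : Fˣ) : F) = 1 := by
    rw [← Units.val_mul, mul_inv_cancel, Units.val_one]
  have htv : HasTv X (Pi.single i 1) χ := by
    refine ⟨?_, (hm i θ)⁻¹ * (g * hm i θ * g⁻¹), ?_, ?_⟩
    · rw [hχ, smul_dotProduct, sub_dotProduct, smul_dotProduct, ← mulVec_apply_eq, hgi']
      simp [hc]
    · exact X.mul_mem (X.inv_mem (hX _ _)) (X.mul_mem (X.mul_mem hg (hX _ _)) (X.inv_mem hg))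
    · apply Matrix.mulVec_injective
      funext v
      rw [one_add_mulVec, hm_inv, Units.val_mul, Units.val_mul, Units.val_mul, ← mulVec_mulVec,
        ← mulVec_mulVec, ← mulVec_mulVec, hm_mulVec, hm_mulVec, mulVec_add, mulVec_smul, hgi,
        mulVec_inv_mulVec, hχ, smul_dotProduct, sub_dotProduct, smul_dotProduct, ← mulVec_apply_eq,
        single_dotProduct, one_mul]
      funext k
      simp only [Pi.add_apply, Pi.smul_apply, Pi.single_apply, smul_eq_mul]
      by_cases hk : k = i
      · subst hk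
        simp only [if_true]
        linear_combination (c * (((g⁻¹ : GL ι F) : Matrix ι ι F) *ᵥ v) k) * hθθ
      · simp [hk]
  have h0 := hP i χ htv
  have h1 : (1 - ((θ⁻¹ : Fˣ) : F)) ≠ 0 := by
    intro h
    apply hθ
    rw [← inv_eq_one]
    exact Units.ext (sub_eq_zero.1 h).symm
  rw [hχ, smul_eq_zero] at h0
  have h2 := sub_eq_zero.1 (h0.resolve_left h1)
  -- row `i` of `g⁻¹` is `c⁻¹ e_i`
  intro k hk
  have h3 : (fun k => ((g⁻¹ : GL ι F) : Matrix ι ι F) i k) = c⁻¹ • Pi.single i 1 := by
    rw [← h2, smul_smul, inv_mul_cancel₀ hc, one_smul]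
  have h4 := inv_mulVec_mulVec g (Pi.single k 1)
  have h5 := congrFun h4 i
  rw [mulVec_apply_eq, h3, smul_dotProduct, single_dotProduct, one_mul, entry_eq,
    Pi.single_apply, if_neg (Ne.symm hk), smul_eq_mul] at h5
  exact (mul_eq_zero.1 h5).resolve_left (inv_ne_zero hc)

/-- A homology with monomial matrix is diagonal. -/
theorem single_of_mon {u ψ : ι → F} (h1 : ψ ⬝ᵥ u = 1) {θ : F} (hθ0 : θ ≠ 0) (hθ : θ * θ ≠ 1)
    (h : ∀ j, ∃ i, ∀ k, k ≠ i →
      (1 + (θ - 1) • vecMulVec u ψ : Matrix ι ι F) k j = 0) : ∃ l, ∀ k, k ≠ l → u k = 0 := by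
  by_contra hcon
  push Not at hcon
  have hθ1 : θ - 1 ≠ 0 := by
    intro h0
    apply hθ
    rw [sub_eq_zero.1 h0, one_mul]
  have hu : ∃ a, u a ≠ 0 := by
    by_contra hc
    push Not at hc
    have : u = 0 := funext hc
    rw [this, dotProduct_zero] at h1
    exact zero_ne_one h1
  obtain ⟨a, ha⟩ := hu
  obtain ⟨b, hba, hb⟩ := hcon a
  have key : ∀ j, ψ j ≠ 0 → (j = a ∨ j = b) ∧ 1 + (θ - 1) * (ψ j * u j) = 0 ∧
      ∀ k, k ≠ a → k ≠ b → u k = 0 := by
    intro j hj
    obtain ⟨i, hi⟩ := h j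
    have hi' : ∀ k, k ≠ i → (if k = j then 1 else 0) + (θ - 1) * (u k * ψ j) = 0 := by
      intro k hk
      have := hi k hk
      rwa [Matrix.add_apply, Matrix.one_apply, Matrix.smul_apply, vecMulVec_apply,
        smul_eq_mul] at this
    have hz : ∀ k, k ≠ i → k ≠ j → u k = 0 := by
      intro k hk hkj
      have := hi' k hk
      rw [if_neg hkj, zero_add] at this
      rcases mul_eq_zero.1 this with h2 | h2
      · exact absurd h2 hθ1
      · exact (mul_eq_zero.1 h2).resolve_right hj
    have ha' : a = i ∨ a = j := by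
      by_contra hc
      push Not at hc
      exact ha (hz a hc.1 hc.2)
    have hb' : b = i ∨ b = j := by
      by_contra hc
      push Not at hc
      exact hb (hz b hc.1 hc.2)
    have hji : j ≠ i := by
      rintro rfl
      rcases ha' with h2 | h2 <;> rcases hb' with h3 | h3 <;> exact hba (h3.trans h2.symm)
    refine ⟨?_, ?_, ?_⟩
    · rcases ha' with h2 | h2
      · rcases hb' with h3 | h3
        · exact absurd (h3.trans h2.symm) hba
        · exact Or.inr h3.symm
      · exact Or.inl h2.symm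
    · have := hi' j hji
      rw [if_pos rfl] at this
      rw [mul_comm (ψ j)]
      exact this
    · intro k hka hkb
      apply hz k
      · rintro rfl
        rcases ha' with h2 | h2
        · exact hka h2.symm
        · rcases hb' with h3 | h3
          · exact hkb h3.symm
          · exact hba (h3.trans h2.symm)
      · rintro rfl
        rcases ha' with h2 | h2
        · rcases hb' with h3 | h3
          · exact hba (h3.trans h2.symm)
          · exact hkb h3.symm
        · exact hka h2.symm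
  -- the value of `ψ u`
  have hsum : ψ ⬝ᵥ u = ψ a * u a + ψ b * u b := by
    unfold dotProduct
    rw [← Finset.sum_subset (Finset.subset_univ {a, b}), Finset.sum_pair (Ne.symm hba)]
    intro k _ hk
    simp only [Finset.mem_insert, Finset.mem_singleton, not_or] at hk
    by_cases h2 : ψ k = 0
    · rw [h2, zero_mul]
    · rcases (key k h2).1 with h3 | h3
      · exact absurd h3 hk.1
      · exact absurd h3 hk.2
  rw [h1] at hsum
  by_cases hψa : ψ a = 0
  · by_cases hψb : ψ b = 0
    · rw [hψa, hψb] at hsum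
      simp at hsum
    · have h2 := (key b hψb).2.1
      rw [hψa, zero_mul, zero_add] at hsum
      rw [← hsum] at h2
      apply hθ0
      linear_combination h2
  · have h2 := (key a hψa).2.1
    by_cases hψb : ψ b = 0
    · rw [hψb, zero_mul, add_zero] at hsum
      rw [← hsum] at h2
      apply hθ0
      linear_combination h2
    · have h3 := (key b hψb).2.1
      apply hθ
      have h4 : θ = -1 := by
        linear_combination h2 + h3 + (θ - 1) * hsum
      rw [h4]
      ring

/-- The elements fixing the basis vectors outside `S`. -/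
def FixO (S : Finset ι) (g : GL ι F) : Prop :=
  ∀ i, i ∉ S → (g : Matrix ι ι F) *ᵥ Pi.single i 1 = Pi.single i 1

theorem FixO.mul {S : Finset ι} {g h : GL ι F} (hg : FixO S g) (hh : FixO S h) :
    FixO S (g * h) := by
  intro i hi
  rw [Units.val_mul, ← mulVec_mulVec, hh i hi, hg i hi]

theorem FixO.inv {S : Finset ι} {g : GL ι F} (hg : FixO S g) : FixO S g⁻¹ := by
  intro i hi
  conv_lhs => rw [← hg i hi]
  exact inv_mulVec_mulVec g _

theorem fixO_hm {S : Finset ι} {j : ι} (hj : j ∈ S) (θ : Fˣ) : FixO S (hm j θ : GL ι F) := by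
  intro i hi
  rw [hm_mulVec]
  have : i ≠ j := by
    rintro rfl
    exact hi hj
  rw [Pi.single_apply, if_neg this.symm, mul_zero, zero_smul, add_zero]

theorem isMon_hm (j : ι) (θ : Fˣ) : IsMon (hm j θ : GL ι F) := isMon_mn _ _

theorem fix_ne_zero {g : GL ι F} {j i : ι} {c : F}
    (h : (g : Matrix ι ι F) *ᵥ Pi.single j 1 = c • Pi.single i 1) : c ≠ 0 := by
  rintro rfl
  have h1 := inv_mulVec_mulVec g (Pi.single j 1)
  rw [h, zero_smul, mulVec_zero] at h1
  have := congrFun h1 j
  simp at this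

/-- Step (i). -/
theorem isMon_of_fix {X : Subgroup (GL ι F)} (hX : HasAllMon X) {S : Finset ι} {j : ι}
    (hj : j ∈ S) (hmin : ∀ g ∈ X, FixO (S.erase j) g → IsMon g) {y : GL ι F} (hy : y ∈ X)
    (hyS : FixO S y) {c : F} (hyj : (y : Matrix ι ι F) *ᵥ Pi.single j 1 = c • Pi.single j 1) :
    IsMon y := by
  have hc := fix_ne_zero hyj
  have h1 : FixO (S.erase j) (hm j (Units.mk0 c hc)⁻¹ * y) := by
    intro i hi
    by_cases hij : i = j
    · subst hij
      rw [Units.val_mul, ← mulVec_mulVec, hyj, mulVec_smul, hm_mulVec, Pi.single_eq_same, mul_one,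
        Units.val_inv_eq_inv_val, Units.val_mk0]
      funext k
      by_cases hk : k = i
      · subst hk
        simp [hc]
      · simp [hk]
    · have hiS : i ∉ S := fun h => hi (Finset.mem_erase.2 ⟨hij, h⟩)
      rw [Units.val_mul, ← mulVec_mulVec, hyS i hiS, hm_mulVec, Pi.single_apply,
        if_neg (Ne.symm hij), mul_zero, zero_smul, add_zero]
  exact isMon_of_mul_left (isMon_hm _ _) (hmin _ (X.mul_mem (hX _ _) hy) h1)

theorem fixO_swap {S : Finset ι} {i j : ι} (hi : i ∈ S) (hj : j ∈ S) :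
    FixO S (mn (Equiv.swap i j) 1 : GL ι F) := by
  intro k hk
  rw [mn_mulVec]
  have hki : k ≠ i := by rintro rfl; exact hk hi
  have hkj : k ≠ j := by rintro rfl; exact hk hj
  funext l
  simp only [Pi.one_apply, Units.val_one, one_mul, Pi.single_apply]
  congr 1
  rw [Equiv.swap_apply_eq_iff, Equiv.swap_apply_of_ne_of_ne hki hkj]

end Cfsg.Agent.H871
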