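import Cfsg.Agent.H871.MonoGL

/-!
Overgroups in `GL` of the full monomial group, second part: without transvections centred at basis
vectors every element is monomial (at least three coordinates, at least five scalars).
-/

set_option autoImplicit false
set_option linter.unusedSectionVars false

namespace Cfsg.Agent.H871

open Matrix Cfsg.Agent.H873

variable {ι : Type} [Fintype ι] [DecidableEq ι] {F : Type*} [Field F]

theorem mul_row (A B : Matrix ι ι F) (i k : ι) :
    (A * B) i k = ((fun l => A i l) ᵥ* B) k := rfl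

theorem vecMul_mn_inv_apply (σ : Equiv.Perm ι) (d : ι → Fˣ) (φ : ι → F) (i : ι) :
    (φ ᵥ* (((mn σ d)⁻¹ : GL ι F) : Matrix ι ι F)) i = ((d i)⁻¹ : Fˣ) * φ (σ i) := by
  rw [vecMul_mn_inv]

theorem mn_swap_single (i j : ι) :
    ((mn (Equiv.swap i j) 1 : GL ι F) : Matrix ι ι F) *ᵥ Pi.single i (1 : F) = Pi.single j 1 := by
  rw [mn_mulVec]
  funext k
  simp only [Pi.one_apply, Units.val_one, one_mul, Pi.single_apply]
  congr 1
  rw [Equiv.swap_apply_eq_iff, Equiv.swap_apply_left]

theorem eq_smul_single {v : ι → F} {l : ι} (h : ∀ k, k ≠ l → v k = 0) :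
    v = v l • Pi.single l 1 := by
  funext k
  by_cases hk : k = l
  · subst hk
    simp
  · rw [h k hk]
    simp [hk]

/-- Step (ii). -/
theorem isMon_of_map {X : Subgroup (GL ι F)} (hX : HasAllMon X) (hP : NoCentre X)
    {θ : Fˣ} (hθ : θ ≠ 1) {S : Finset ι}
    (hmin : ∀ j ∈ S, ∀ g ∈ X, FixO (S.erase j) g → IsMon g) {y : GL ι F} (hy : y ∈ X)
    (hyS : FixO S y) {i j : ι} (hj : j ∈ S) {c : F}
    (hyj : (y : Matrix ι ι F) *ᵥ Pi.single j 1 = c • Pi.single i 1) : IsMon y := by
  by_cases hi : i ∈ S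
  · have h1 : FixO S (mn (Equiv.swap i j) 1 * y) := (fixO_swap hi hj).mul hyS
    have h2 : ((mn (Equiv.swap i j) 1 * y : GL ι F) : Matrix ι ι F) *ᵥ Pi.single j 1 =
        c • Pi.single j 1 := by
      rw [Units.val_mul, ← mulVec_mulVec, hyj, mulVec_smul, mn_swap_single]
    exact isMon_of_mul_left (isMon_mn _ _)
      (isMon_of_fix hX hj (hmin j hj) (X.mul_mem (hX _ _) hy) h1 h2)
  · exfalso
    have h1 : (y : Matrix ι ι F) *ᵥ Pi.single i 1 = (1 : F) • Pi.single i 1 := by
      rw [one_smul]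
      exact hyS i hi
    have hji : j ≠ i := by
      rintro rfl
      exact hi hj
    have h2 := row_of_fix hX hP hθ hy h1 j hji
    have h3 := congrFun hyj i
    rw [entry_eq, h2] at h3
    simp at h3
    exact fix_ne_zero hyj h3.symm

/-- Step (iii). -/
theorem entry_ne_zero {X : Subgroup (GL ι F)} (hX : HasAllMon X) (hP : NoCentre X)
    {θ : Fˣ} (hθ : θ * θ ≠ 1) {S : Finset ι}
    (hmin : ∀ j ∈ S, ∀ g ∈ X, FixO (S.erase j) g → IsMon g) {g : GL ι F} (hg : g ∈ X)
    (hgS : FixO S g) (hmon : ¬ IsMon g) {i j : ι} (hi : i ∈ S) (hj : j ∈ S) :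
    (g : Matrix ι ι F) i j ≠ 0 := by
  intro h0
  have hθ1 : θ ≠ 1 := by
    rintro rfl
    exact hθ (one_mul _)
  have hyX : g⁻¹ * hm i θ * g ∈ X := X.mul_mem (X.mul_mem (X.inv_mem hg) (hX _ _)) hg
  have hyS : FixO S (g⁻¹ * hm i θ * g) := (hgS.inv.mul (fixO_hm hi θ)).mul hgS
  have hval : ∀ v, ((g⁻¹ * hm i θ * g : GL ι F) : Matrix ι ι F) *ᵥ v =
      v + (((θ : F) - 1) * ((g : Matrix ι ι F) *ᵥ v) i) •
        (((g⁻¹ : GL ι F) : Matrix ι ι F) *ᵥ Pi.single i 1) := by
    intro v
    rw [Units.val_mul, Units.val_mul, ← mulVec_mulVec, ← mulVec_mulVec, hm_mulVec, mulVec_add,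
      inv_mulVec_mulVec, mulVec_smul]
  have hyj : ((g⁻¹ * hm i θ * g : GL ι F) : Matrix ι ι F) *ᵥ Pi.single j 1 =
      (1 : F) • Pi.single j 1 := by
    rw [hval, entry_eq, h0, mul_zero, zero_smul, add_zero, one_smul]
  have hmony : IsMon (g⁻¹ * hm i θ * g) := isMon_of_fix hX hj (hmin j hj) hyX hyS hyj
  have hmat : ((g⁻¹ * hm i θ * g : GL ι F) : Matrix ι ι F) =
      1 + ((θ : F) - 1) • vecMulVec (((g⁻¹ : GL ι F) : Matrix ι ι F) *ᵥ Pi.single i 1)
        (fun k => (g : Matrix ι ι F) i k) := by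
    apply Matrix.mulVec_injective
    funext v
    rw [hval, add_mulVec, one_mulVec, smul_mulVec, vecMulVec_mulVec, op_smul_eq_smul, smul_smul,
      mulVec_apply_eq]
  have h1 : (fun k => (g : Matrix ι ι F) i k) ⬝ᵥ
      (((g⁻¹ : GL ι F) : Matrix ι ι F) *ᵥ Pi.single i 1) = 1 := by
    rw [← mulVec_apply_eq, mulVec_inv_mulVec, Pi.single_eq_same]
  obtain ⟨l, hl⟩ := single_of_mon (ψ := fun k => (g : Matrix ι ι F) i k)
    (u := ((g⁻¹ : GL ι F) : Matrix ι ι F) *ᵥ Pi.single i 1) (θ := (θ : F)) h1 θ.ne_zero (by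
      intro h
      apply hθ
      exact Units.ext h) (by
      intro k
      obtain ⟨m, hm⟩ := hmony k
      refine ⟨m, fun k' hk' => ?_⟩
      rw [← hmat]
      exact hm k' hk')
  have h2 := eq_smul_single hl
  set c := (((g⁻¹ : GL ι F) : Matrix ι ι F) *ᵥ Pi.single i 1) l with hc
  have hc0 : c ≠ 0 := fix_ne_zero h2
  have h3 : (g : Matrix ι ι F) *ᵥ Pi.single l 1 = c⁻¹ • Pi.single i 1 := by
    have h4 := mulVec_inv_mulVec g (Pi.single i 1)
    rw [h2, mulVec_smul] at h4
    rw [← h4, smul_smul, inv_mul_cancel₀ hc0, one_smul]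
  by_cases hlS : l ∈ S
  · exact hmon (isMon_of_map hX hP hθ1 hmin hg hgS hlS h3)
  · rw [hgS l hlS] at h3
    have hil : l ≠ i := by
      rintro rfl
      exact hlS hi
    have h4 := congrFun h3 i
    rw [Pi.single_apply, if_neg hil.symm] at h4
    simp at h4
    exact hc0 h4.symm

/-- two good values -/
theorem exists_two_values (h5 : 5 ≤ Nat.card F) (x y z : F) :
    ∃ s s' : F, s ≠ s' ∧ (s ≠ x ∧ s ≠ y ∧ s ≠ z) ∧ (s' ≠ x ∧ s' ≠ y ∧ s' ≠ z) := by
  classical
  have : Finite F := Nat.finite_of_card_ne_zero (by omega)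
  have : Fintype F := Fintype.ofFinite F
  rw [Nat.card_eq_fintype_card] at h5
  have h1 : 1 < ((Finset.univ : Finset F) \ {x, y, z}).card := by
    have h2 := Finset.le_card_sdiff ({x, y, z} : Finset F) (Finset.univ : Finset F)
    have h3 : ({x, y, z} : Finset F).card ≤ 3 := Finset.card_le_three
    rw [Finset.card_univ] at h2
    omega
  obtain ⟨s, hs, s', hs', hne⟩ := Finset.one_lt_card.1 h1
  simp only [Finset.mem_sdiff, Finset.mem_insert, Finset.mem_singleton, not_or] at hs hs'
  exact ⟨s, s', hne, hs.2, hs'.2⟩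

/-- A line `e + s x` whose points at two non-zero parameters are multiples of basis vectors. -/
theorem eq_smul_of_two {x : ι → F} {a : ι} {s s' : F} (hs : s ≠ 0) (hs' : s' ≠ 0) (hss : s ≠ s')
    (h : ∃ i, ∀ k, k ≠ i → ((Pi.single a (1 : F) : ι → F) + s • x) k = 0)
    (h' : ∃ i, ∀ k, k ≠ i → ((Pi.single a (1 : F) : ι → F) + s' • x) k = 0) : ∀ k, k ≠ a → x k = 0 := by
  intro k hk
  by_contra hxk
  have key : ∀ r : F, r ≠ 0 → (∃ i, ∀ k, k ≠ i → ((Pi.single a (1 : F) : ι → F) + r • x) k = 0) →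
      1 + r * x a = 0 := by
    rintro r hr ⟨i, hi⟩
    have hik : i = k := by
      by_contra hne
      have := hi k (Ne.symm hne)
      rw [Pi.add_apply, Pi.single_apply, if_neg hk, zero_add, Pi.smul_apply, smul_eq_mul] at this
      rcases mul_eq_zero.1 this with h1 | h1
      · exact hr h1
      · exact hxk h1
    have := hi a (by rw [hik]; exact hk.symm)
    rwa [Pi.add_apply, Pi.single_eq_same, Pi.smul_apply, smul_eq_mul] at this
  have h1 := key s hs h
  have h2 := key s' hs' h'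
  have h3 : (s - s') * x a = 0 := by linear_combination h1 - h2
  rcases mul_eq_zero.1 h3 with h4 | h4
  · exact hss (sub_eq_zero.1 h4)
  · rw [h4, mul_zero, add_zero] at h1
    exact one_ne_zero h1

/-- Step (iv): no minimal support with three elements. -/
theorem false_of_three {X : Subgroup (GL ι F)} (hX : HasAllMon X) (hP : NoCentre X)
    (h5 : 5 ≤ Nat.card F) {θ : Fˣ} (hθ : θ * θ ≠ 1) {S : Finset ι}
    (hmin : ∀ j ∈ S, ∀ g ∈ X, FixO (S.erase j) g → IsMon g) {g : GL ι F} (hg : g ∈ X)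
    (hgS : FixO S g) (hmon : ¬ IsMon g) {a b c : ι} (ha : a ∈ S) (hb : b ∈ S) (hc : c ∈ S)
    (hab : a ≠ b) (hac : a ≠ c) (hbc : b ≠ c) : False := by
  have hginv : ¬ IsMon g⁻¹ := fun h => hmon (by have := h.inv; rwa [inv_inv] at this)
  have hw : ∀ {i j : ι}, i ∈ S → j ∈ S → (g : Matrix ι ι F) i j ≠ 0 := fun hi hj =>
    entry_ne_zero hX hP hθ hmin hg hgS hmon hi hj
  have hz : ∀ {i j : ι}, i ∈ S → j ∈ S → ((g⁻¹ : GL ι F) : Matrix ι ι F) i j ≠ 0 := fun hi hj =>
    entry_ne_zero hX hP hθ hmin (X.inv_mem hg) hgS.inv hginv hi hj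
  set wa := (g : Matrix ι ι F) a a with hwa
  set wb := (g : Matrix ι ι F) b a with hwb
  have hwa0 : wa ≠ 0 := hw ha ha
  have hwb0 : wb ≠ 0 := hw hb ha
  set za := ((g⁻¹ : GL ι F) : Matrix ι ι F) *ᵥ Pi.single a 1 with hza
  set zb := ((g⁻¹ : GL ι F) : Matrix ι ι F) *ᵥ Pi.single b 1 with hzb
  have hzab : za b ≠ 0 := by rw [hza, entry_eq]; exact hz hb ha
  have hzbb : zb b ≠ 0 := by rw [hzb, entry_eq]; exact hz hb hb
  set lam := zb b / za b with hlam
  have hlam0 : lam ≠ 0 := div_ne_zero hzbb hzab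
  set x := zb - lam • za with hx
  -- the element attached to a good value
  have key : ∀ s : F, s ≠ 0 → s ≠ -wb → s ≠ wa / lam →
      ∃ i, ∀ k, k ≠ i → ((Pi.single a (1 : F) : ι → F) + s • x) k = 0 := by
    intro s hs0 hsb hsa
    have hα : 1 - s * lam / wa ≠ 0 := by
      intro h
      apply hsa
      field_simp at h
      field_simp
      linear_combination -h
    have hβ : 1 + s / wb ≠ 0 := by
      intro h
      apply hsb
      field_simp at h
      linear_combination h
    set y : GL ι F := g⁻¹ * (hm a (Units.mk0 _ hα) * hm b (Units.mk0 _ hβ)) * g with hy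
    have hyX : y ∈ X := X.mul_mem (X.mul_mem (X.inv_mem hg) (X.mul_mem (hX _ _) (hX _ _))) hg
    have hyS : FixO S y := (hgS.inv.mul ((fixO_hm ha _).mul (fixO_hm hb _))).mul hgS
    have hya : (y : Matrix ι ι F) *ᵥ Pi.single a 1 = Pi.single a 1 + s • x := by
      rw [hy, Units.val_mul, Units.val_mul, Units.val_mul, ← mulVec_mulVec, ← mulVec_mulVec,
        ← mulVec_mulVec, hm_mulVec, hm_mulVec, mulVec_add, mulVec_add, inv_mulVec_mulVec,
        mulVec_smul, mulVec_smul, ← hza, ← hzb, entry_eq, Pi.add_apply, Pi.smul_apply, entry_eq,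
        Pi.single_apply, if_neg hab, Units.val_mk0, Units.val_mk0, ← hwa, ← hwb, hx]
      funext k
      simp only [Pi.add_apply, Pi.smul_apply, Pi.sub_apply, smul_eq_mul]
      field_simp
      ring
    have hyba : (y : Matrix ι ι F) b a = 0 := by
      rw [← entry_eq (y : Matrix ι ι F) b a, hya, Pi.add_apply, Pi.single_apply,
        if_neg hab.symm, zero_add,
        Pi.smul_apply, hx, Pi.sub_apply, Pi.smul_apply, hlam, smul_eq_mul, smul_eq_mul]
      field_simp
      ring
    have hymon : IsMon y := by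
      by_contra hcon
      exact entry_ne_zero hX hP hθ hmin hyX hyS hcon hb ha hyba
    obtain ⟨i, hi⟩ := hymon a
    refine ⟨i, fun k hk => ?_⟩
    rw [← hya, entry_eq]
    exact hi k hk
  obtain ⟨s, s', hss, hs, hs'⟩ := exists_two_values h5 0 (-wb) (wa / lam)
  have h1 := eq_smul_of_two hs.1 hs'.1 hss (key s hs.1 hs.2.1 hs.2.2) (key s' hs'.1 hs'.2.1 hs'.2.2)
  have h2 := eq_smul_single h1
  -- apply `g`
  have h3 : (g : Matrix ι ι F) *ᵥ x = Pi.single b 1 - lam • Pi.single a 1 := by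
    rw [hx, mulVec_sub, mulVec_smul, hza, hzb, mulVec_inv_mulVec, mulVec_inv_mulVec]
  rw [h2, mulVec_smul] at h3
  have h4 := congrFun h3 c
  rw [Pi.smul_apply, entry_eq, Pi.sub_apply, Pi.smul_apply, Pi.single_apply, Pi.single_apply,
    if_neg hbc.symm, if_neg hac.symm, smul_eq_mul, smul_eq_mul, mul_zero, sub_zero] at h4
  have h5' : x a = 0 := (mul_eq_zero.1 h4).resolve_right (hw hc ha)
  have h6 := congrFun h3 b
  rw [h5'] at h6
  simp [hab] at h6

/-- The rows attached to equal columns agree. -/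
theorem row_eq_of_col {X : Subgroup (GL ι F)} (hX : HasAllMon X) (hP : NoCentre X)
    {θ : Fˣ} (hθ : θ ≠ 1) {h h' : GL ι F} (hh : h ∈ X) (hh' : h' ∈ X) {i : ι}
    (he : (h : Matrix ι ι F) *ᵥ Pi.single i 1 = (h' : Matrix ι ι F) *ᵥ Pi.single i 1) (k : ι) :
    ((h⁻¹ : GL ι F) : Matrix ι ι F) i k = ((h'⁻¹ : GL ι F) : Matrix ι ι F) i k := by
  have h1 : ((h⁻¹ * h' : GL ι F) : Matrix ι ι F) *ᵥ Pi.single i 1 = (1 : F) • Pi.single i 1 := by
    rw [Units.val_mul, ← mulVec_mulVec, ← he, inv_mulVec_mulVec, one_smul]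
  have h2 := row_of_fix hX hP hθ (X.mul_mem (X.inv_mem hh) hh') h1
  have h3 : ((h⁻¹ * h' : GL ι F) : Matrix ι ι F) i i = 1 := by
    have := congrFun h1 i
    rw [entry_eq] at this
    simpa using this
  have h4 : (h⁻¹ : GL ι F) = (h⁻¹ * h') * h'⁻¹ := by rw [mul_inv_cancel_right]
  rw [h4, Units.val_mul _ (h'⁻¹), Matrix.mul_apply, Finset.sum_eq_single i]
  · rw [h3, one_mul]
  · intro l _ hl
    rw [h2 l hl, zero_mul]
  · intro h; exact absurd (Finset.mem_univ _) h

/-- Step (v): no minimal support with two elements. -/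
theorem false_of_two {X : Subgroup (GL ι F)} (hX : HasAllMon X) (hP : NoCentre X)
    {θ : Fˣ} (hθ : θ * θ ≠ 1) {a b c : ι} (hab : a ≠ b) (hca : c ≠ a) (hcb : c ≠ b)
    (hmin : ∀ j ∈ ({a, b} : Finset ι), ∀ g ∈ X, FixO (({a, b} : Finset ι).erase j) g → IsMon g)
    {g : GL ι F} (hg : g ∈ X) (hgS : FixO ({a, b} : Finset ι) g) (hmon : ¬ IsMon g) : False := by
  have hθ1 : θ ≠ 1 := by
    rintro rfl
    exact hθ (one_mul _)
  have haS : a ∈ ({a, b} : Finset ι) := by simp
  have hbS : b ∈ ({a, b} : Finset ι) := by simp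
  have hcS : c ∉ ({a, b} : Finset ι) := by simp [hca, hcb]
  -- columns and rows outside
  have hgcol : ∀ l, l ∉ ({a, b} : Finset ι) → ∀ k, k ≠ l → (g : Matrix ι ι F) k l = 0 := by
    intro l hl k hk
    rw [← entry_eq (g : Matrix ι ι F) k l, hgS l hl, Pi.single_apply, if_neg hk]
  have hgrow : ∀ l, l ∉ ({a, b} : Finset ι) → ∀ k, k ≠ l → (g : Matrix ι ι F) l k = 0 := by
    intro l hl
    exact row_of_fix hX hP hθ1 hg (c := 1) (by rw [one_smul]; exact hgS l hl)
  have hicol : ∀ l, l ∉ ({a, b} : Finset ι) → ∀ k, k ≠ l →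
      ((g⁻¹ : GL ι F) : Matrix ι ι F) k l = 0 := by
    intro l hl k hk
    rw [← entry_eq ((g⁻¹ : GL ι F) : Matrix ι ι F) k l, hgS.inv l hl, Pi.single_apply, if_neg hk]
  have hirow : ∀ l, l ∉ ({a, b} : Finset ι) → ∀ k, k ≠ l →
      ((g⁻¹ : GL ι F) : Matrix ι ι F) l k = 0 := by
    intro l hl
    exact row_of_fix hX hP hθ1 (X.inv_mem hg) (c := 1) (by rw [one_smul]; exact hgS.inv l hl)
  set α := (g : Matrix ι ι F) a a with hα
  set β := (g : Matrix ι ι F) b a with hβ
  set α' := ((g⁻¹ : GL ι F) : Matrix ι ι F) a a with hα'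
  set β' := ((g⁻¹ : GL ι F) : Matrix ι ι F) a b with hβ'
  have hα0 : α ≠ 0 := entry_ne_zero hX hP hθ hmin hg hgS hmon haS haS
  have hβ0 : β ≠ 0 := entry_ne_zero hX hP hθ hmin hg hgS hmon hbS haS
  -- the sum
  have hsum : α' * α + β' * β = 1 := by
    have h1 := congrFun (inv_mulVec_mulVec g (Pi.single a 1)) a
    rw [mulVec_apply_eq, Pi.single_eq_same] at h1
    unfold dotProduct at h1
    rw [← Finset.sum_subset (Finset.subset_univ {a, b}), Finset.sum_pair hab, entry_eq,
      entry_eq] at h1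
    · exact h1
    · intro k _ hk
      rw [entry_eq]
      have hka : k ≠ a := by rintro rfl; exact hk haS
      rw [hgrow k hk a hka.symm, mul_zero]
  -- first symmetry
  have hsymm : α' * α = β' * β := by
    set d : ι → Fˣ := fun k => if k = a then Units.mk0 α hα0 * (Units.mk0 β hβ0)⁻¹ else
      if k = b then Units.mk0 β hβ0 * (Units.mk0 α hα0)⁻¹ else 1 with hd
    have h1 : (g : Matrix ι ι F) *ᵥ Pi.single a 1 =
        ((mn (Equiv.swap a b) d * g : GL ι F) : Matrix ι ι F) *ᵥ Pi.single a 1 := by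
      rw [Units.val_mul, ← mulVec_mulVec, mn_mulVec]
      funext k
      rw [entry_eq, entry_eq]
      by_cases hka : k = a
      · subst hka
        rw [Equiv.swap_apply_left, ← hα, ← hβ, hd]
        simp
        field_simp
      · by_cases hkb : k = b
        · subst hkb
          rw [Equiv.swap_apply_right, ← hα, ← hβ, hd]
          simp [hka]
          field_simp
        · rw [Equiv.swap_apply_of_ne_of_ne hka hkb, hd]
          simp [hka, hkb]
    have h2 := row_eq_of_col hX hP hθ1 hg (X.mul_mem (hX _ _) hg) h1 a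
    rw [_root_.mul_inv_rev, Units.val_mul, mul_row, vecMul_mn_inv_apply, Equiv.swap_apply_left,
      ← hα', ← hβ', hd] at h2
    simp only [if_true] at h2
    rw [h2]
    simp
    field_simp
  -- second symmetry
  set d : ι → Fˣ := fun k => if k = a then (Units.mk0 α hα0)⁻¹ else
      if k = c then (Units.mk0 β hβ0)⁻¹ else 1 with hd
  have h1 : ((mn (Equiv.swap b c) d * g : GL ι F) : Matrix ι ι F) *ᵥ Pi.single a 1 =
      Pi.single a 1 + Pi.single c 1 := by
    rw [Units.val_mul, ← mulVec_mulVec, mn_mulVec]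
    funext k
    rw [entry_eq, Pi.add_apply]
    by_cases hka : k = a
    · subst hka
      rw [Equiv.swap_apply_of_ne_of_ne hab hca.symm, ← hα, hd]
      simp [hca.symm, hα0]
    · by_cases hkc : k = c
      · subst hkc
        rw [Equiv.swap_apply_right, ← hβ, hd]
        simp [hca, hβ0]
      · by_cases hkb : k = b
        · subst hkb
          rw [Equiv.swap_apply_left, hgrow c hcS a hca.symm]
          simp [hka, hkc]
        · rw [Equiv.swap_apply_of_ne_of_ne hkb hkc, hgrow k (by simp [hka, hkb]) a (Ne.symm hka)]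
          simp [hka, hkc]
  set h₂ : GL ι F := g * (mn (Equiv.swap b c) d * g) with hh₂
  have hh₂X : h₂ ∈ X := X.mul_mem hg (X.mul_mem (hX _ _) hg)
  have hw : (h₂ : Matrix ι ι F) *ᵥ Pi.single a 1 =
      fun k => if k = a then α else if k = b then β else if k = c then 1 else 0 := by
    rw [hh₂, Units.val_mul, ← mulVec_mulVec, h1, mulVec_add, hgS c hcS]
    funext k
    rw [Pi.add_apply, entry_eq]
    by_cases hka : k = a
    · subst hka
      simp [hca.symm, hα]
    · by_cases hkb : k = b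
      · subst hkb
        simp [hcb.symm, hβ, hka]
      · by_cases hkc : k = c
        · subst hkc
          rw [hgrow k hcS a (Ne.symm hka)]
          simp [hka, hkb]
        · rw [hgrow k (by simp [hka, hkb]) a (Ne.symm hka)]
          simp [hka, hkb, hkc]
  set τ := α' * α with hτ
  have hρ : ∀ l, ((h₂⁻¹ : GL ι F) : Matrix ι ι F) a l =
      τ * (((g⁻¹ : GL ι F) : Matrix ι ι F) a l + ((g⁻¹ : GL ι F) : Matrix ι ι F) c l) := by
    intro l
    rw [hh₂, _root_.mul_inv_rev, _root_.mul_inv_rev, Units.val_mul, Units.val_mul, mul_row]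
    have h2 : (fun l => ((((g⁻¹ : GL ι F) : Matrix ι ι F) *
        (((mn (Equiv.swap b c) d)⁻¹ : GL ι F) : Matrix ι ι F)) a l)) =
        τ • (Pi.single a 1 + Pi.single c 1 : ι → F) := by
      funext k
      rw [mul_row, vecMul_mn_inv_apply, Pi.smul_apply, Pi.add_apply]
      by_cases hka : k = a
      · subst hka
        rw [Equiv.swap_apply_of_ne_of_ne hab hca.symm, ← hα', hd]
        simp [hca.symm, hτ]
        ring
      · by_cases hkc : k = c
        · subst hkc
          rw [Equiv.swap_apply_right, ← hβ', hd]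
          simp [hca]
          rw [hsymm, mul_comm]
        · by_cases hkb : k = b
          · subst hkb
            rw [Equiv.swap_apply_left, hicol c hcS a hca.symm]
            simp [hka, hkc]
          · rw [Equiv.swap_apply_of_ne_of_ne hkb hkc, hicol k (by simp [hka, hkb]) a (Ne.symm hka)]
            simp [hka, hkc]
    rw [h2, smul_vecMul, add_vecMul, single_one_vecMul, single_one_vecMul]
    rfl
  set d' : ι → Fˣ := fun k => if k = b then Units.mk0 β hβ0 else
      if k = c then (Units.mk0 β hβ0)⁻¹ else 1 with hd'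
  have h3 : (h₂ : Matrix ι ι F) *ᵥ Pi.single a 1 =
      ((mn (Equiv.swap b c) d' * h₂ : GL ι F) : Matrix ι ι F) *ᵥ Pi.single a 1 := by
    rw [Units.val_mul (mn (Equiv.swap b c) d') h₂, ← mulVec_mulVec, hw, mn_mulVec]
    funext k
    by_cases hkb : k = b
    · subst hkb
      rw [Equiv.swap_apply_left, hd']
      simp [hab.symm, hca, hcb]
    · by_cases hkc : k = c
      · subst hkc
        rw [Equiv.swap_apply_right, hd']
        simp [hkb, hca, hab.symm, hβ0]
      · rw [Equiv.swap_apply_of_ne_of_ne hkb hkc, hd']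
        simp [hkb, hkc]
  have h4 := row_eq_of_col hX hP hθ1 hh₂X (X.mul_mem (hX _ _) hh₂X) h3 b
  rw [_root_.mul_inv_rev (mn (Equiv.swap b c) d') h₂, Units.val_mul (h₂⁻¹) _, mul_row,
    vecMul_mn_inv_apply, Equiv.swap_apply_left, hρ b, hρ c,
    hicol c hcS a hca.symm, hirow c hcS b hcb.symm, hd'] at h4
  have hcc : ((g⁻¹ : GL ι F) : Matrix ι ι F) c c = 1 := by
    rw [← entry_eq ((g⁻¹ : GL ι F) : Matrix ι ι F) c c, hgS.inv c hcS, Pi.single_eq_same]
  rw [hcc, ← hβ'] at h4
  simp only [if_true] at h4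
  have h5 : τ * (β' * β) = τ := by
    have h6 : ((Units.mk0 β hβ0)⁻¹ : Fˣ) = (β⁻¹ : F) := by simp
    rw [add_zero, zero_add, mul_one, h6] at h4
    calc τ * (β' * β) = (τ * β') * β := by ring
      _ = τ := by
        rw [h4]
        field_simp
  have h6 : τ + τ = 1 := by
    rw [← hsum]
    rw [← hsymm]
  rw [← hsymm] at h5
  have h7 : τ * (τ - 1) = 0 := by linear_combination h5
  rcases mul_eq_zero.1 h7 with h8 | h8
  · rw [h8, add_zero] at h6
    exact zero_ne_one h6
  · have h9 : τ = 1 := sub_eq_zero.1 h8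
    rw [h9] at h6
    exact one_ne_zero (by linear_combination h6)

/-- Without transvections centred at basis vectors every element is monomial. -/
theorem all_mon_of_noCentre {X : Subgroup (GL ι F)} (hX : HasAllMon X) (hP : NoCentre X)
    (h5 : 5 ≤ Nat.card F) {θ : Fˣ} (hθ : θ * θ ≠ 1) (h3 : 3 ≤ Fintype.card ι) :
    ∀ g ∈ X, IsMon g := by
  classical
  have hθ1 : θ ≠ 1 := by
    rintro rfl
    exact hθ (one_mul _)
  have key : ∀ (n : ℕ) (S : Finset ι), S.card = n → ∀ g ∈ X, FixO S g → IsMon g := by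
    intro n
    induction n with
    | zero =>
      intro S hS g _ hgS j
      rw [Finset.card_eq_zero] at hS
      subst hS
      refine ⟨j, fun k hk => ?_⟩
      rw [← entry_eq (g : Matrix ι ι F) k j, hgS j (Finset.notMem_empty _), Pi.single_apply,
        if_neg hk]
    | succ n ih =>
      intro S hS g hg hgS
      by_contra hmon
      have hmin : ∀ j ∈ S, ∀ g ∈ X, FixO (S.erase j) g → IsMon g := by
        intro j hj g hg hgj
        exact ih (S.erase j) (by rw [Finset.card_erase_of_mem hj, hS]; rfl) g hg hgj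
      by_cases h3S : 2 < S.card
      · obtain ⟨a, b, c, ha, hb, hc, hab, hac, hbc⟩ := Finset.two_lt_card_iff.1 h3S
        exact false_of_three hX hP h5 hθ hmin hg hgS hmon ha hb hc hab hac hbc
      · by_cases h2S : S.card = 2
        · obtain ⟨a, b, hab, rfl⟩ := Finset.card_eq_two.1 h2S
          obtain ⟨c, hca, hcb⟩ := exists_ne_two h3 a b
          exact false_of_two hX hP hθ hab hca hcb hmin hg hgS hmon
        · have h1S : S.card = 1 := by omega
          obtain ⟨a, rfl⟩ := Finset.card_eq_one.1 h1S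
          -- columns other than `a` are basis vectors, and the rows too
          apply hmon
          intro j
          refine ⟨j, fun k hk => ?_⟩
          by_cases hja : j = a
          · subst hja
            have hkS : k ∉ ({j} : Finset ι) := by simp [hk]
            exact row_of_fix hX hP hθ1 hg (c := 1) (by rw [one_smul]; exact hgS k hkS) j hk.symm
          · have hjS : j ∉ ({a} : Finset ι) := by simp [hja]
            rw [← entry_eq (g : Matrix ι ι F) k j, hgS j hjS, Pi.single_apply, if_neg hk]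
  intro g hg
  exact key _ Finset.univ rfl g hg (fun i hi => absurd (Finset.mem_univ i) hi)

/-- **Overgroups of the full monomial group of `GL`**: monomial or containing `SL`
(at least four coordinates and five scalars). -/
theorem gl_monomial {X : Subgroup (GL ι F)} (hX : HasAllMon X) (h5 : 5 ≤ Nat.card F)
    (h4 : 4 ≤ Fintype.card ι) : (∀ g ∈ X, IsMon g) ∨ Cfsg.Geo.specialLinear ι F ≤ X := by
  have hnt : Nontrivial ι := Fintype.one_lt_card_iff_nontrivial.1 (by omega)
  obtain ⟨θ, hθ⟩ : ∃ θ : Fˣ, θ * θ ≠ 1 := by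
    obtain ⟨s, -, -, ⟨h0, h1, h2⟩, -⟩ := exists_two_values h5 0 1 (-1)
    refine ⟨Units.mk0 s h0, fun h => ?_⟩
    have h3 := congrArg Units.val h
    rw [Units.val_mul, Units.val_mk0, Units.val_one] at h3
    rcases mul_self_eq_one_iff.1 h3 with h4 | h4
    · exact h1 h4
    · exact h2 h4
  have hθ1 : θ ≠ 1 := by
    rintro rfl
    exact hθ (one_mul _)
  by_cases hP : NoCentre X
  · exact Or.inl (all_mon_of_noCentre hX hP h5 hθ (by omega))
  · right
    unfold NoCentre at hP
    push Not at hP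
    obtain ⟨i, φ, hφ, hφ0⟩ := hP
    exact top_of_centre (fun σ d _ => hX σ d) h4 ⟨θ, hθ1⟩ hφ0 hφ

end Cfsg.Agent.H871
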