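import Cfsg.Agent.H871.MonoGLTwo

/-!
Restriction to `V / ⟨e_o⟩` of the stabiliser of a coordinate line; overgroups of the monomial group
of `SL` containing a non-monomial element that fixes a coordinate line.
-/

set_option autoImplicit false
set_option linter.unusedSectionVars false

namespace Cfsg.Agent.H871

open Matrix Cfsg.Agent.H873

variable {ι : Type} [Fintype ι] [DecidableEq ι] {F : Type*} [Field F]

theorem mn_mul_apply (σ : Equiv.Perm ι) (d : ι → Fˣ) (x : GL ι F) (i j : ι) :
    ((mn σ d * x : GL ι F) : Matrix ι ι F) i j = (d i : F) * (x : Matrix ι ι F) (σ i) j := by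
  rw [← entry_eq ((mn σ d * x : GL ι F) : Matrix ι ι F) i j, Units.val_mul, ← mulVec_mulVec,
    mn_mulVec, ← entry_eq (x : Matrix ι ι F) (σ i) j]

theorem conj_diag_apply (d : ι → Fˣ) (x : GL ι F) (i j : ι) :
    ((mn 1 d * x * (mn 1 d)⁻¹ : GL ι F) : Matrix ι ι F) i j =
      (d i : F) * (x : Matrix ι ι F) i j * ((d j)⁻¹ : Fˣ) := by
  have h1 : (mn 1 d * x * (mn 1 d)⁻¹ : GL ι F) = mn 1 d * (x * mn 1 (fun i => (d i)⁻¹)) := by
    rw [mul_assoc, mn_inv, inv_one]
    rfl
  rw [h1, mn_mul_apply, Equiv.Perm.one_apply, mul_assoc]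
  congr 1
  rw [Units.val_mul, Matrix.mul_apply, Finset.sum_eq_single j]
  · rw [mn_apply, Equiv.Perm.one_apply, if_pos rfl]
  · intro k _ hk
    rw [mn_apply, Equiv.Perm.one_apply, if_neg hk, mul_zero]
  · intro h
    exact absurd (Finset.mem_univ _) h

/-- `g` stabilises the line of `e_o` and induces `x` on the quotient. -/
def Lift (o : ι) (g : GL ι F) (x : GL {i : ι // i ≠ o} F) : Prop :=
  (∀ i, i ≠ o → (g : Matrix ι ι F) i o = 0) ∧
    ∀ i j : {i : ι // i ≠ o}, (x : Matrix _ _ F) i j = (g : Matrix ι ι F) i j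

theorem mul_apply_of_col {o : ι} {g h : Matrix ι ι F} (hg : ∀ i, i ≠ o → g i o = 0) {i : ι}
    (hi : i ≠ o) (j : ι) : (g * h) i j = ∑ k : {k : ι // k ≠ o}, g i k * h k j := by
  rw [Matrix.mul_apply, Fintype.sum_eq_add_sum_subtype_ne _ o, hg i hi, zero_mul, zero_add]

theorem col_inv {o : ι} {g : GL ι F} (hg : ∀ i, i ≠ o → (g : Matrix ι ι F) i o = 0) :
    ∀ i, i ≠ o → ((g⁻¹ : GL ι F) : Matrix ι ι F) i o = 0 := by
  have h1 : (g : Matrix ι ι F) *ᵥ Pi.single o 1 = (g : Matrix ι ι F) o o • Pi.single o 1 := by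
    rw [col_eq]
    exact eq_smul_single hg
  have hc := fix_ne_zero h1
  have h2 : ((g⁻¹ : GL ι F) : Matrix ι ι F) *ᵥ Pi.single o 1 =
      ((g : Matrix ι ι F) o o)⁻¹ • Pi.single o 1 := by
    have h := inv_mulVec_mulVec g (Pi.single o 1)
    rw [h1, mulVec_smul] at h
    calc ((g⁻¹ : GL ι F) : Matrix ι ι F) *ᵥ Pi.single o 1
        = ((g : Matrix ι ι F) o o)⁻¹ • ((g : Matrix ι ι F) o o •
          (((g⁻¹ : GL ι F) : Matrix ι ι F) *ᵥ Pi.single o 1)) := by
          rw [smul_smul, inv_mul_cancel₀ hc, one_smul]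
      _ = _ := by rw [h]
  intro i hi
  rw [← entry_eq ((g⁻¹ : GL ι F) : Matrix ι ι F) i o, h2]
  simp [hi]

/-- The induced element. -/
def res (o : ι) (g : GL ι F) (hg : ∀ i, i ≠ o → (g : Matrix ι ι F) i o = 0) :
    GL {i : ι // i ≠ o} F where
  val := (g : Matrix ι ι F).submatrix Subtype.val Subtype.val
  inv := ((g⁻¹ : GL ι F) : Matrix ι ι F).submatrix Subtype.val Subtype.val
  val_inv := by
    ext i j
    have h := mul_apply_of_col (h := ((g⁻¹ : GL ι F) : Matrix ι ι F)) hg i.2 (j : ι)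
    rw [← Units.val_mul, mul_inv_cancel, Units.val_one, Matrix.one_apply] at h
    rw [Matrix.mul_apply]
    simp only [Matrix.submatrix_apply]
    rw [← h, Matrix.one_apply]
    simp [Subtype.ext_iff]
  inv_val := by
    ext i j
    have h := mul_apply_of_col (h := (g : Matrix ι ι F)) (col_inv hg) i.2 (j : ι)
    rw [← Units.val_mul, inv_mul_cancel, Units.val_one, Matrix.one_apply] at h
    rw [Matrix.mul_apply]
    simp only [Matrix.submatrix_apply]
    rw [← h, Matrix.one_apply]
    simp [Subtype.ext_iff]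

theorem lift_res (o : ι) (g : GL ι F) (hg : ∀ i, i ≠ o → (g : Matrix ι ι F) i o = 0) :
    Lift o g (res o g hg) := ⟨hg, fun _ _ => rfl⟩

theorem Lift.unique {o : ι} {g : GL ι F} {x y : GL {i : ι // i ≠ o} F} (hx : Lift o g x)
    (hy : Lift o g y) : x = y := by
  apply Units.ext
  ext i j
  rw [hx.2, hy.2]

theorem Lift.mul {o : ι} {g h : GL ι F} {x y : GL {i : ι // i ≠ o} F} (hx : Lift o g x)
    (hy : Lift o h y) : Lift o (g * h) (x * y) := by
  refine ⟨fun i hi => ?_, fun i j => ?_⟩
  · rw [Units.val_mul, mul_apply_of_col hx.1 hi]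
    exact Finset.sum_eq_zero fun k _ => by rw [hy.1 k k.2, mul_zero]
  · rw [Units.val_mul, Units.val_mul, mul_apply_of_col hx.1 i.2, Matrix.mul_apply]
    exact Finset.sum_congr rfl fun k _ => by rw [hx.2, hy.2]

theorem Lift.inv {o : ι} {g : GL ι F} {x : GL {i : ι // i ≠ o} F} (hx : Lift o g x) :
    Lift o g⁻¹ x⁻¹ := by
  have h1 : x = res o g hx.1 := hx.unique (lift_res o g hx.1)
  rw [h1]
  exact ⟨col_inv hx.1, fun i j => rfl⟩

theorem lift_one (o : ι) : Lift o (1 : GL ι F) 1 := by
  refine ⟨fun i hi => ?_, fun i j => ?_⟩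
  · rw [Units.val_one, Matrix.one_apply, if_neg hi]
  · rw [Units.val_one, Units.val_one, Matrix.one_apply, Matrix.one_apply]
    simp [Subtype.ext_iff]

/-- The group induced on the quotient by the stabiliser of a coordinate line. -/
def resGroup (M : Subgroup (GL ι F)) (o : ι) : Subgroup (GL {i : ι // i ≠ o} F) where
  carrier := {x | ∃ g ∈ M, Lift o g x}
  mul_mem' := by
    rintro x y ⟨g, hg, hx⟩ ⟨h, hh, hy⟩
    exact ⟨g * h, M.mul_mem hg hh, hx.mul hy⟩
  one_mem' := ⟨1, M.one_mem, lift_one o⟩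
  inv_mem' := by
    rintro x ⟨g, hg, hx⟩
    exact ⟨g⁻¹, M.inv_mem hg, hx.inv⟩

/-- The extension of a monomial matrix, of determinant one. -/
theorem exists_lift_mn (o : ι) (σ : Equiv.Perm {i : ι // i ≠ o}) (d : {i : ι // i ≠ o} → Fˣ) :
    ∃ (τ : Equiv.Perm ι) (e : ι → Fˣ), sgn F τ * ∏ i, e i = 1 ∧ Lift o (mn τ e) (mn σ d) := by
  classical
  refine ⟨Equiv.Perm.ofSubtype σ, fun i => if h : i ≠ o then d ⟨i, h⟩ else (sgn F σ * ∏ i, d i)⁻¹,
    ?_, ?_, ?_⟩
  · rw [Fintype.prod_eq_mul_prod_subtype_ne _ o]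
    have h1 : sgn F (Equiv.Perm.ofSubtype σ) = sgn F σ := by
      apply Units.ext
      rw [coe_sgn, coe_sgn, Equiv.Perm.sign_ofSubtype]
    rw [h1, dif_neg (by simp)]
    have h2 : ∏ i : {i : ι // i ≠ o}, (if h : (i : ι) ≠ o then d ⟨i, h⟩ else
        (sgn F σ * ∏ i, d i)⁻¹) = ∏ i, d i :=
      Finset.prod_congr rfl fun i _ => by rw [dif_pos i.2]
    rw [h2]
    have h3 : sgn F σ * ((sgn F σ * ∏ i, d i)⁻¹ * ∏ i, d i) =
      (sgn F σ * ∏ i, d i) * (sgn F σ * ∏ i, d i)⁻¹ := by
      rw [mul_assoc (sgn F σ) (∏ i, d i), mul_comm (∏ i, d i)]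
    rw [h3, mul_inv_cancel]
  · intro i hi
    rw [mn_apply, if_neg]
    intro h
    have h1 : Equiv.Perm.ofSubtype σ o = o :=
      Equiv.Perm.ofSubtype_apply_of_not_mem σ (by simp)
    exact hi ((Equiv.Perm.ofSubtype σ).injective (h.trans h1.symm))
  · intro i j
    rw [mn_apply, mn_apply, Equiv.Perm.ofSubtype_apply_coe, dif_pos i.2]
    simp [Subtype.ext_iff]

theorem resGroup_hasAllMon {M : Subgroup (GL ι F)} (hM : HasMon M) (o : ι) :
    HasAllMon (resGroup M o) := by
  intro σ d
  obtain ⟨τ, e, h1, h2⟩ := exists_lift_mn o σ d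
  exact ⟨_, hM τ e h1, h2⟩

/-- **A non-monomial element fixing a coordinate line** gives the whole of `SL`. -/
theorem top_of_fix [Nontrivial ι] {M : Subgroup (GL ι F)} (hM : HasMon M)
    (hMS : M ≤ Cfsg.Geo.specialLinear ι F) (hF : 5 ≤ Nat.card F) (hι : 5 ≤ Fintype.card ι)
    {g : GL ι F} (hg : g ∈ M) (hmon : ¬ IsMon g) {o : ι}
    (hcol : ∀ i, i ≠ o → (g : Matrix ι ι F) i o = 0) :
    Cfsg.Geo.specialLinear ι F ≤ M := by
  classical
  obtain ⟨θ, hθ⟩ : ∃ θ : Fˣ, θ ≠ 1 := by
    obtain ⟨s, -, -, ⟨h0, h1, -⟩, -⟩ := exists_two_values hF 0 1 1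
    refine ⟨Units.mk0 s h0, fun h => h1 ?_⟩
    have h3 := congrArg Units.val h
    rwa [Units.val_mk0, Units.val_one] at h3
  have hcard : 4 ≤ Fintype.card {i : ι // i ≠ o} := by
    rw [Fintype.card_subtype_compl, Fintype.card_subtype_eq]
    omega
  -- transvections with centre `e_o`
  have hcentre : ∀ h : GL ι F, h ∈ M → (∀ i, i ≠ o → ∀ j, (h : Matrix ι ι F) i j =
      if i = j then 1 else 0) → h ≠ 1 → Cfsg.Geo.specialLinear ι F ≤ M := by
    intro h hh hrow hne
    set φ : ι → F := fun k => (h : Matrix ι ι F) o k - if o = k then 1 else 0 with hφ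
    have hmat : (h : Matrix ι ι F) = 1 + vecMulVec (Pi.single o 1) φ := by
      ext i j
      rw [Matrix.add_apply, Matrix.one_apply, vecMulVec_apply, Pi.single_apply]
      by_cases hi : i = o
      · subst hi
        simp [hφ]
      · rw [hrow i hi j, if_neg hi, zero_mul, add_zero]
    have hdet := (mem_specialLinear_iff h).1 (hMS hh)
    rw [hmat, vecMulVec_eq Unit, det_one_add_replicateCol_mul_replicateRow] at hdet
    have h0 : φ ⬝ᵥ Pi.single o 1 = 0 := by
      have : (1 : F) + φ ⬝ᵥ Pi.single o 1 = 1 + 0 := by rw [hdet, add_zero]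
      exact add_left_cancel this
    refine top_of_centre hM (by omega) ⟨θ, hθ⟩ (i := o) (φ := φ) ?_ ⟨h0, h, hh, hmat⟩
    intro hφ0
    apply hne
    apply Units.ext
    rw [hmat, hφ0, vecMulVec_zero, add_zero, Units.val_one]
  rcases gl_monomial (resGroup_hasAllMon hM o) hF hcard with hall | hSL
  · -- the induced element is monomial
    obtain ⟨σ, d, hx⟩ := (isMon_iff _).1 (hall _ ⟨g, hg, lift_res o g hcol⟩)
    obtain ⟨τ, e, h1, h2⟩ := exists_lift_mn o σ d
    have h3 : Lift o ((mn τ e)⁻¹ * g) 1 := by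
      have := h2.inv.mul (lift_res o g hcol)
      rwa [hx, inv_mul_cancel] at this
    refine hcentre ((mn τ e)⁻¹ * g) (M.mul_mem (M.inv_mem (hM τ e h1)) hg) ?_ ?_
    · intro i hi j
      by_cases hj : j = o
      · subst hj
        rw [h3.1 i hi, if_neg hi]
      · have := h3.2 ⟨i, hi⟩ ⟨j, hj⟩
        rw [← this, Units.val_one, Matrix.one_apply]
        simp [Subtype.ext_iff]
    · intro h4
      apply hmon
      rw [inv_mul_eq_one] at h4
      rw [← h4]
      exact isMon_mn _ _
  · -- three distinct coordinates different from `o`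
    obtain ⟨⟨a, hao⟩, ⟨b, hbo⟩, ⟨c, hco⟩, -, -, -, hab', hac', hbc'⟩ := Finset.two_lt_card_iff.1
      (show 2 < (Finset.univ : Finset {i : ι // i ≠ o}).card by rw [Finset.card_univ]; omega)
    have hab : a ≠ b := fun h => hab' (Subtype.ext h)
    have hac : a ≠ c := fun h => hac' (Subtype.ext h)
    have hbc : b ≠ c := fun h => hbc' (Subtype.ext h)
    have hlift : ∀ {p r : {i : ι // i ≠ o}} (hpr : p ≠ r),
        ∃ g ∈ M, Lift o g (tv (Pi.single p 1) (Pi.single r 1) (by simp [hpr])) := by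
      intro p r hpr
      exact hSL (tv_mem_specialLinear _ _ (by simp [hpr]))
    obtain ⟨g₁, hg₁, hl₁⟩ := hlift (p := ⟨a, hao⟩) (r := ⟨c, hco⟩) hac'
    obtain ⟨g₂, hg₂, hl₂⟩ := hlift (p := ⟨c, hco⟩) (r := ⟨b, hbo⟩) hbc'.symm
    set x : GL ι F := g₁ * g₂ * g₁⁻¹ * g₂⁻¹ with hx
    have hxM : x ∈ M := M.mul_mem (M.mul_mem (M.mul_mem hg₁ hg₂) (M.inv_mem hg₁)) (M.inv_mem hg₂)
    have hxl := ((hl₁.mul hl₂).mul hl₁.inv).mul hl₂.inv
    rw [← hx] at hxl
    -- the commutator of the two transvections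
    have hcomm : ∀ (i j : {i : ι // i ≠ o}), (x : Matrix ι ι F) i j =
        (1 + vecMulVec (Pi.single (⟨a, hao⟩ : {i : ι // i ≠ o}) 1) (Pi.single ⟨b, hbo⟩ 1) :
          Matrix _ _ F) i j := by
      intro i j
      rw [← hxl.2 i j]
      congr 2
      -- an identity of matrices
      have e1 : (tv (Pi.single (⟨a, hao⟩ : {i : ι // i ≠ o}) (1 : F)) (Pi.single ⟨c, hco⟩ 1)
          (by simp [hac'])) * tv (Pi.single ⟨c, hco⟩ 1) (Pi.single ⟨b, hbo⟩ 1)
          (by simp [hbc'.symm]) =
          (tv (Pi.single (⟨a, hao⟩ : {i : ι // i ≠ o}) (1 : F)) (Pi.single ⟨b, hbo⟩ 1)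
          (by simp [hab'])) * (tv (Pi.single ⟨c, hco⟩ 1) (Pi.single ⟨b, hbo⟩ 1)
          (by simp [hbc'.symm]) * tv (Pi.single (⟨a, hao⟩ : {i : ι // i ≠ o}) (1 : F))
            (Pi.single ⟨c, hco⟩ 1) (by simp [hac'])) := by
        apply gl_ext
        intro v
        rw [Units.val_mul, Units.val_mul, Units.val_mul]
        simp only [← mulVec_mulVec, tv_mulVec, dotProduct_add, dotProduct_smul, single_dotProduct,
          one_mul, Pi.single_apply, if_neg hac', if_neg hab', if_neg hbc', if_neg hac'.symm,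
          if_neg hab'.symm, if_neg hbc'.symm, smul_eq_mul, mul_zero, add_zero, if_true, mul_one,
          add_smul]
        abel
      have e2 : (tv (Pi.single (⟨a, hao⟩ : {i : ι // i ≠ o}) (1 : F)) (Pi.single ⟨c, hco⟩ 1)
          (by simp [hac'])) * tv (Pi.single ⟨c, hco⟩ 1) (Pi.single ⟨b, hbo⟩ 1)
          (by simp [hbc'.symm]) * (tv (Pi.single (⟨a, hao⟩ : {i : ι // i ≠ o}) (1 : F))
            (Pi.single ⟨c, hco⟩ 1) (by simp [hac']))⁻¹ * (tv (Pi.single ⟨c, hco⟩ 1)
            (Pi.single ⟨b, hbo⟩ 1) (by simp [hbc'.symm]))⁻¹ =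
          (tv (Pi.single (⟨a, hao⟩ : {i : ι // i ≠ o}) (1 : F)) (Pi.single ⟨b, hbo⟩ 1)
          (by simp [hab'])) := by
        rw [e1]
        group
      rw [e2]
      rfl
    -- the column of `e_o`
    have hxo : (x : Matrix ι ι F) *ᵥ Pi.single o 1 = Pi.single o 1 := by
      have hfix : ∀ {g : GL ι F} {y : GL {i : ι // i ≠ o} F}, Lift o g y →
          (g : Matrix ι ι F) *ᵥ Pi.single o 1 = (g : Matrix ι ι F) o o • Pi.single o 1 := by
        intro g y hy
        rw [col_eq]
        exact eq_smul_single hy.1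
      have h1 := hfix hl₁
      have h2 := hfix hl₂
      have h1' := fix_ne_zero h1
      have h2' := fix_ne_zero h2
      have hinv : ∀ {g : GL ι F} {c : F}, c ≠ 0 → (g : Matrix ι ι F) *ᵥ Pi.single o 1 =
          c • Pi.single o 1 → ((g⁻¹ : GL ι F) : Matrix ι ι F) *ᵥ Pi.single o 1 =
          c⁻¹ • Pi.single o 1 := by
        intro g c hc hg
        have h := inv_mulVec_mulVec g (Pi.single o 1)
        rw [hg, mulVec_smul] at h
        calc ((g⁻¹ : GL ι F) : Matrix ι ι F) *ᵥ Pi.single o 1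
            = c⁻¹ • (c • (((g⁻¹ : GL ι F) : Matrix ι ι F) *ᵥ Pi.single o 1)) := by
              rw [smul_smul, inv_mul_cancel₀ hc, one_smul]
          _ = _ := by rw [h]
      have e3 := hinv h2' h2
      have e4 := hinv h1' h1
      rw [hx]
      simp only [Units.val_mul, ← mulVec_mulVec, mulVec_smul, e3, e4, h1, h2, smul_smul]
      rw [show ((g₂ : Matrix ι ι F) o o)⁻¹ * (((g₁ : Matrix ι ι F) o o)⁻¹ *
        ((g₂ : Matrix ι ι F) o o * (g₁ : Matrix ι ι F) o o)) = 1 by field_simp, one_smul]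
    set ψ : ι → F := fun k => (x : Matrix ι ι F) o k - if o = k then 1 else 0 with hψ
    have hψo : ψ o = 0 := by
      rw [hψ]
      have := congrFun hxo o
      rw [entry_eq] at this
      simp [this]
    have hxmat : (x : Matrix ι ι F) =
        1 + vecMulVec (Pi.single a 1) (Pi.single b 1) + vecMulVec (Pi.single o 1) ψ := by
      ext i j
      rw [Matrix.add_apply, Matrix.add_apply, Matrix.one_apply, vecMulVec_apply, vecMulVec_apply,
        Pi.single_apply, Pi.single_apply, Pi.single_apply]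
      by_cases hi : i = o
      · subst hi
        rw [if_neg hao.symm, if_pos rfl]
        simp [hψ]
      · by_cases hj : j = o
        · subst hj
          rw [← entry_eq (x : Matrix ι ι F) i j, hxo, Pi.single_apply]
          simp [hi, hbo.symm]
        · have := hcomm ⟨i, hi⟩ ⟨j, hj⟩
          rw [this, Matrix.add_apply, Matrix.one_apply, vecMulVec_apply, Pi.single_apply,
            Pi.single_apply]
          simp [Subtype.ext_iff, hi]
    by_cases hψ0 : ψ = 0
    · -- `x` is a root element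
      refine top_of_root hM (by omega) hab (one_ne_zero (α := F)) ⟨by simp [hab], x, hxM, ?_⟩
      rw [hxmat, hψ0, vecMulVec_zero, add_zero, one_smul]
    · -- conjugating by a diagonal element
      obtain ⟨k, hk⟩ : ∃ k, ψ k ≠ 0 := by
        by_contra hc
        push Not at hc
        exact hψ0 (funext hc)
      have hko : k ≠ o := by
        rintro rfl
        exact hk hψo
      obtain ⟨d, hd1, hdo, hdab, hdk⟩ : ∃ d : ι → Fˣ, ∏ i, d i = 1 ∧ d o = 1 ∧ d a = d b ∧
          d k ≠ 1 := by
        by_cases hkab : k = a ∨ k = b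
        · refine ⟨fun i => if i = a then θ else if i = b then θ else if i = c then (θ * θ)⁻¹ else 1,
            ?_, ?_, ?_, ?_⟩
          · rw [← Finset.prod_subset (Finset.subset_univ {a, b, c})]
            · rw [Finset.prod_insert (by simp [hab, hac]), Finset.prod_insert (by simp [hbc]),
                Finset.prod_singleton]
              simp [hab.symm, hac.symm, hbc.symm]
            · intro i _ hi
              simp only [Finset.mem_insert, Finset.mem_singleton, not_or] at hi
              rw [if_neg hi.1, if_neg hi.2.1, if_neg hi.2.2]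
          · simp [hao.symm, hbo.symm, hco.symm]
          · simp [hab.symm]
          · rcases hkab with rfl | rfl
            · simpa using hθ
            · simpa [hab.symm] using hθ
        · push Not at hkab
          obtain ⟨l, hl⟩ : ∃ l, l ∉ ({o, a, b, k} : Finset ι) := by
            by_contra hc
            push Not at hc
            have h1 : (Finset.univ : Finset ι) ⊆ {o, a, b, k} := fun i _ => hc i
            have h2 := Finset.card_le_card h1
            rw [Finset.card_univ] at h2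
            have h3 : ({o, a, b, k} : Finset ι).card ≤ 4 := Finset.card_le_four
            omega
          simp only [Finset.mem_insert, Finset.mem_singleton, not_or] at hl
          refine ⟨fun i => if i = k then θ else if i = l then θ⁻¹ else 1, ?_, ?_, ?_, ?_⟩
          · rw [prod_two (Ne.symm hl.2.2.2), mul_inv_cancel]
          · simp [hko.symm, Ne.symm hl.1]
          · simp [Ne.symm hkab.1, Ne.symm hkab.2, Ne.symm hl.2.1, Ne.symm hl.2.2.1]
          · simpa using hθ
      have hdM : mn 1 d ∈ M := hM.diag d hd1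
      refine hcentre (mn 1 d * x * (mn 1 d)⁻¹ * x⁻¹)
        (M.mul_mem (M.mul_mem (M.mul_mem hdM hxM) (M.inv_mem hdM)) (M.inv_mem hxM)) ?_ ?_
      · -- rows different from `o`
        have hrow : ∀ i, i ≠ o → ∀ j, ((mn 1 d * x * (mn 1 d)⁻¹ : GL ι F) : Matrix ι ι F) i j =
            (x : Matrix ι ι F) i j := by
          intro i hi j
          rw [conj_diag_apply, hxmat, Matrix.add_apply, Matrix.add_apply,
            Matrix.one_apply, vecMulVec_apply, vecMulVec_apply, Pi.single_apply, Pi.single_apply,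
            Pi.single_apply, if_neg hi, zero_mul, add_zero]
          by_cases hia : i = a
          · subst hia
            by_cases hjb : j = b
            · subst hjb
              simp [hab, hdab]
            · by_cases hij : i = j
              · subst hij
                simp [hjb]
              · simp [hjb, hij]
          · by_cases hij : i = j
            · subst hij
              simp [hia]
            · simp [hia, hij]
        intro i hi j
        have h1 : ((mn 1 d * x * (mn 1 d)⁻¹ * x⁻¹ : GL ι F) : Matrix ι ι F) i j =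
            ((x * x⁻¹ : GL ι F) : Matrix ι ι F) i j := by
          rw [Units.val_mul _ (x⁻¹), Units.val_mul x, Matrix.mul_apply, Matrix.mul_apply]
          exact Finset.sum_congr rfl fun k _ => by rw [hrow i hi k]
        rw [h1, mul_inv_cancel, Units.val_one, Matrix.one_apply]
      · intro h1
        rw [mul_inv_eq_one] at h1
        have h2 : ((mn 1 d * x * (mn 1 d)⁻¹ : GL ι F) : Matrix ι ι F) o k =
            (x : Matrix ι ι F) o k := by rw [h1]
        rw [conj_diag_apply, hdo, Units.val_one, one_mul] at h2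
        have h3 : (x : Matrix ι ι F) o k = ψ k := by
          rw [hψ]
          simp [hko.symm]
        rw [h3] at h2
        apply hdk
        have h4 : (((d k)⁻¹ : Fˣ) : F) = 1 := by
          exact mul_left_cancel₀ hk (h2.trans (mul_one _).symm)
        rw [← inv_eq_one]
        exact Units.ext h4

end Cfsg.Agent.H871
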