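import Cfsg.Agent.H871.MonoZero

/-!
Overgroups of the monomial group of `SL`: the final contradiction.
-/

set_option autoImplicit false
set_option linter.unusedSectionVars false

namespace Cfsg.Agent.H871

open Matrix Cfsg.Agent.H873

variable {ι : Type} [Fintype ι] [DecidableEq ι] {F : Type*} [Field F]

/-- The case in which no non-monomial element has a zero entry: proportional columns. -/
theorem prop_of_nonzero {M : Subgroup (GL ι F)} (hM : HasMon M)
    (hC : ∀ g ∈ M, ¬ IsMon g → ∀ i j, (g : Matrix ι ι F) i j ≠ 0) {g : GL ι F} (hg : g ∈ M)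
    (hmon : ¬ IsMon g) (o : ι) {a b : ι} (hab : a ≠ b) :
    ∃ r : F, r ≠ 0 ∧ ∃ k, ∀ p, p ≠ o → p ≠ k →
      ((g⁻¹ : GL ι F) : Matrix ι ι F) p b = r * ((g⁻¹ : GL ι F) : Matrix ι ι F) p a := by
  have hginv : ¬ IsMon g⁻¹ := fun h => hmon (by have := h.inv; rwa [inv_inv] at this)
  set A := ((g⁻¹ : GL ι F) : Matrix ι ι F) with hA
  have hA0 : ∀ i j, A i j ≠ 0 := hC _ (M.inv_mem hg) hginv
  have hg0 : ∀ i j, (g : Matrix ι ι F) i j ≠ 0 := hC _ hg hmon
  by_cases h : ∀ p, p ≠ o → (g : Matrix ι ι F) b o * A p b = (g : Matrix ι ι F) a o * A p a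
  · refine ⟨(g : Matrix ι ι F) a o / (g : Matrix ι ι F) b o, div_ne_zero (hg0 _ _) (hg0 _ _), o,
      fun p hp _ => ?_⟩
    have h1 := h p hp
    have h2 := hg0 b o
    field_simp
    linear_combination h1
  · push Not at h
    obtain ⟨p, hpo, hp⟩ := h
    set wa := (g : Matrix ι ι F) a o with hwa
    set wb := (g : Matrix ι ι F) b o with hwb
    have hwa0 : wa ≠ 0 := hg0 a o
    have hwb0 : wb ≠ 0 := hg0 b o
    obtain ⟨s, hs⟩ : ∃ s : F, s = (wb * A p b) / (wa * A p a) := ⟨_, rfl⟩
    have hs0 : s ≠ 0 := by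
      rw [hs]
      exact div_ne_zero (mul_ne_zero hwb0 (hA0 _ _)) (mul_ne_zero hwa0 (hA0 _ _))
    have hsm : s * (wa * A p a) = wb * A p b := by
      rw [hs, div_mul_cancel₀]
      exact mul_ne_zero hwa0 (hA0 _ _)
    have hs1 : s ≠ 1 := by
      intro h1
      apply hp
      rw [← hsm, h1, one_mul]
    set u : Fˣ := Units.mk0 s hs0 with hu
    set d : ι → Fˣ := fun i => if i = a then u else if i = b then u⁻¹ else 1 with hd
    set y : GL ι F := g⁻¹ * mn 1 d * g with hy
    have hyM : y ∈ M := M.mul_mem (M.mul_mem (M.inv_mem hg)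
      (hM.diag d (by rw [hd, prod_two hab, mul_inv_cancel]))) hg
    have hycol : ∀ q, (y : Matrix ι ι F) q o = (Pi.single o (1 : F) : ι → F) q +
        (A q a * ((s - 1) * wa) + A q b * ((s⁻¹ - 1) * wb)) := by
      intro q
      rw [← entry_eq (y : Matrix ι ι F) q o, hy, conj_col, Pi.add_apply, ← hA, ← mulVec_two A hab]
      congr 2
      funext i
      by_cases hia : i = a
      · subst hia
        simp [hd, hu, hwa]
      · by_cases hib : i = b
        · subst hib
          simp [hd, hu, hwb, hia]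
        · simp [hd, hia, hib]
    -- the entry at `p` vanishes
    have hyp : (y : Matrix ι ι F) p o = 0 := by
      rw [hycol, Pi.single_apply, if_neg hpo]
      have h1 : s * s⁻¹ = 1 := mul_inv_cancel₀ hs0
      linear_combination ((1 : F) - s⁻¹) * hsm + (A p a * wa) * h1
    have hymon : IsMon y := by
      by_contra hcon
      exact hC y hyM hcon p o hyp
    obtain ⟨m, hm⟩ := hymon o
    refine ⟨s * wa / wb, div_ne_zero (mul_ne_zero hs0 hwa0) hwb0, m, fun q hqo hqm => ?_⟩
    have h1 := hm q hqm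
    rw [hycol, Pi.single_apply, if_neg hqo] at h1
    have h2 : (s - 1) * (s * wa * A q a - wb * A q b) = 0 := by
      have h3 : s * s⁻¹ = 1 := mul_inv_cancel₀ hs0
      linear_combination s * h1 - (A q b * wb) * h3
    rcases mul_eq_zero.1 h2 with h3 | h3
    · exact absurd (sub_eq_zero.1 h3) hs1
    · field_simp
      linear_combination -h3

theorem false_of_nonzero {M : Subgroup (GL ι F)} (hM : HasMon M) (h5 : 5 ≤ Fintype.card ι)
    (hC : ∀ g ∈ M, ¬ IsMon g → ∀ i j, (g : Matrix ι ι F) i j ≠ 0) : ∀ g ∈ M, IsMon g := by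
  classical
  intro g hg
  by_contra hmon
  have hginv : ¬ IsMon g⁻¹ := fun h => hmon (by have := h.inv; rwa [inv_inv] at this)
  set A := ((g⁻¹ : GL ι F) : Matrix ι ι F) with hA
  have hA0 : ∀ i j, A i j ≠ 0 := hC _ (M.inv_mem hg) hginv
  have hne : Nonempty ι := Fintype.card_pos_iff.1 (by omega)
  obtain ⟨o⟩ := hne
  have hprop : ∀ {a b : ι}, a ≠ b → ∃ r : F, r ≠ 0 ∧ ∃ k, ∀ p, p ≠ o → p ≠ k →
      A p b = r * A p a := fun hab => prop_of_nonzero hM hC hg hmon o hab
  -- the column of `o` is compared with all others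
  choose! r hr k hk using fun b (hb : o ≠ b) => hprop hb
  have hcommon : ∀ b c, b ≠ o → c ≠ o → k b ≠ o → k c ≠ o → A (k b) b ≠ r b * A (k b) o →
      A (k c) c ≠ r c * A (k c) o → k b = k c := by
    intro b c hb hc hkb hkc h1 h2
    by_contra hkk
    by_cases hbc : b = c
    · exact hkk (by rw [hbc])
    obtain ⟨s, hs, k', hk'⟩ := hprop hbc
    obtain ⟨p, hp⟩ : ∃ p, p ∉ ({o, k b, k c, k'} : Finset ι) := by
      by_contra hcc
      push Not at hcc
      have h1 : (Finset.univ : Finset ι) ⊆ {o, k b, k c, k'} := fun i _ => hcc i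
      have h2 := Finset.card_le_card h1
      rw [Finset.card_univ] at h2
      have h3 : ({o, k b, k c, k'} : Finset ι).card ≤ 4 := Finset.card_le_four
      omega
    simp only [Finset.mem_insert, Finset.mem_singleton, not_or] at hp
    obtain ⟨hpo, hpb, hpc, hpk⟩ := hp
    have e1 := hk b (Ne.symm hb) p hpo hpb
    have e2 := hk c (Ne.symm hc) p hpo hpc
    have e3 := hk' p hpo hpk
    have e4 : r c = s * r b := by
      rw [e1, e2, ← mul_assoc] at e3
      exact mul_right_cancel₀ (hA0 p o) e3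
    by_cases hk'b : k' = k b
    · -- at `k c`
      have e5 := hk' (k c) hkc (by rw [hk'b]; exact Ne.symm hkk)
      have e6 := hk b (Ne.symm hb) (k c) hkc (Ne.symm hkk)
      apply h2
      rw [e5, e6, e4]
      ring
    · have e5 := hk' (k b) hkb (Ne.symm hk'b)
      have e6 := hk c (Ne.symm hc) (k b) hkb hkk
      apply h1
      rw [e6, e4] at e5
      apply mul_left_cancel₀ hs
      rw [← e5]
      ring
  -- a common index
  obtain ⟨m, hm⟩ : ∃ m, ∀ b, b ≠ o → ∀ p, p ≠ o → p ≠ m → A p b = r b * A p o := by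
    by_cases h : ∃ b, b ≠ o ∧ k b ≠ o ∧ A (k b) b ≠ r b * A (k b) o
    · obtain ⟨b, hb, hkb, h1⟩ := h
      refine ⟨k b, fun c hc p hpo hpm => ?_⟩
      by_cases hpc : p = k c
      · by_contra hcon
        rw [hpc] at hcon hpo
        exact hpm (by rw [hpc, hcommon b c hb hc hkb hpo h1 hcon])
      · exact hk c (Ne.symm hc) p hpo hpc
    · push Not at h
      refine ⟨o, fun c hc p hpo _ => ?_⟩
      by_cases hpc : p = k c
      · rw [hpc]
        rw [hpc] at hpo
        exact h c hc hpo
      · exact hk c (Ne.symm hc) p hpo hpc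
  -- two proportional rows
  obtain ⟨p, hpo, hpm⟩ := exists_ne_two (by omega : 3 ≤ Fintype.card ι) o m
  obtain ⟨q, hqo, hqm, hqp⟩ := exists_ne_three (by omega : 4 ≤ Fintype.card ι) o m p
  have hrows : ∀ b, A p b * A q o = A q b * A p o := by
    intro b
    by_cases hb : b = o
    · rw [hb, mul_comm]
    · rw [hm b hb p hpo hpm, hm b hb q hqo hqm]
      ring
  have h1 : ∀ j, ((g⁻¹ * g : GL ι F) : Matrix ι ι F) p j * A q o =
      ((g⁻¹ * g : GL ι F) : Matrix ι ι F) q j * A p o := by
    intro j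
    rw [Units.val_mul, Matrix.mul_apply, Matrix.mul_apply, Finset.sum_mul, Finset.sum_mul]
    refine Finset.sum_congr rfl fun b _ => ?_
    linear_combination ((g : Matrix ι ι F) b j) * hrows b
  have h2 := h1 p
  rw [inv_mul_cancel, Units.val_one, Matrix.one_apply_eq, Matrix.one_apply_ne hqp, one_mul,
    zero_mul] at h2
  exact hA0 q o h2

/-- The key lemma: linear combinations of the columns of the inverse have few zeros. -/
theorem zeros_of_comb {M : Subgroup (GL ι F)} (hM : HasMon M) {K : ℕ}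
    (hK : ∀ y ∈ M, ¬ IsMon y → ∀ j, (zs fun i => (y : Matrix ι ι F) i j).card ≤ K)
    {g : GL ι F} (hg : g ∈ M) {o k : ι} (hk : (g : Matrix ι ι F) k o = 0) {b : ι → F}
    (hb : b ≠ 0) (hsupp : ∀ i, (g : Matrix ι ι F) i o = 0 → b i = 0) {l : ι}
    (hl : (g : Matrix ι ι F) l o ≠ 0) (hbl : b l = 0) {c₁ c₂ : F} (hc₁ : c₁ ≠ 0) (hc₂ : c₂ ≠ 0)
    (hne : c₁ ≠ c₂) (h₁ : ∀ i, (g : Matrix ι ι F) i o ≠ 0 → (g : Matrix ι ι F) i o + c₁ * b i ≠ 0)
    (h₂ : ∀ i, (g : Matrix ι ι F) i o ≠ 0 → (g : Matrix ι ι F) i o + c₂ * b i ≠ 0) :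
    ((zs (((g⁻¹ : GL ι F) : Matrix ι ι F) *ᵥ b)).erase o).card ≤ K := by
  classical
  by_contra hcon
  push Not at hcon
  set x := ((g⁻¹ : GL ι F) : Matrix ι ι F) *ᵥ b with hx
  have key : ∀ c : F, (∀ i, (g : Matrix ι ι F) i o ≠ 0 → (g : Matrix ι ι F) i o + c * b i ≠ 0) →
      ∃ i, ∀ k, k ≠ i → ((Pi.single o (1 : F) : ι → F) + c • x) k = 0 := by
    intro c hc
    -- the diagonal matrix
    set f : ι → Fˣ := fun i => if h : (g : Matrix ι ι F) i o ≠ 0 then
      Units.mk0 (((g : Matrix ι ι F) i o + c * b i) / (g : Matrix ι ι F) i o)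
        (div_ne_zero (hc i h) h) else 1 with hf
    set P : Fˣ := ∏ i, f i with hP
    set d : ι → Fˣ := fun i => f i * (if i = k then P⁻¹ else 1) with hd
    have hd1 : ∏ i, d i = 1 := by
      rw [hd, Finset.prod_mul_distrib, Finset.prod_ite_eq' Finset.univ k,
        if_pos (Finset.mem_univ _), ← hP, mul_inv_cancel]
    set y : GL ι F := g⁻¹ * mn 1 d * g with hy
    have hyM : y ∈ M := M.mul_mem (M.mul_mem (M.inv_mem hg) (hM.diag d hd1)) hg
    have hycol : (y : Matrix ι ι F) *ᵥ Pi.single o 1 = Pi.single o (1 : F) + c • x := by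
      rw [hy, conj_col, hx, ← mulVec_smul]
      congr 2
      funext i
      rw [Pi.smul_apply, smul_eq_mul]
      by_cases hi : (g : Matrix ι ι F) i o = 0
      · rw [hi, hsupp i hi, mul_zero, mul_zero]
      · have hik : i ≠ k := by
          rintro rfl
          exact hi hk
        have : (d i : F) = ((g : Matrix ι ι F) i o + c * b i) / (g : Matrix ι ι F) i o := by
          simp [hd, hf, hi, hik]
        rw [this]
        field_simp
        ring
    have hymon : IsMon y := by
      by_contra hcon'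
      have h1 := hK y hyM hcon' o
      have h2 : (zs x).erase o ⊆ zs fun i => (y : Matrix ι ι F) i o := by
        intro i hi
        rw [Finset.mem_erase, mem_zs] at hi
        rw [mem_zs, ← entry_eq (y : Matrix ι ι F) i o, hycol, Pi.add_apply, Pi.smul_apply, hi.2,
          Pi.single_apply, if_neg hi.1, smul_zero, add_zero]
      have h3 := Finset.card_le_card h2
      omega
    obtain ⟨i, hi⟩ := hymon o
    refine ⟨i, fun k hk => ?_⟩
    rw [← hycol, entry_eq]
    exact hi k hk
  have hxo := eq_smul_of_two hc₁ hc₂ hne (key c₁ h₁) (key c₂ h₂)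
  have h1 := eq_smul_single hxo
  have h2 : b = x o • ((g : Matrix ι ι F) *ᵥ Pi.single o 1) := by
    rw [← mulVec_smul, ← h1, hx, mulVec_inv_mulVec]
  have h3 := congrFun h2 l
  rw [hbl, Pi.smul_apply, entry_eq, smul_eq_mul] at h3
  rcases mul_eq_zero.1 h3.symm with h4 | h4
  · apply hb
    rw [h2, h4, zero_smul]
  · exact hl h4

/-- Enough scalars: many zeros can be produced. -/
theorem nonzero_of_big {M : Subgroup (GL ι F)} (hM : HasMon M) {K : ℕ}
    (hK : ∀ y ∈ M, ¬ IsMon y → ∀ j, (zs fun i => (y : Matrix ι ι F) i j).card ≤ K)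
    (hq : K + 5 ≤ Nat.card F) (hn : 2 * K + 3 ≤ Fintype.card ι) :
    ∀ g ∈ M, ¬ IsMon g → ∀ i j, (g : Matrix ι ι F) i j ≠ 0 := by
  classical
  intro g hg hmon k o hk
  have : Finite F := Nat.finite_of_card_ne_zero (by omega)
  have : Fintype F := Fintype.ofFinite F
  rw [Nat.card_eq_fintype_card] at hq
  set A := ((g⁻¹ : GL ι F) : Matrix ι ι F) with hA
  set S : Finset ι := (zs fun i => (g : Matrix ι ι F) i o)ᶜ with hS
  have hScard : K + 3 ≤ S.card := by
    have h1 := hK g hg hmon o
    rw [hS, Finset.card_compl]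
    omega
  have hSmem : ∀ i, i ∈ S ↔ (g : Matrix ι ι F) i o ≠ 0 := by
    intro i
    rw [hS, Finset.mem_compl, mem_zs]
  obtain ⟨I, hIS, hI⟩ := Finset.exists_subset_card_eq (by omega : K + 2 ≤ S.card)
  obtain ⟨l, hlS, hlI⟩ := Finset.exists_mem_notMem_of_card_lt_card (by omega : I.card < S.card)
  have hT : (Finset.univ.erase o).card = Fintype.card ι - 1 := by
    rw [Finset.card_erase_of_mem (Finset.mem_univ _), Finset.card_univ]
  obtain ⟨J, hJT, hJ⟩ := Finset.exists_subset_card_eq
    (by omega : K + 1 ≤ (Finset.univ.erase o).card)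
  -- a vector supported on `I` whose image vanishes on `J`
  obtain ⟨b, hb0, hbI, hbJ⟩ : ∃ b : ι → F, b ≠ 0 ∧ (∀ i, i ∉ I → b i = 0) ∧
      ∀ j ∈ J, (A *ᵥ b) j = 0 := by
    let T : (ι → F) →ₗ[F] ({j // j ∈ J} → F) × ({i // i ∉ I} → F) :=
      { toFun := fun v => (fun j => (A *ᵥ v) j, fun i => v i)
        map_add' := by
          intro v w
          rw [mulVec_add]
          rfl
        map_smul' := by
          intro c v
          rw [mulVec_smul]
          rfl }
    have hker : LinearMap.ker T ≠ ⊥ := by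
      apply LinearMap.ker_ne_bot_of_finrank_lt
      rw [Module.finrank_prod, Module.finrank_pi, Module.finrank_pi, Module.finrank_pi,
        Fintype.card_coe, hJ, Fintype.card_subtype_compl, Fintype.card_coe, hI]
      have : I.card ≤ Fintype.card ι := Finset.card_le_univ I
      omega
    obtain ⟨b, hb, hb0⟩ := Submodule.exists_mem_ne_zero_of_ne_bot hker
    rw [LinearMap.mem_ker] at hb
    have h1 : (fun j : {j // j ∈ J} => (A *ᵥ b) j) = 0 := congrArg Prod.fst hb
    have h2 : (fun i : {i // i ∉ I} => b i) = 0 := congrArg Prod.snd hb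
    exact ⟨b, hb0, fun i hi => congrFun h2 ⟨i, hi⟩, fun j hj => congrFun h1 ⟨j, hj⟩⟩
  -- two scalars
  set bad : Finset F := insert 0 (I.image fun i => -(g : Matrix ι ι F) i o / b i) with hbad
  have hbadc : bad.card ≤ K + 3 := by
    have h1 := Finset.card_insert_le (0 : F) (I.image fun i => -(g : Matrix ι ι F) i o / b i)
    have h2 : (I.image fun i => -(g : Matrix ι ι F) i o / b i).card ≤ I.card :=
      Finset.card_image_le
    rw [← hbad] at h1
    omega
  have hgood : 1 < (badᶜ).card := by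
    rw [Finset.card_compl]
    omega
  obtain ⟨c₁, hc₁, c₂, hc₂, hne⟩ := Finset.one_lt_card.1 hgood
  have hgd : ∀ c, c ∈ badᶜ → c ≠ 0 ∧ ∀ i, (g : Matrix ι ι F) i o ≠ 0 →
      (g : Matrix ι ι F) i o + c * b i ≠ 0 := by
    intro c hc
    rw [Finset.mem_compl, hbad, Finset.mem_insert, Finset.mem_image, not_or] at hc
    refine ⟨hc.1, fun i hi h0 => ?_⟩
    by_cases hbi : b i = 0
    · rw [hbi, mul_zero, add_zero] at h0
      exact hi h0
    · apply hc.2
      refine ⟨i, ?_, ?_⟩
      · by_contra hiI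
        exact hbi (hbI i hiI)
      · rw [div_eq_iff hbi]
        linear_combination -h0
  have hfin := zeros_of_comb hM hK hg hk hb0 (fun i hi => hbI i fun hiI => (hSmem i).1 (hIS hiI) hi)
    ((hSmem l).1 hlS) (hbI l hlI) (hgd c₁ hc₁).1 (hgd c₂ hc₂).1 hne (hgd c₁ hc₁).2 (hgd c₂ hc₂).2
  rw [← hA] at hfin
  have h1 : J ⊆ (zs (A *ᵥ b)).erase o := by
    intro j hj
    rw [Finset.mem_erase, mem_zs]
    exact ⟨(Finset.mem_erase.1 (hJT hj)).1, hbJ j hj⟩
  have h2 := Finset.card_le_card h1
  omega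

/-- Two columns of the inverse agree (up to a scalar) at few places. -/
theorem ratio_le {M : Subgroup (GL ι F)} (hM : HasMon M) {K : ℕ}
    (hK : ∀ y ∈ M, ¬ IsMon y → ∀ j, (zs fun i => (y : Matrix ι ι F) i j).card ≤ K)
    (hq : 5 ≤ Nat.card F) (hn : K + 3 ≤ Fintype.card ι) {g : GL ι F} (hg : g ∈ M)
    (hmon : ¬ IsMon g) {k o : ι} (hk : (g : Matrix ι ι F) k o = 0) {a b : ι} (hab : a ≠ b)
    (ha : (g : Matrix ι ι F) a o ≠ 0) (hb : (g : Matrix ι ι F) b o ≠ 0) (r : F) :
    ((zs fun j => ((g⁻¹ : GL ι F) : Matrix ι ι F) j b -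
      r * ((g⁻¹ : GL ι F) : Matrix ι ι F) j a).erase o).card ≤ K := by
  classical
  set A := ((g⁻¹ : GL ι F) : Matrix ι ι F) with hA
  obtain ⟨l, hl, hla, hlb⟩ : ∃ l, (g : Matrix ι ι F) l o ≠ 0 ∧ l ≠ a ∧ l ≠ b := by
    have h1 := hK g hg hmon o
    by_contra hcon
    push Not at hcon
    have h2 : (Finset.univ : Finset ι) ⊆ (zs fun i => (g : Matrix ι ι F) i o) ∪ {a, b} := by
      intro i _
      rw [Finset.mem_union, mem_zs, Finset.mem_insert, Finset.mem_singleton]
      by_contra hc
      push Not at hc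
      exact hc.2.2 (hcon i hc.1 hc.2.1)
    have h3 := Finset.card_le_card h2
    have h4 := Finset.card_union_le (zs fun i => (g : Matrix ι ι F) i o) {a, b}
    have h5 : ({a, b} : Finset ι).card ≤ 2 := Finset.card_le_two
    rw [Finset.card_univ] at h3
    omega
  obtain ⟨c₁, c₂, hne, ⟨h10, h1b, h1a⟩, ⟨h20, h2b, h2a⟩⟩ :=
    exists_two_values hq 0 (-(g : Matrix ι ι F) b o) ((g : Matrix ι ι F) a o / r)
  set v : ι → F := fun i => if i = b then 1 else if i = a then -r else 0 with hv
  have hgd : ∀ c, c ≠ -(g : Matrix ι ι F) b o → c ≠ (g : Matrix ι ι F) a o / r →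
      ∀ i, (g : Matrix ι ι F) i o ≠ 0 → (g : Matrix ι ι F) i o + c * v i ≠ 0 := by
    intro c hcb hca i hi h0
    by_cases hib : i = b
    · subst hib
      have : v i = 1 := by simp [hv]
      rw [this, mul_one] at h0
      apply hcb
      linear_combination h0
    · by_cases hia : i = a
      · subst hia
        have : v i = -r := by simp [hv, hib]
        rw [this] at h0
        by_cases hr : r = 0
        · rw [hr, neg_zero, mul_zero, add_zero] at h0
          exact hi h0
        · apply hca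
          rw [eq_div_iff hr]
          linear_combination -h0
      · have : v i = 0 := by simp [hv, hib, hia]
        rw [this, mul_zero, add_zero] at h0
        exact hi h0
  have h1 := zeros_of_comb hM hK hg hk (b := v) (fun h0 => by
      have := congrFun h0 b
      simp [hv] at this) (fun i hi => by
      have hib : i ≠ b := by rintro rfl; exact hb hi
      have hia : i ≠ a := by rintro rfl; exact ha hi
      simp [hv, hib, hia]) hl (by simp [hv, hla, hlb]) h10 h20 hne (hgd c₁ h1b h1a)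
    (hgd c₂ h2b h2a)
  have h2 : ((g⁻¹ : GL ι F) : Matrix ι ι F) *ᵥ v = fun j => A j b - r * A j a := by
    funext j
    rw [hv, mulVec_two _ hab.symm]
    ring
  rwa [h2] at h1

/-- Counting over a small field. -/
theorem nonzero_of_count {M : Subgroup (GL ι F)} (hM : HasMon M) {K : ℕ}
    (hK : ∀ y ∈ M, ¬ IsMon y → ∀ j, (zs fun i => (y : Matrix ι ι F) i j).card ≤ K)
    (hq : 5 ≤ Nat.card F) (hn : K + 3 ≤ Fintype.card ι)
    (hcount : K * (Nat.card F + 1) + 1 ≤ Fintype.card ι)
    (hcount' : K * (Nat.card F + 1) + 1 < Fintype.card ι ∨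
      Fintype.card ι ≤ K * (Fintype.card ι - K)) :
    ∀ g ∈ M, ¬ IsMon g → ∀ i j, (g : Matrix ι ι F) i j ≠ 0 := by
  classical
  intro g hg hmon k o hk
  have : Finite F := Nat.finite_of_card_ne_zero (by omega)
  have : Fintype F := Fintype.ofFinite F
  have hginv : ¬ IsMon g⁻¹ := fun h => hmon (by have := h.inv; rwa [inv_inv] at this)
  set A := ((g⁻¹ : GL ι F) : Matrix ι ι F) with hA
  have hT : (Finset.univ.erase o).card = Fintype.card ι - 1 := by
    rw [Finset.card_erase_of_mem (Finset.mem_univ _), Finset.card_univ]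
  set S : Finset ι := (zs fun i => (g : Matrix ι ι F) i o)ᶜ with hS
  have hScard : Fintype.card ι - K ≤ S.card := by
    have h1 := hK g hg hmon o
    rw [hS, Finset.card_compl]
    omega
  have hSmem : ∀ i, i ∈ S ↔ (g : Matrix ι ι F) i o ≠ 0 := by
    intro i
    rw [hS, Finset.mem_compl, mem_zs]
  set Z : ι → Finset ι := fun a => (zs fun j => A j a).erase o with hZ
  have hZK : ∀ a, (Z a).card ≤ K := fun a =>
    (Finset.card_le_card (Finset.erase_subset _ _)).trans (hK _ (M.inv_mem hg) hginv a)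
  have hmain : ∀ a ∈ S, ∀ b ∈ S, a ≠ b →
      Fintype.card ι - 1 ≤ (Z a ∪ Z b).card + K * (Nat.card F - 1) := by
    intro a ha b hb hab
    have h1 : (Finset.univ.erase o \ (Z a ∪ Z b)).card ≤ K * (Finset.univ.erase (0 : F)).card := by
      apply Finset.card_le_mul_card_image_of_maps_to (f := fun j => A j b / A j a)
      · intro j hj
        rw [Finset.mem_sdiff, Finset.mem_union, not_or, hZ, Finset.mem_erase, Finset.mem_erase,
          Finset.mem_erase, mem_zs, mem_zs] at hj
        rw [Finset.mem_erase]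
        refine ⟨div_ne_zero ?_ ?_, Finset.mem_univ _⟩
        · exact fun h => hj.2.2 ⟨hj.1.1, h⟩
        · exact fun h => hj.2.1 ⟨hj.1.1, h⟩
      · intro r _
        refine (Finset.card_le_card ?_).trans (ratio_le hM hK hq hn hg hmon hk hab
          ((hSmem a).1 ha) ((hSmem b).1 hb) r)
        intro j hj
        rw [Finset.mem_filter, Finset.mem_sdiff, Finset.mem_union, not_or, hZ, Finset.mem_erase,
          Finset.mem_erase, Finset.mem_erase, mem_zs, mem_zs] at hj
        rw [Finset.mem_erase, mem_zs]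
        refine ⟨hj.1.1.1, ?_⟩
        have h0 : A j a ≠ 0 := fun h => hj.1.2.1 ⟨hj.1.1.1, h⟩
        have h1 := hj.2
        rw [div_eq_iff h0] at h1
        rw [← hA, h1, sub_self]
    have h2 : (Finset.univ.erase (0 : F)).card = Nat.card F - 1 := by
      rw [Finset.card_erase_of_mem (Finset.mem_univ _), Finset.card_univ, Nat.card_eq_fintype_card]
    have h3 : (Finset.univ.erase o).card ≤ (Finset.univ.erase o \ (Z a ∪ Z b)).card +
        (Z a ∪ Z b).card := by
      have := Finset.card_le_card_sdiff_add_card (s := Finset.univ.erase o) (t := Z a ∪ Z b)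
      exact this
    rw [h2] at h1
    omega
  have hmul : K * (Nat.card F + 1) = 2 * K + K * (Nat.card F - 1) := by
    obtain ⟨m, hm⟩ : ∃ m, Nat.card F = m + 1 := ⟨Nat.card F - 1, by omega⟩
    rw [hm, Nat.add_sub_cancel]
    ring
  have hS2 : 3 ≤ S.card := by omega
  -- any two of the sets are disjoint of size `K`
  have hdis : ∀ a ∈ S, ∀ b ∈ S, a ≠ b → (Z a).card = K ∧ Disjoint (Z a) (Z b) ∧
      ¬ (K * (Nat.card F + 1) + 1 < Fintype.card ι) := by
    intro a ha b hb hab
    have h1 := hmain a ha b hb hab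
    have h2 := Finset.card_union_add_card_inter (Z a) (Z b)
    have h3 := hZK a
    have h4 := hZK b
    refine ⟨by omega, ?_, by omega⟩
    rw [Finset.disjoint_iff_inter_eq_empty, ← Finset.card_eq_zero]
    omega
  obtain ⟨a, ha, b, hb, hab⟩ := Finset.one_lt_card.1 (by omega : 1 < S.card)
  have hlast := (hdis a ha b hb hab).2.2
  have hsize : ∀ a ∈ S, (Z a).card = K := by
    intro a ha
    obtain ⟨b, hb, hab⟩ := Finset.exists_mem_ne (by omega : 1 < S.card) a
    exact (hdis a ha b hb hab.symm).1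
  have h1 : (S.biUnion Z).card = ∑ a ∈ S, (Z a).card :=
    Finset.card_biUnion fun a ha b hb hab => (hdis a ha b hb hab).2.1
  rw [Finset.sum_congr rfl hsize, Finset.sum_const, smul_eq_mul] at h1
  have h2 : (S.biUnion Z).card ≤ (Finset.univ.erase o).card := by
    apply Finset.card_le_card
    intro i hi
    rw [Finset.mem_biUnion] at hi
    obtain ⟨a, -, hi⟩ := hi
    rw [hZ, Finset.mem_erase] at hi
    exact Finset.mem_erase.2 ⟨hi.1, Finset.mem_univ _⟩
  have h3 : K * (Fintype.card ι - K) ≤ K * S.card := Nat.mul_le_mul_left K hScard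
  rw [mul_comm] at h1
  rcases hcount' with h4 | h4
  · exact hlast h4
  · omega

theorem exists_theta (hq : 5 ≤ Nat.card F) : ∃ θ : Fˣ, (θ : F) * θ ≠ 1 ∧
    (θ : F) * θ + θ + 1 ≠ 0 ∧ (7 ≤ Nat.card F → (θ : F) * θ * (θ * θ) ≠ 1) := by
  have : Finite F := Nat.finite_of_card_ne_zero (by omega)
  obtain ⟨θ, hθ⟩ := IsCyclic.exists_generator (α := Fˣ)
  have hord : orderOf θ = Nat.card F - 1 := by
    rw [orderOf_eq_card_of_forall_mem_zpowers hθ, Nat.card_units]
  have hpow : ∀ m, 0 < m → m < Nat.card F - 1 → (θ : F) ^ m ≠ 1 := by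
    intro m hm hm' h1
    have h2 : θ ^ m = 1 := by
      apply Units.ext
      rw [Units.val_pow_eq_pow_val, h1, Units.val_one]
    have h3 := Nat.le_of_dvd hm (orderOf_dvd_of_pow_eq_one h2)
    omega
  refine ⟨θ, fun h => hpow 2 (by omega) (by omega) (by rw [← h]; ring), fun h =>
    hpow 3 (by omega) (by omega) (by linear_combination ((θ : F) - 1) * h), fun h7 h =>
    hpow 4 (by omega) (by omega) (by rw [← h]; ring)⟩

/-- **Overgroups of the monomial group of `SL`** if every column of a non-monomial element has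
at most one zero. -/
theorem sl_monomial_of_one {M : Subgroup (GL ι F)} (hM : HasMon M)
    (hK : ∀ y ∈ M, ¬ IsMon y → ∀ j, (zs fun i => (y : Matrix ι ι F) i j).card ≤ 1)
    (hF : 5 ≤ Nat.card F) (hι : 5 ≤ Fintype.card ι)
    (h : 6 ≤ Nat.card F ∨ 8 ≤ Fintype.card ι) : ∀ g ∈ M, IsMon g := by
  apply false_of_nonzero hM hι
  by_cases h6 : 6 ≤ Nat.card F
  · exact nonzero_of_big hM hK (by omega) (by omega)
  · have h8 : 8 ≤ Fintype.card ι := by
      rcases h with h | h
      · exact absurd h h6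
      · exact h
    have h5 : Nat.card F = 5 := by omega
    exact nonzero_of_count hM hK hF (by omega) (by omega) (Or.inl (by omega))

/-- **Overgroups of the monomial group of `SL`**, at least seven elements. -/
theorem sl_monomial_of_seven {M : Subgroup (GL ι F)} (hM : HasMon M)
    (hMS : M ≤ Cfsg.Geo.specialLinear ι F) (hF : 7 ≤ Nat.card F) (hι : 5 ≤ Fintype.card ι) :
    (∀ g ∈ M, IsMon g) ∨ Cfsg.Geo.specialLinear ι F ≤ M := by
  by_cases hne : Cfsg.Geo.specialLinear ι F ≤ M
  · exact Or.inr hne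
  left
  have hN := noFix_of hM hMS (by omega) hι hne
  obtain ⟨θ, h2, h3, h4⟩ := exists_theta (by omega : 5 ≤ Nat.card F)
  exact sl_monomial_of_one hM (fun y hy hmon j => zeros_le_one hM hN h2 h3 (h4 hF) hy hmon j)
    (by omega) hι (Or.inl (by omega))

/-- **Overgroups of the monomial group of `SL`**, in dimension at least 13. -/
theorem sl_monomial {M : Subgroup (GL ι F)} (hM : HasMon M)
    (hMS : M ≤ Cfsg.Geo.specialLinear ι F) (hF : 5 ≤ Nat.card F) (hι : 13 ≤ Fintype.card ι) :
    (∀ g ∈ M, IsMon g) ∨ Cfsg.Geo.specialLinear ι F ≤ M := by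
  by_cases hne : Cfsg.Geo.specialLinear ι F ≤ M
  · exact Or.inr hne
  left
  have hN := noFix_of hM hMS (by omega) (by omega) hne
  obtain ⟨θ, h2, h3, h4⟩ := exists_theta (by omega : 5 ≤ Nat.card F)
  have hK : ∀ y ∈ M, ¬ IsMon y → ∀ j, (zs fun i => (y : Matrix ι ι F) i j).card ≤ 2 :=
    fun y hy hmon j => zeros_le_two hM hN h2 h3 hy hmon j
  apply false_of_nonzero hM (by omega)
  by_cases h7 : 7 ≤ Nat.card F
  · exact nonzero_of_big hM hK (by omega) (by omega)
  · by_cases h5 : Nat.card F = 5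
    · exact nonzero_of_count hM hK hF (by omega) (by omega) (Or.inr (by omega))
    · -- there is no field with six elements, but the count works as well
      exfalso
      have h6 : Nat.card F = 6 := by omega
      have : Finite F := Nat.finite_of_card_ne_zero (by omega)
      have : Fintype F := Fintype.ofFinite F
      rw [Nat.card_eq_fintype_card] at h6
      have h := FiniteField.isPrimePow_card F
      rw [h6] at h
      revert h
      decide

end Cfsg.Agent.H871
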