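import Cfsg.Agent.H871.MonoLift

/-!
Overgroups of the monomial group of `SL`: the number of zeros in a column of a non-monomial
element.
-/

set_option autoImplicit false
set_option linter.unusedSectionVars false

namespace Cfsg.Agent.H871

open Matrix Cfsg.Agent.H873

variable {ι : Type} [Fintype ι] [DecidableEq ι] {F : Type*} [Field F]

/-- An element carrying a coordinate line to a coordinate line is monomial. -/
def NoFix (M : Subgroup (GL ι F)) : Prop :=
  ∀ g ∈ M, ∀ i j, (∀ k, k ≠ i → (g : Matrix ι ι F) k j = 0) → IsMon g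

theorem noFix_of {M : Subgroup (GL ι F)} (hM : HasMon M)
    (hMS : M ≤ Cfsg.Geo.specialLinear ι F) (hF : 5 ≤ Nat.card F) (hι : 5 ≤ Fintype.card ι)
    (hne : ¬ Cfsg.Geo.specialLinear ι F ≤ M) : NoFix M := by
  have : Nontrivial ι := Fintype.one_lt_card_iff_nontrivial.1 (by omega)
  have key : ∀ g ∈ M, ∀ o, (∀ k, k ≠ o → (g : Matrix ι ι F) k o = 0) → IsMon g := by
    intro g hg o ho
    by_contra hcon
    exact hne (top_of_fix hM hMS hF hι hg hcon ho)
  intro g hg i j h
  obtain ⟨l, hli, hlj⟩ := exists_ne_two (by omega : 3 ≤ Fintype.card ι) i j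
  set τ := Equiv.swap i j with hτ
  set d : ι → Fˣ := fun k => if k = l then sgn F τ else 1 with hd
  have hm : mn τ d ∈ M := hM τ d (by
    rw [hd, Finset.prod_ite_eq' Finset.univ l, if_pos (Finset.mem_univ _)]
    apply Units.ext
    rw [Units.val_mul, coe_sgn, Units.val_one]
    exact sign_mul_self τ)
  apply isMon_of_mul_left (isMon_mn τ d)
  apply key _ (M.mul_mem hm hg) j
  intro k hk
  rw [mn_mul_apply, h (τ k), mul_zero]
  intro h1
  apply hk
  rw [hτ, Equiv.swap_apply_eq_iff, Equiv.swap_apply_left] at h1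
  exact h1

/-- `H_{kl}(θ)` -/
def hk2 (k l : ι) (θ : Fˣ) : GL ι F := mn 1 (fun i => if i = k then θ else if i = l then θ⁻¹ else 1)

theorem hk2_mem {M : Subgroup (GL ι F)} (hM : HasMon M) {k l : ι} (hkl : k ≠ l) (θ : Fˣ) :
    hk2 k l θ ∈ M := hM.diag _ (by rw [prod_two hkl, mul_inv_cancel])

/-- The column of a conjugate. -/
theorem conj_col (g : GL ι F) (d : ι → Fˣ) (o : ι) :
    ((g⁻¹ * mn 1 d * g : GL ι F) : Matrix ι ι F) *ᵥ Pi.single o 1 =
      Pi.single o 1 + ((g⁻¹ : GL ι F) : Matrix ι ι F) *ᵥ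
        (fun i => ((d i : F) - 1) * (g : Matrix ι ι F) i o) := by
  have h1 : (fun i => ((d i : F) - 1) * (g : Matrix ι ι F) i o) =
      (mn 1 d : Matrix ι ι F) *ᵥ ((g : Matrix ι ι F) *ᵥ Pi.single o 1) -
        (g : Matrix ι ι F) *ᵥ Pi.single o 1 := by
    rw [mn_mulVec]
    funext i
    rw [Pi.sub_apply, Equiv.Perm.one_apply, entry_eq]
    ring
  rw [h1, mulVec_sub, inv_mulVec_mulVec, Units.val_mul, Units.val_mul, ← mulVec_mulVec,
    ← mulVec_mulVec]
  abel

/-- A vector with two possibly nonzero coordinates. -/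
theorem mulVec_two (A : Matrix ι ι F) {a b : ι} (hab : a ≠ b) (x y : F) (q : ι) :
    (A *ᵥ (fun i => if i = a then x else if i = b then y else 0)) q = A q a * x + A q b * y := by
  rw [Matrix.mulVec, dotProduct, Finset.sum_eq_add a b hab]
  · simp [hab.symm]
  · intro c _ hc
    simp [hc.1, hc.2]
  · intro h; exact absurd (Finset.mem_univ _) h
  · intro h; exact absurd (Finset.mem_univ _) h

/-- **Two zeros in a column**: then every column meeting `k` vanishes outside `{k, l}`. -/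
theorem supp_of_two_zeros {M : Subgroup (GL ι F)} (hM : HasMon M) (hN : NoFix M) {θ : Fˣ}
    (hθ2 : (θ : F) * θ ≠ 1) (hθ3 : (θ : F) * θ + θ + 1 ≠ 0) {g : GL ι F} (hg : g ∈ M)
    {k l j : ι} (hkl : k ≠ l) (hk : (g : Matrix ι ι F) k j = 0)
    (hl : (g : Matrix ι ι F) l j = 0) {a : ι} (ha : (g : Matrix ι ι F) k a ≠ 0) :
    (∀ i, i ≠ k → i ≠ l → (g : Matrix ι ι F) i a = 0) ∧
      ((θ : F) * θ * (θ * θ) ≠ 1 → (g : Matrix ι ι F) l a = 0) := by
  classical
  set h : ι → Fˣ := fun i => if i = k then θ else if i = l then θ⁻¹ else 1 with hh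
  have hHM : mn 1 h ∈ M := hM.diag h (by rw [hh, prod_two hkl, mul_inv_cancel])
  set y : GL ι F := g⁻¹ * mn 1 h * g with hy
  have hyM : y ∈ M := M.mul_mem (M.mul_mem (M.inv_mem hg) hHM) hg
  -- `y` is monomial
  have hymon : IsMon y := by
    apply hN y hyM j j
    intro i hi
    rw [← entry_eq (y : Matrix ι ι F) i j, hy, conj_col]
    have h0 : (fun i => ((h i : F) - 1) * (g : Matrix ι ι F) i j) = 0 := by
      funext i
      by_cases hik : i = k
      · rw [hik, hk, mul_zero, Pi.zero_apply]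
      · by_cases hil : i = l
        · rw [hil, hl, mul_zero, Pi.zero_apply]
        · simp [hh, hik, hil]
    rw [h0, mulVec_zero, add_zero, Pi.single_apply, if_neg hi]
  obtain ⟨σ, d, hσd⟩ := (isMon_iff y).1 hymon
  have hyv : ∀ v : ι → F, (y : Matrix ι ι F) *ᵥ v = ((g⁻¹ : GL ι F) : Matrix ι ι F) *ᵥ
      (fun i => (h i : F) * ((g : Matrix ι ι F) *ᵥ v) i) := by
    intro v
    rw [hy, Units.val_mul, Units.val_mul, ← mulVec_mulVec, ← mulVec_mulVec, mn_mulVec]
    rfl
  have hgy : ∀ v : ι → F, (g : Matrix ι ι F) *ᵥ ((y : Matrix ι ι F) *ᵥ v) =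
      fun i => (h i : F) * ((g : Matrix ι ι F) *ᵥ v) i := by
    intro v
    rw [hyv, mulVec_inv_mulVec]
  have hyv2 : ∀ v : ι → F, ∀ i, ((y : Matrix ι ι F) *ᵥ v) i = (d i : F) * v (σ i) := by
    intro v i
    rw [hσd, mn_mulVec]
  -- the cubic relation
  set e : F := 1 + θ + ((θ⁻¹ : Fˣ) : F) with he
  have he0 : e ≠ 0 := by
    intro h0
    apply hθ3
    have : (θ : F) * e = θ * θ + θ + 1 := by
      rw [he, mul_add, mul_add, Units.mul_inv]
      ring
    rw [← this, h0, mul_zero]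
  have hcub : ∀ i, (h i : F) * ((h i : F) * (h i : F)) + e * h i =
      e * ((h i : F) * (h i : F)) + 1 := by
    intro i
    by_cases hik : i = k
    · have : (h i : F) = θ := by simp [hh, hik]
      rw [this, he]
      have h1 : (θ : F) * ((θ⁻¹ : Fˣ) : F) = 1 := Units.mul_inv θ
      linear_combination (1 - (θ : F)) * h1
    · by_cases hil : i = l
      · have : (h i : F) = ((θ⁻¹ : Fˣ) : F) := by
          simp [hh, hil, hkl.symm]
        rw [this, he]
        have h1 : (θ : F) * ((θ⁻¹ : Fˣ) : F) = 1 := Units.mul_inv θ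
        linear_combination (1 - ((θ⁻¹ : Fˣ) : F)) * h1
      · have : (h i : F) = 1 := by simp [hh, hik, hil]
        rw [this]
        ring
  have hrel : ∀ v : ι → F, (y : Matrix ι ι F) *ᵥ ((y : Matrix ι ι F) *ᵥ ((y : Matrix ι ι F) *ᵥ v)) +
      e • ((y : Matrix ι ι F) *ᵥ v) = e • ((y : Matrix ι ι F) *ᵥ ((y : Matrix ι ι F) *ᵥ v)) + v := by
    intro v
    have h1 : (g : Matrix ι ι F) *ᵥ ((y : Matrix ι ι F) *ᵥ ((y : Matrix ι ι F) *ᵥ
        ((y : Matrix ι ι F) *ᵥ v)) + e • ((y : Matrix ι ι F) *ᵥ v)) = (g : Matrix ι ι F) *ᵥ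
        (e • ((y : Matrix ι ι F) *ᵥ ((y : Matrix ι ι F) *ᵥ v)) + v) := by
      rw [mulVec_add, mulVec_add, mulVec_smul, mulVec_smul, hgy, hgy, hgy]
      funext i
      simp only [Pi.add_apply, Pi.smul_apply, smul_eq_mul]
      linear_combination (((g : Matrix ι ι F) *ᵥ v) i) * hcub i
    have h2 := congrArg (fun w => ((g⁻¹ : GL ι F) : Matrix ι ι F) *ᵥ w) h1
    simp only [inv_mulVec_mulVec] at h2
    exact h2
  have hσ : ∀ i, σ (σ i) = i := by
    intro i
    by_contra hne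
    have hne1 : σ i ≠ i := by
      intro h1
      apply hne
      rw [h1, h1]
    have hne2 : σ (σ i) ≠ σ i := fun h1 => hne1 (σ.injective h1)
    have hne3 : σ (σ (σ i)) ≠ σ (σ i) := fun h1 => hne2 (σ.injective h1)
    have h1 := congrFun (hrel (Pi.single (σ (σ i)) 1)) i
    simp only [Pi.add_apply, Pi.smul_apply, smul_eq_mul, hyv2, Pi.single_apply, if_neg hne3,
      if_neg hne2.symm, if_pos, mul_zero, zero_add, mul_one] at h1
    rw [if_neg (Ne.symm hne), add_zero] at h1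
    exact mul_ne_zero he0 (mul_ne_zero (d i).ne_zero (d (σ i)).ne_zero) h1.symm
  -- squares
  have hsq : ∀ i, (h i : F) * (h i : F) * (g : Matrix ι ι F) i a =
      (d a * d (σ a) : F) * (g : Matrix ι ι F) i a := by
    intro i
    have h1 : (y : Matrix ι ι F) *ᵥ ((y : Matrix ι ι F) *ᵥ Pi.single a 1) =
        (d a * d (σ a) : F) • Pi.single a 1 := by
      funext r
      rw [hyv2, hyv2, hσ, Pi.smul_apply, smul_eq_mul, Pi.single_apply]
      by_cases hr : r = a
      · subst hr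
        rw [if_pos rfl]
        ring
      · rw [if_neg hr]
        ring
    have h2 := congrFun (congrArg (fun w => (g : Matrix ι ι F) *ᵥ w) h1) i
    simp only [hgy, mulVec_smul, Pi.smul_apply, smul_eq_mul, entry_eq] at h2
    rw [← h2]
    ring
  have hc : (d a * d (σ a) : F) = θ * θ := by
    have h1 := hsq k
    have h2 : (h k : F) = θ := by simp [hh]
    rw [h2] at h1
    exact (mul_right_cancel₀ ha h1).symm
  refine ⟨fun i hik hil => ?_, fun hθ4 => ?_⟩
  · by_contra hi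
    have h1 := hsq i
    have h2 : (h i : F) = 1 := by simp [hh, hik, hil]
    rw [h2, hc, one_mul] at h1
    exact hθ2 (mul_right_cancel₀ hi h1).symm
  · by_contra hi
    have h1 := hsq l
    have h2 : (h l : F) = ((θ⁻¹ : Fˣ) : F) := by simp [hh, hkl.symm]
    rw [h2, hc] at h1
    have h3 := mul_right_cancel₀ hi h1
    apply hθ4
    have h4 : (θ : F) * ((θ⁻¹ : Fˣ) : F) = 1 := Units.mul_inv θ
    linear_combination (-((θ : F) * θ)) * h3 + ((θ : F) * ((θ⁻¹ : Fˣ) : F) + 1) * h4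

theorem exists_row_ne_zero (g : GL ι F) (k : ι) : ∃ a, (g : Matrix ι ι F) k a ≠ 0 := by
  by_contra hc
  push Not at hc
  have h1 : ((g * g⁻¹ : GL ι F) : Matrix ι ι F) k k = 1 := by
    rw [mul_inv_cancel, Units.val_one, Matrix.one_apply_eq]
  rw [Units.val_mul, Matrix.mul_apply, Finset.sum_eq_zero fun i _ => by rw [hc i, zero_mul]] at h1
  exact zero_ne_one h1

/-- The zeros of a vector. -/
noncomputable def zs (v : ι → F) : Finset ι := by
  classical exact Finset.univ.filter fun i => v i = 0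

theorem mem_zs {v : ι → F} {i : ι} : i ∈ zs v ↔ v i = 0 := by
  classical
  simp [zs]

/-- At most two zeros in each column. -/
theorem zeros_le_two {M : Subgroup (GL ι F)} (hM : HasMon M) (hN : NoFix M) {θ : Fˣ}
    (hθ2 : (θ : F) * θ ≠ 1) (hθ3 : (θ : F) * θ + θ + 1 ≠ 0) {g : GL ι F} (hg : g ∈ M)
    (hmon : ¬ IsMon g) (j : ι) :
    (zs fun i => (g : Matrix ι ι F) i j).card ≤ 2 := by
  by_contra hcon
  push Not at hcon
  obtain ⟨k, l, m, hk, hl, hm, hkl, hkm, hlm⟩ := Finset.two_lt_card_iff.1 hcon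
  rw [mem_zs] at hk hl hm
  obtain ⟨a, ha⟩ := exists_row_ne_zero g k
  have h1 := (supp_of_two_zeros hM hN hθ2 hθ3 hg hkl hk hl ha).1
  have h2 := (supp_of_two_zeros hM hN hθ2 hθ3 hg hkm hk hm ha).1
  apply hmon
  apply hN g hg k a
  intro i hi
  by_cases hil : i = l
  · exact h2 i hi (by rw [hil]; exact hlm)
  · exact h1 i hi hil

/-- At most one zero in each column. -/
theorem zeros_le_one {M : Subgroup (GL ι F)} (hM : HasMon M) (hN : NoFix M) {θ : Fˣ}
    (hθ2 : (θ : F) * θ ≠ 1) (hθ3 : (θ : F) * θ + θ + 1 ≠ 0) (hθ4 : (θ : F) * θ * (θ * θ) ≠ 1)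
    {g : GL ι F} (hg : g ∈ M) (hmon : ¬ IsMon g) (j : ι) :
    (zs fun i => (g : Matrix ι ι F) i j).card ≤ 1 := by
  by_contra hcon
  push Not at hcon
  obtain ⟨k, hk, l, hl, hkl⟩ := Finset.one_lt_card.1 hcon
  rw [mem_zs] at hk hl
  obtain ⟨a, ha⟩ := exists_row_ne_zero g k
  obtain ⟨h1, h2⟩ := supp_of_two_zeros hM hN hθ2 hθ3 hg hkl hk hl ha
  apply hmon
  apply hN g hg k a
  intro i hi
  by_cases hil : i = l
  · rw [hil]
    exact h2 hθ4
  · exact h1 i hi hil

end Cfsg.Agent.H871
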