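import Cfsg.Agent.H953.Sympl
import Cfsg.Agent.H912.Bd1

/-!
# Weights of abelian subgroups preserving a bilinear form

`K` algebraically closed, `ρ : L → End(V)` preserves the non-degenerate bilinear form `B`, `A` abelian of exponent
prime to `char K`, `wt ρ A χ` the weight spaces (`H912.Bd`).

* `dual_nd`, `wt_inv_ne_bot` : the weight spaces of `χ` and `χ⁻¹` are dual;
* `even_wt` : `B` alternating, `χ² = 1` ⟹ the weight space has even dimension;
* `even_wt_of_inv` : `B` alternating, `t² = 1`, `t` inverts `A` ⟹ all weight spaces have even dimension;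
* `two_mul_card_le_of_even` : orbit bound when all weight spaces have even dimension;
* `two_mul_card_le_of_dual` : orbit bound for self-dual representations;
* `two_mul_prime_le` : `A` elementary abelian, `s` normalises `A`, `s ^ r` centralises `A`, `s` does not: `2 r ≤ dim V`.
-/

set_option autoImplicit false

namespace Cfsg.Agent.H871.Par

open Module Cfsg.Agent.H912.Bd

section Rep

variable {K : Type*} [Field K] {V : Type*} [AddCommGroup V] [Module K V] {L : Type*} [Group L]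
  [FiniteDimensional K V] (ρ : L →* Module.End K V) {A : Subgroup L}
  (hA : ∀ a ∈ A, ∀ b ∈ A, a * b = b * a) {N : ℕ} (hN : (N : K) ≠ 0) (hAN : ∀ a ∈ A, a ^ N = 1)
  (B : LinearMap.BilinForm K V) (hnd : ∀ u, (∀ v, B u v = 0) → u = 0)
  (hinv : ∀ g u v, B (ρ g u) (ρ g v) = B u v)

omit [FiniteDimensional K V] in
include hinv in
theorem wt_orth {χ ψ : A → K} {v w : V} (hv : v ∈ wt ρ A χ) (hw : w ∈ wt ρ A ψ) (h : B v w ≠ 0) (a : A) :
    χ a * ψ a = 1 := by
  have h1 := hinv a v w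
  rw [mem_wt.1 hv a, mem_wt.1 hw a] at h1
  simp only [map_smul, LinearMap.smul_apply, smul_eq_mul] at h1
  have h2 : (χ a * ψ a - 1) * B v w = 0 := by linear_combination h1
  exact sub_eq_zero.1 ((mul_eq_zero.1 h2).resolve_right h)

include hA hN hAN hnd hinv in
theorem dual_nd [IsAlgClosed K] {χ : A → K} {v : V} (hv : v ∈ wt ρ A χ)
    (h : ∀ ψ : A → K, (∀ a, χ a * ψ a = 1) → ∀ w ∈ wt ρ A ψ, B v w = 0) : v = 0 := by
  apply hnd
  intro w
  have h1 : (⊤ : Submodule K V) ≤ LinearMap.ker (B v) := by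
    rw [← iSup_wt ρ hA hN hAN]
    refine iSup_le fun ψ => ?_
    intro u hu
    rw [LinearMap.mem_ker]
    by_contra h0
    exact h0 (h ψ (wt_orth ρ B hinv hv hu h0) u hu)
  exact h1 (Submodule.mem_top (x := w))

include hA hN hAN hnd hinv in
/-- the dual weight -/
theorem wt_inv_ne_bot [IsAlgClosed K] {χ : A → K} (hχ : wt ρ A χ ≠ ⊥) : wt ρ A (fun a => (χ a)⁻¹) ≠ ⊥ := by
  obtain ⟨v, hv, hv0⟩ := Submodule.exists_mem_ne_zero_of_ne_bot hχ
  intro hb
  apply hv0
  apply dual_nd ρ hA hN hAN B hnd hinv hv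
  intro ψ hψ w hw
  have h1 : ψ = fun a => (χ a)⁻¹ := by
    funext a
    exact eq_inv_of_mul_eq_one_right (hψ a)
  rw [h1, hb, Submodule.mem_bot] at hw
  rw [hw, map_zero]

include hA hN hAN hnd hinv in
/-- **Parity** -/
theorem even_wt [IsAlgClosed K] (hAlt : B.IsAlt) {χ : A → K} (hχ : ∀ a, χ a * χ a = 1) :
    Even (finrank K (wt ρ A χ)) := by
  apply H953.even_finrank_of_alt (B.restrict (wt ρ A χ)) (fun v => hAlt v)
  intro u hu
  apply Subtype.ext
  apply dual_nd ρ hA hN hAN B hnd hinv u.2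
  intro ψ hψ w hw
  have h1 : ψ = χ := by
    funext a
    have h2 := hψ a
    have h3 := hχ a
    have h4 : χ a ≠ 0 := fun h0 => by rw [h0, zero_mul] at h3; exact zero_ne_one h3
    exact mul_left_cancel₀ h4 (h2.trans h3.symm)
  rw [h1] at hw
  exact hu ⟨w, hw⟩

include hA hN hAN hnd hinv in
/-- **Inversion parity** -/
theorem even_wt_of_inv [IsAlgClosed K] (hAlt : B.IsAlt) (h2 : (2 : K) ≠ 0) {t : L} (ht : t * t = 1)
    (htA : ∀ a ∈ A, t * a * t⁻¹ = a⁻¹) {χ : A → K} (hχ : wt ρ A χ ≠ ⊥) :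
    Even (finrank K (wt ρ A χ)) := by
  have hmul := wt_mul ρ hχ
  have hone := wt_one ρ hχ
  have hne : ∀ a, χ a ≠ 0 := by
    intro a h0
    have := hmul a a⁻¹
    rw [mul_inv_cancel, hone, h0, zero_mul] at this
    exact one_ne_zero this
  have htt : ∀ v, ρ t (ρ t v) = v := by
    intro v
    rw [← Module.End.mul_apply, ← map_mul, ht, map_one, Module.End.one_apply]
  have hskew : ∀ v w, B v w = - B w v := fun v w => (hAlt.neg_eq w v).symm
  have htwt : ∀ ψ : A → K, (∀ a, χ a * ψ a = 1) → ∀ w ∈ wt ρ A ψ, ρ t w ∈ wt ρ A χ := by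
    intro ψ hψ w hw
    rw [mem_wt]
    intro a
    have h3 : (a : L) * t = t * (a : L)⁻¹ := by
      rw [← htA a a.2]
      have h4 : t⁻¹ = t := inv_eq_of_mul_eq_one_left ht
      rw [h4, ← mul_assoc, ← mul_assoc, ht, one_mul]
    rw [← Module.End.mul_apply, ← map_mul, h3, map_mul, Module.End.mul_apply]
    have h5 := mem_wt.1 hw a⁻¹
    rw [Subgroup.coe_inv] at h5
    rw [h5, map_smul]
    congr 1
    have h6 := hψ a⁻¹
    have h7 := hmul a a⁻¹
    rw [mul_inv_cancel, hone] at h7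
    have h8 : χ a⁻¹ ≠ 0 := hne _
    exact mul_left_cancel₀ h8 (by rw [h6, mul_comm, ← h7])
  let B' : LinearMap.BilinForm K V := B.compl₂ (ρ t)
  have hB' : ∀ v w, B' v w = B v (ρ t w) := fun v w => rfl
  have halt : B'.IsAlt := by
    intro v
    rw [hB']
    have h3 : B v (ρ t v) = - B v (ρ t v) := by
      calc B v (ρ t v) = B (ρ t v) (ρ t (ρ t v)) := (hinv t _ _).symm
        _ = B (ρ t v) v := by rw [htt]
        _ = - B v (ρ t v) := hskew _ _
    have h4 : (2 : K) * B v (ρ t v) = 0 := by linear_combination h3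
    exact (mul_eq_zero.1 h4).resolve_left h2
  apply H953.even_finrank_of_alt (B'.restrict (wt ρ A χ)) (fun v => halt v)
  intro u hu
  apply Subtype.ext
  apply dual_nd ρ hA hN hAN B hnd hinv u.2
  intro ψ hψ w hw
  have h3 := hu ⟨ρ t w, htwt ψ hψ w hw⟩
  have h4 : B (u : V) (ρ t (ρ t w)) = 0 := h3
  rwa [htt] at h4

include hA hN hAN in
/-- orbit bound when all multiplicities are even -/
theorem two_mul_card_le_of_even [IsAlgClosed K] {c : L} (hcA : c ∈ A) (hc : ρ c ≠ 1) (S : Finset L)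
    (hS : ∀ s ∈ S, ∀ a ∈ A, s * a * s⁻¹ ∈ A)
    (hSc : ∀ s ∈ S, ∀ t ∈ S, s ≠ t → ∃ a ∈ A, (s * a * s⁻¹) * (t * a * t⁻¹)⁻¹ = c)
    (hev : ∀ χ : A → K, wt ρ A χ ≠ ⊥ → Even (finrank K (wt ρ A χ))) : 2 * S.card ≤ finrank K V := by
  obtain ⟨χ, hχ, -, hle⟩ := card_mul_finrank_le ρ hA hN hAN hcA hc S hS hSc
  obtain ⟨k, hk⟩ := hev χ hχ
  have hpos : 1 ≤ finrank K (wt ρ A χ) := by
    have : Nontrivial (wt ρ A χ) := Submodule.nontrivial_iff_ne_bot.2 hχ
    exact finrank_pos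
  calc 2 * S.card = S.card * 2 := mul_comm _ _
    _ ≤ S.card * finrank K (wt ρ A χ) := Nat.mul_le_mul_left _ (by omega)
    _ ≤ finrank K V := hle

include hA hN hAN in
/-- a family of distinct weights -/
theorem sum_le_of_injective {ι : Type*} [Fintype ι] (tw : ι → (A → K)) (hinj : Function.Injective tw) {d : ℕ}
    (hd : ∀ i, d ≤ finrank K (wt ρ A (tw i))) : Fintype.card ι * d ≤ finrank K V := by
  have hind : iSupIndep (fun i => wt ρ A (tw i)) := (indep_wt ρ hA hN hAN).comp hinj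
  calc Fintype.card ι * d = ∑ _i : ι, d := by rw [Finset.sum_const, Finset.card_univ, smul_eq_mul]
    _ ≤ ∑ i, finrank K (wt ρ A (tw i)) := Finset.sum_le_sum fun i _ => hd i
    _ ≤ finrank K V := sum_finrank_le hind

include hA hN hAN hnd hinv in
/-- **Self-dual orbit bound** -/
theorem two_mul_card_le_of_dual [IsAlgClosed K] {c : L} (hcA : c ∈ A) (hc : ρ c ≠ 1) (S : Finset L)
    (hS : ∀ s ∈ S, ∀ a ∈ A, s * a * s⁻¹ ∈ A)
    (hSc : ∀ s ∈ S, ∀ t ∈ S, s ≠ t → ∃ a ∈ A, (s * a * s⁻¹) * (t * a * t⁻¹)⁻¹ = c)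
    (hSd : ∀ s ∈ S, ∀ t ∈ S, ∃ a ∈ A, (s * a * s⁻¹) * (t * a * t⁻¹) = c) : 2 * S.card ≤ finrank K V := by
  obtain ⟨χ, hχ, hχc⟩ := exists_wt ρ hA hN hAN (c := ⟨c, hcA⟩) hc
  have hmul := wt_mul ρ hχ
  have hone := wt_one ρ hχ
  have hne : ∀ a, χ a ≠ 0 := by
    intro a h0
    have := hmul a a⁻¹
    rw [mul_inv_cancel, hone, h0, zero_mul] at this
    exact one_ne_zero this
  let tw : S ⊕ S → (A → K) := Sum.elim
    (fun s a => χ ⟨s * a * (s : L)⁻¹, hS s s.2 a a.2⟩) (fun s a => (χ ⟨s * a * (s : L)⁻¹, hS s s.2 a a.2⟩)⁻¹)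
  have key : ∀ s t : S, s ≠ t → ∃ a : A, χ ⟨s * a * (s : L)⁻¹, hS s s.2 a a.2⟩ ≠ χ ⟨t * a * (t : L)⁻¹, hS t t.2 a a.2⟩ := by
    intro s t hst
    obtain ⟨a, ha, hac⟩ := hSc s s.2 t t.2 (fun h => hst (Subtype.ext h))
    refine ⟨⟨a, ha⟩, fun h1 => hχc ?_⟩
    have h2 : (⟨s * a * (s : L)⁻¹, hS s s.2 a ha⟩ : A) = ⟨c, hcA⟩ * ⟨t * a * (t : L)⁻¹, hS t t.2 a ha⟩ := by
      apply Subtype.ext
      change (s : L) * a * (s : L)⁻¹ = c * (t * a * (t : L)⁻¹)
      rw [← hac]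
      group
    rw [h2, hmul] at h1
    exact mul_right_cancel₀ (hne _) (by rw [h1, one_mul])
  have key2 : ∀ s t : S, ∃ a : A, χ ⟨s * a * (s : L)⁻¹, hS s s.2 a a.2⟩ ≠
      (χ ⟨t * a * (t : L)⁻¹, hS t t.2 a a.2⟩)⁻¹ := by
    intro s t
    obtain ⟨a, ha, hac⟩ := hSd s s.2 t t.2
    refine ⟨⟨a, ha⟩, fun h1 => hχc ?_⟩
    have h2 : (⟨c, hcA⟩ : A) = ⟨s * a * (s : L)⁻¹, hS s s.2 a ha⟩ * ⟨t * a * (t : L)⁻¹, hS t t.2 a ha⟩ := by
      apply Subtype.ext
      change c = (s : L) * a * (s : L)⁻¹ * (t * a * (t : L)⁻¹)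
      rw [hac]
    rw [h2, hmul, h1, inv_mul_cancel₀ (hne _)]
  have hinj : Function.Injective tw := by
    rintro (s | s) (t | t) hst
    · congr 1
      by_contra hne'
      obtain ⟨a, ha⟩ := key s t hne'
      exact ha (congrFun hst a)
    · exfalso
      obtain ⟨a, ha⟩ := key2 s t
      exact ha (congrFun hst a)
    · exfalso
      obtain ⟨a, ha⟩ := key2 t s
      exact ha (congrFun hst a).symm
    · congr 1
      by_contra hne'
      obtain ⟨a, ha⟩ := key s t hne'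
      exact ha (inv_injective (congrFun hst a))
  have hd : ∀ i, 1 ≤ finrank K (wt ρ A (tw i)) := by
    have h1 : ∀ s : S, wt ρ A (fun a => χ ⟨s * a * (s : L)⁻¹, hS s s.2 a a.2⟩) ≠ ⊥ := by
      intro s h0
      have h2 := finrank_wt_le ρ (χ := χ) (hS s s.2)
      rw [h0, finrank_bot] at h2
      have : Nontrivial (wt ρ A χ) := Submodule.nontrivial_iff_ne_bot.2 hχ
      have h3 : 0 < finrank K (wt ρ A χ) := finrank_pos
      omega
    rintro (s | s)
    · have : Nontrivial (wt ρ A (tw (Sum.inl s))) := Submodule.nontrivial_iff_ne_bot.2 (h1 s)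
      exact finrank_pos
    · have : Nontrivial (wt ρ A (tw (Sum.inr s))) :=
        Submodule.nontrivial_iff_ne_bot.2 (wt_inv_ne_bot ρ hA hN hAN B hnd hinv (h1 s))
      exact finrank_pos
  have := sum_le_of_injective ρ hA hN hAN tw hinj hd
  rw [Fintype.card_sum, Fintype.card_coe] at this
  omega

omit [FiniteDimensional K V] in
/-- iterated conjugation -/
theorem conj_pow_mem {s : L} (hs : ∀ a ∈ A, s * a * s⁻¹ ∈ A) (i : ℕ) : ∀ a ∈ A, s ^ i * a * (s ^ i)⁻¹ ∈ A := by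
  induction i with
  | zero => intro a ha; simpa using ha
  | succ i ih =>
    intro a ha
    have : s ^ (i + 1) * a * (s ^ (i + 1))⁻¹ = s * (s ^ i * a * (s ^ i)⁻¹) * s⁻¹ := by
      rw [pow_succ']; group
    rw [this]
    exact hs _ (ih a ha)

include hA hN hAN in
/-- **Orbits of prime length.** `s` normalises `A`, `s ^ r` centralises `A`, `s` does not centralise the image of `A`:
`r d ≤ dim V` if all weight spaces have dimension at least `d`. -/
theorem prime_mul_le [IsAlgClosed K] {s : L} (hs : ∀ a ∈ A, s * a * s⁻¹ ∈ A) {r : ℕ} (hr : r.Prime)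
    (hsr : ∀ a ∈ A, s ^ r * a * (s ^ r)⁻¹ = a) {a₀ : L} (ha₀ : a₀ ∈ A) (hs1 : ρ (s * a₀ * s⁻¹ * a₀⁻¹) ≠ 1) {d : ℕ}
    (hd : ∀ χ : A → K, wt ρ A χ ≠ ⊥ → d ≤ finrank K (wt ρ A χ)) : r * d ≤ finrank K V := by
  have hcA : s * a₀ * s⁻¹ * a₀⁻¹ ∈ A := A.mul_mem (hs a₀ ha₀) (A.inv_mem ha₀)
  obtain ⟨χ, hχ, hχc⟩ := exists_wt ρ hA hN hAN (c := ⟨_, hcA⟩) hs1
  have hmul := wt_mul ρ hχ
  have hone := wt_one ρ hχ
  let f : (A → K) → (A → K) := fun ψ a => ψ ⟨s * a * s⁻¹, hs a a.2⟩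
  have hf : ∀ (i : ℕ) (ψ : A → K) (a : A), (f^[i] ψ) a = ψ ⟨s ^ i * a * (s ^ i)⁻¹, conj_pow_mem hs i a a.2⟩ := by
    intro i
    induction i with
    | zero =>
      intro ψ a
      rw [Function.iterate_zero, id]
      congr 1
      apply Subtype.ext
      simp
    | succ i ih =>
      intro ψ a
      rw [Function.iterate_succ_apply, ih]
      change ψ _ = ψ _
      congr 1
      apply Subtype.ext
      change s * (s ^ i * a * (s ^ i)⁻¹) * s⁻¹ = s ^ (i + 1) * a * (s ^ (i + 1))⁻¹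
      rw [pow_succ']
      group
  have hper : Function.IsPeriodicPt f r χ := by
    change f^[r] χ = χ
    funext a
    rw [hf]
    congr 1
    exact Subtype.ext (hsr a a.2)
  have hnot : ¬ Function.IsPeriodicPt f 1 χ := by
    intro h
    have h1 : f^[1] χ = χ := h
    rw [Function.iterate_one] at h1
    have h2 : χ ⟨s * a₀ * s⁻¹, hs a₀ ha₀⟩ = χ ⟨a₀, ha₀⟩ := congrFun h1 ⟨a₀, ha₀⟩
    apply hχc
    have h3 : (⟨s * a₀ * s⁻¹ * a₀⁻¹, hcA⟩ : A) = ⟨s * a₀ * s⁻¹, hs a₀ ha₀⟩ * (⟨a₀, ha₀⟩ : A)⁻¹ := rfl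
    rw [h3, hmul, h2, ← hmul, mul_inv_cancel, hone]
  have hmp : Function.minimalPeriod f χ = r := by
    rcases (Nat.dvd_prime hr).1 hper.minimalPeriod_dvd with h | h
    · exfalso
      apply hnot
      have := Function.isPeriodicPt_minimalPeriod f χ
      rwa [h] at this
    · exact h
  have hinj : Function.Injective (fun i : Fin r => f^[(i : ℕ)] χ) := by
    intro i j hij
    have := Function.iterate_injOn_Iio_minimalPeriod (f := f) (x := χ) (by rw [hmp]; exact i.2)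
      (by rw [hmp]; exact j.2) hij
    exact Fin.ext this
  have hne : ∀ i : ℕ, wt ρ A (f^[i] χ) ≠ ⊥ := by
    intro i
    induction i with
    | zero => exact hχ
    | succ i ih =>
      rw [Function.iterate_succ_apply']
      intro h0
      have h2 := finrank_wt_le ρ (χ := f^[i] χ) hs
      have h4 : (fun a : A => (f^[i] χ) ⟨s * a * s⁻¹, hs a a.2⟩) = f (f^[i] χ) := rfl
      rw [h4, h0, finrank_bot] at h2
      have : Nontrivial (wt ρ A (f^[i] χ)) := Submodule.nontrivial_iff_ne_bot.2 ih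
      have h3 : 0 < finrank K (wt ρ A (f^[i] χ)) := finrank_pos
      omega
  have := sum_le_of_injective ρ hA hN hAN (fun i : Fin r => f^[(i : ℕ)] χ) hinj (fun i => hd _ (hne i))
  rwa [Fintype.card_fin] at this

end Rep

end Cfsg.Agent.H871.Par
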