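import Cfsg.Agent.H871.Par1
import Cfsg.Agent.H912.Bd3
import Cfsg.Agent.H915.LD

/-!
# Parity bounds for symplectic and self-dual projective representations

`PD F n T` : a projective representation of `T` of degree `n` over the algebraic closure of `F` with scalars `±1`, fixing
a non-degenerate bilinear form.  `PA F n T` : the form is alternating.

* `pa_of_fixA` : `FixA P`, `Soc P ≃* T`, `2 ≠ 0` ⟹ `PA F n T`;  `pd_of_sd` : the same for `SD P`;
* `PA.elem` : `E ≤ T` elementary abelian of order at least 8, its involutions conjugate in `T`, `y ∈ N(E)` of odd prime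
  order `r` modulo `C(E)` : `2 r ≤ n`;
* `PA.quat` : `E` an abelian `r`-subgroup (`r` odd), `t = i ^ 2 = j ^ 2 = [i, j]` inverts `E`, `S` acts freely : `2 |S| ≤ n`;
* `PD.free`, `PD.prime` : `S` and `-1` act freely on `E` : `2 |S| ≤ n`.
-/

set_option autoImplicit false

universe u v w

namespace Cfsg.Agent.H871.Par

open Module Cfsg.Agent.H912.Bd Cfsg Cfsg.Geo Matrix

/-- A self-dual projective representation with scalars `±1`. -/
def PD (F : Type u) [Field F] (n : ℕ) (T : Type v) [Group T] : Prop :=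
  ∃ (L : Type u) (_ : Group L) (π : L →* T) (V : Type u) (_ : AddCommGroup V) (_ : Module (AlgebraicClosure F) V)
    (_ : FiniteDimensional (AlgebraicClosure F) V) (ρ : L →* Module.End (AlgebraicClosure F) V)
    (B : LinearMap.BilinForm (AlgebraicClosure F) V),
    Function.Surjective π ∧ Function.Injective ρ ∧ (∀ x, π x = 1 → ρ x = 1 ∨ ρ x = -1) ∧
    (∀ u, (∀ v, B u v = 0) → u = 0) ∧ (∀ g u v, B (ρ g u) (ρ g v) = B u v) ∧
    Module.finrank (AlgebraicClosure F) V = n

/-- A symplectic projective representation with scalars `±1`. -/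
def PA (F : Type u) [Field F] (n : ℕ) (T : Type v) [Group T] : Prop :=
  ∃ (L : Type u) (_ : Group L) (π : L →* T) (V : Type u) (_ : AddCommGroup V) (_ : Module (AlgebraicClosure F) V)
    (_ : FiniteDimensional (AlgebraicClosure F) V) (ρ : L →* Module.End (AlgebraicClosure F) V)
    (B : LinearMap.BilinForm (AlgebraicClosure F) V),
    Function.Surjective π ∧ Function.Injective ρ ∧ (∀ x, π x = 1 → ρ x = 1 ∨ ρ x = -1) ∧
    (∀ u, (∀ v, B u v = 0) → u = 0) ∧ (∀ g u v, B (ρ g u) (ρ g v) = B u v) ∧ B.IsAlt ∧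
    Module.finrank (AlgebraicClosure F) V = n

variable {F : Type u} [Field F] {n : ℕ} {T : Type v} [Group T]

theorem PA.pd (h : PA F n T) : PD F n T := by
  obtain ⟨L, _, π, V, _, _, _, ρ, B, h1, h2, h3, h4, h5, -, h6⟩ := h
  exact ⟨L, inferInstance, π, V, inferInstance, inferInstance, inferInstance, ρ, B, h1, h2, h3, h4, h5, h6⟩

theorem PD.sub (h : PD F n T) {T' : Type w} [Group T'] (f : T' →* T) (hf : Function.Injective f) : PD F n T' := by
  obtain ⟨L, _, π, V, _, _, _, ρ, B, hπ, h2, h3, h4, h5, h6⟩ := h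
  let L' : Subgroup L := f.range.comap π
  let e := MonoidHom.ofInjective hf
  let π' : L' →* T' := e.symm.toMonoidHom.comp ((π.comp L'.subtype).codRestrict f.range (fun x => x.2))
  have hπ' : ∀ x : L', f (π' x) = π x := by
    intro x
    change f (e.symm _) = _
    rw [← MonoidHom.ofInjective_apply hf]
    exact congrArg Subtype.val (e.apply_symm_apply _)
  refine ⟨L', inferInstance, π', V, inferInstance, inferInstance, inferInstance, ρ.comp L'.subtype, B, ?_, h2.comp L'.subtype_injective, ?_, h4,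
    fun g u v => h5 g u v, h6⟩
  · intro t
    obtain ⟨x, hx⟩ := hπ (f t)
    exact ⟨⟨x, ⟨t, hx.symm⟩⟩, hf (by rw [hπ']; exact hx)⟩
  · intro x hx
    exact h3 x (by rw [← hπ' x, hx, map_one])

theorem PA.sub (h : PA F n T) {T' : Type w} [Group T'] (f : T' →* T) (hf : Function.Injective f) : PA F n T' := by
  obtain ⟨L, _, π, V, _, _, _, ρ, B, hπ, h2, h3, h4, h5, ha, h6⟩ := h
  let L' : Subgroup L := f.range.comap π
  let e := MonoidHom.ofInjective hf
  let π' : L' →* T' := e.symm.toMonoidHom.comp ((π.comp L'.subtype).codRestrict f.range (fun x => x.2))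
  have hπ' : ∀ x : L', f (π' x) = π x := by
    intro x
    change f (e.symm _) = _
    rw [← MonoidHom.ofInjective_apply hf]
    exact congrArg Subtype.val (e.apply_symm_apply _)
  refine ⟨L', inferInstance, π', V, inferInstance, inferInstance, inferInstance, ρ.comp L'.subtype, B, ?_, h2.comp L'.subtype_injective, ?_, h4,
    fun g u v => h5 g u v, ha, h6⟩
  · intro t
    obtain ⟨x, hx⟩ := hπ (f t)
    exact ⟨⟨x, ⟨t, hx.symm⟩⟩, hf (by rw [hπ']; exact hx)⟩
  · intro x hx
    exact h3 x (by rw [← hπ' x, hx, map_one])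

theorem PA.congr (h : PA F n T) {T' : Type w} [Group T'] (e : T' ≃* T) : PA F n T' :=
  h.sub e.toMonoidHom e.injective

theorem PD.congr (h : PD F n T) {T' : Type w} [Group T'] (e : T' ≃* T) : PD F n T' :=
  h.sub e.toMonoidHom e.injective

/-! ### the kernel -/

section kernel

variable {L : Type u} [Group L] {π : L →* T} {V : Type u} [AddCommGroup V] [Module (AlgebraicClosure F) V]
  {ρ : L →* Module.End (AlgebraicClosure F) V} (hρ : Function.Injective ρ)
  (hker : ∀ x, π x = 1 → ρ x = 1 ∨ ρ x = -1)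

include hρ hker in
theorem ker_central (x : L) (hx : π x = 1) (y : L) : x * y = y * x := by
  apply hρ
  rw [map_mul, map_mul]
  rcases hker x hx with h | h <;> rw [h] <;> simp

include hρ hker in
theorem ker_sq {x : L} (hx : π x = 1) : x * x = 1 := by
  apply hρ
  rw [map_mul, map_one]
  rcases hker x hx with h | h <;> rw [h] <;> simp

include hρ hker in
theorem ker_unique {x y : L} (hx : π x = 1) (hy : π y = 1) (hx1 : x ≠ 1) (hy1 : y ≠ 1) : x = y := by
  apply hρ
  rcases hker x hx with h | h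
  · exact absurd (hρ (h.trans (map_one ρ).symm)) hx1
  rcases hker y hy with h' | h'
  · exact absurd (hρ (h'.trans (map_one ρ).symm)) hy1
  rw [h, h']

include hρ hker in
theorem ker_coprime {r : ℕ} (hr : r.Prime) (hr2 : r ≠ 2) : (Nat.card π.ker).Coprime r := by
  have h1 : IsPGroup 2 π.ker := by
    intro x
    refine ⟨1, Subtype.ext ?_⟩
    rw [pow_one, pow_two]
    exact ker_sq hρ hker x.2
  have hfin : Finite π.ker := by
    classical
    apply Finite.of_injective (β := Bool) (fun x : π.ker => decide ((x : L) = 1))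
    intro x y hxy
    by_cases hx : (x : L) = 1
    · have hy : (y : L) = 1 := by simpa [hx] using hxy
      exact Subtype.ext (hx.trans hy.symm)
    · have hy : (y : L) ≠ 1 := by simpa [hx] using hxy
      exact Subtype.ext (ker_unique hρ hker x.2 y.2 hx hy)
  have : Fact (Nat.Prime 2) := ⟨Nat.prime_two⟩
  obtain ⟨k, hk⟩ := IsPGroup.iff_card.1 h1
  rw [hk]
  exact Nat.Coprime.pow_left k ((Nat.coprime_primes Nat.prime_two hr).2 hr2.symm)

end kernel

/-! ### elementary abelian 2-subgroups -/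

theorem exists_three {E : Subgroup T} (h : 4 < Nat.card E) :
    ∃ a ∈ E, ∃ b ∈ E, ∃ c ∈ E, a ≠ 1 ∧ b ≠ 1 ∧ b ≠ a ∧ c ≠ 1 ∧ c ≠ a ∧ c ≠ b ∧ c ≠ a * b := by
  classical
  have hfin : Finite E := Nat.finite_of_card_ne_zero (by omega)
  have key : ∀ s : Finset T, s.card ≤ 4 → ∃ c ∈ E, c ∉ s := by
    intro s hs
    by_contra hcon
    push Not at hcon
    have h1 : (E : Set T) ⊆ (s : Set T) := fun x hx => hcon x hx
    have h2 := Set.ncard_le_ncard h1 s.finite_toSet
    rw [Set.ncard_coe_finset] at h2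
    have h3 : Nat.card E = (E : Set T).ncard := rfl
    omega
  obtain ⟨a, ha, ha'⟩ := key {1} (by simp)
  obtain ⟨b, hb, hb'⟩ := key {1, a} ((Finset.card_le_two).trans (by omega))
  obtain ⟨c, hc, hc'⟩ := key {1, a, b, a * b} (Finset.card_le_four)
  simp only [Finset.mem_singleton, Finset.mem_insert, not_or] at ha' hb' hc'
  exact ⟨a, ha, b, hb, c, hc, ha', hb'.1, hb'.2, hc'.1, hc'.2.1, hc'.2.2.1, hc'.2.2.2⟩

section lift

variable {L : Type u} [Group L] {π : L →* T} {V : Type u} [AddCommGroup V] [Module (AlgebraicClosure F) V]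
  {ρ : L →* Module.End (AlgebraicClosure F) V} (hρ : Function.Injective ρ)
  (hker : ∀ x, π x = 1 → ρ x = 1 ∨ ρ x = -1)

include hρ hker in
/-- The preimage of `E` is elementary abelian. -/
theorem sq_eq_one (hπ : Function.Surjective π) {E : Subgroup T} (hE : ∀ a ∈ E, a * a = 1)
    (hE8 : ∃ a ∈ E, ∃ b ∈ E, ∃ c ∈ E, a ≠ 1 ∧ b ≠ 1 ∧ b ≠ a ∧ c ≠ 1 ∧ c ≠ a ∧ c ≠ b ∧ c ≠ a * b) (htr : ∀ a ∈ E, ∀ b ∈ E, a ≠ 1 → b ≠ 1 → ∃ g, g * a * g⁻¹ = b) {x : L} (hx : π x ∈ E) :
    x * x = 1 := by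
  have hcen := ker_central hρ hker
  have hsq := @ker_sq _ _ _ _ _ _ π _ _ _ ρ hρ hker
  have hun := @ker_unique _ _ _ _ _ _ π _ _ _ ρ hρ hker
  have hs1 : ∀ y : L, π y ∈ E → π (y * y) = 1 := fun y hy => by rw [map_mul]; exact hE _ hy
  by_contra hcon
  have hx1 : π x ≠ 1 := fun h => hcon (hsq h)
  -- all squares are equal
  have key : ∀ y : L, π y ∈ E → π y ≠ 1 → y * y = x * x := by
    intro y hy hy1
    obtain ⟨g, hg⟩ := htr _ hx _ hy hx1 hy1
    obtain ⟨g', rfl⟩ := hπ g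
    have h1 : π (g' * x * g'⁻¹ * y⁻¹) = 1 := by
      rw [map_mul, map_mul, map_mul, map_inv, map_inv, hg, mul_inv_cancel]
    set z := g' * x * g'⁻¹ * y⁻¹ with hz
    have h2 : z * y = g' * x * g'⁻¹ := by rw [hz]; group
    have h3 : (z * y) * (z * y) = y * y := by
      have h4 := hcen z h1 y
      calc (z * y) * (z * y) = z * (y * z) * y := by group
        _ = z * (z * y) * y := by rw [h4]
        _ = (z * z) * (y * y) := by group
        _ = y * y := by rw [hsq h1, one_mul]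
    have h5 : g' * (x * x) * g'⁻¹ = x * x := by
      rw [← hcen (x * x) (hs1 x hx) g']; group
    rw [← h3, h2]
    calc g' * x * g'⁻¹ * (g' * x * g'⁻¹) = g' * (x * x) * g'⁻¹ := by group
      _ = x * x := h5
  set z := x * x with hz
  have hz1 : π z = 1 := hs1 x hx
  have hzz : z * z = 1 := hsq hz1
  have hzc : ∀ y, z * y = y * z := hcen z hz1
  -- anticommutation
  have anti : ∀ a b : L, π a ∈ E → π b ∈ E → π a ≠ 1 → π b ≠ 1 → π a ≠ π b → a * b = z * (b * a) := by
    intro a b ha hb ha1 hb1 hab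
    have h1 : π (a * b) ≠ 1 := by
      rw [map_mul]
      intro h
      apply hab
      have h2 : π a = (π b)⁻¹ := eq_inv_of_mul_eq_one_left h
      have h3 : (π b)⁻¹ = π b := inv_eq_of_mul_eq_one_left (hE _ hb)
      rw [h2, h3]
    have h4 := key (a * b) (by rw [map_mul]; exact E.mul_mem ha hb) h1
    have h5 := key a ha ha1
    have h6 := key b hb hb1
    have h7 : z * (a * b) = z * (z * (b * a)) := by
      calc z * (a * b) = (z * a) * b := by group
        _ = (a * z) * b := by rw [hzc]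
        _ = a * (a * b * (a * b)) * b := by rw [h4]
        _ = (a * a) * (b * a) * (b * b) := by group
        _ = z * (b * a) * z := by rw [h5, h6]
        _ = z * ((b * a) * z) := by group
        _ = z * (z * (b * a)) := by rw [hzc (b * a)]
    exact mul_left_cancel h7
  obtain ⟨a, ha, b, hb, c, hc, ha1, hb1, hba, hc1, hca, hcb, hcab⟩ := hE8
  obtain ⟨a', rfl⟩ := hπ a
  obtain ⟨b', rfl⟩ := hπ b
  obtain ⟨c', rfl⟩ := hπ c
  have h1 := anti a' c' ha hc ha1 hc1 (fun h => hca h.symm)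
  have h2 := anti b' c' hb hc hb1 hc1 (fun h => hcb h.symm)
  have hab1 : π (a' * b') ≠ 1 := by
    rw [map_mul]
    intro h
    apply hba
    have h2 : π b' = (π a')⁻¹ := eq_inv_of_mul_eq_one_right h
    have h3 : (π a')⁻¹ = π a' := inv_eq_of_mul_eq_one_left (hE _ ha)
    rw [h2, h3]
  have h3 := anti (a' * b') c' (by rw [map_mul]; exact E.mul_mem ha hb) hc hab1 hc1
    (by rw [map_mul]; exact fun h => hcab h.symm)
  have h4 : a' * b' * c' = c' * (a' * b') := by
    calc a' * b' * c' = a' * (b' * c') := by group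
      _ = a' * (z * (c' * b')) := by rw [h2]
      _ = (a' * z) * (c' * b') := by group
      _ = (z * a') * (c' * b') := by rw [hzc]
      _ = z * (a' * c') * b' := by group
      _ = z * (z * (c' * a')) * b' := by rw [h1]
      _ = (z * z) * (c' * (a' * b')) := by group
      _ = c' * (a' * b') := by rw [hzz, one_mul]
  rw [h4] at h3
  have h5 : z = 1 := by
    have h6 : 1 * (c' * (a' * b')) = z * (c' * (a' * b')) := by rw [one_mul]; exact h3
    exact (mul_right_cancel h6).symm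
  exact hcon h5

end lift

theorem two_ne (h2 : (2 : F) ≠ 0) : (2 : AlgebraicClosure F) ≠ 0 := by
  have h := (map_ne_zero (algebraMap F (AlgebraicClosure F))).2 h2
  rwa [map_ofNat] at h

/-- **Elementary abelian 2-subgroups in symplectic groups.** -/
theorem PA.elem' (h : PA F n T) (h2 : (2 : F) ≠ 0) (E : Subgroup T) (hE : ∀ a ∈ E, a * a = 1)
    (hE8 : ∃ a ∈ E, ∃ b ∈ E, ∃ c ∈ E, a ≠ 1 ∧ b ≠ 1 ∧ b ≠ a ∧ c ≠ 1 ∧ c ≠ a ∧ c ≠ b ∧ c ≠ a * b)
    (htr : ∀ a ∈ E, ∀ b ∈ E, a ≠ 1 → b ≠ 1 → ∃ g, g * a * g⁻¹ = b) {y : T} (hy : ∀ a ∈ E, y * a * y⁻¹ ∈ E) {r : ℕ}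
    (hr : r.Prime) (hr2 : r ≠ 2) (hyr : ∀ a ∈ E, y ^ r * a * (y ^ r)⁻¹ = a) (hy1 : ∃ a ∈ E, y * a * y⁻¹ ≠ a) :
    2 * r ≤ n := by
  obtain ⟨L, _, π, V, _, _, _, ρ, B, hπ, hρ, hker, hnd, hinv, halt, rfl⟩ := h
  have h2' := two_ne h2
  have hcen := ker_central hρ hker
  have hsq := @ker_sq _ _ _ _ _ _ π _ _ _ ρ hρ hker
  have helem : ∀ x : L, π x ∈ E → x * x = 1 := fun x hx => sq_eq_one hρ hker hπ hE hE8 htr hx
  let A : Subgroup L := E.comap π
  have hAmem : ∀ x, x ∈ A ↔ π x ∈ E := fun x => Iff.rfl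
  have hA2 : ∀ a ∈ A, a * a = 1 := fun a ha => helem a ha
  have hA : ∀ a ∈ A, ∀ b ∈ A, a * b = b * a := by
    intro a ha b hb
    have h1 := hA2 _ (A.mul_mem ha hb)
    have h3 : a⁻¹ = a := inv_eq_of_mul_eq_one_left (hA2 a ha)
    have h4 : b⁻¹ = b := inv_eq_of_mul_eq_one_left (hA2 b hb)
    have h5 : (a * b)⁻¹ = a * b := inv_eq_of_mul_eq_one_left h1
    rw [_root_.mul_inv_rev, h3, h4] at h5
    exact h5.symm
  obtain ⟨y', rfl⟩ := hπ y
  have hyA : ∀ a ∈ A, y' * a * y'⁻¹ ∈ A := by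
    intro a ha
    rw [hAmem, map_mul, map_mul, map_inv]
    exact hy _ ha
  -- `y' ^ r` moves elements of `A` by central elements
  have hyr' : ∀ a ∈ A, ∃ z, π z = 1 ∧ y' ^ r * a * (y' ^ r)⁻¹ = z * a := by
    intro a ha
    refine ⟨y' ^ r * a * (y' ^ r)⁻¹ * a⁻¹, ?_, by group⟩
    rw [map_mul, map_mul, map_mul, map_inv, map_inv, map_pow, hyr _ ha, mul_inv_cancel]
  let s : L := y' * y'
  have hsA : ∀ a ∈ A, s * a * s⁻¹ ∈ A := by
    intro a ha
    have : s * a * s⁻¹ = y' * (y' * a * y'⁻¹) * y'⁻¹ := by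
      change y' * y' * a * (y' * y')⁻¹ = _
      group
    rw [this]
    exact hyA _ (hyA _ ha)
  have hsr : ∀ a ∈ A, s ^ r * a * (s ^ r)⁻¹ = a := by
    intro a ha
    obtain ⟨z, hz, h1⟩ := hyr' a ha
    have h3 : s ^ r = y' ^ r * y' ^ r := by
      change (y' * y') ^ r = _
      rw [← pow_two, ← pow_mul, mul_comm, pow_mul, pow_two]
    calc s ^ r * a * (s ^ r)⁻¹ = y' ^ r * (y' ^ r * a * (y' ^ r)⁻¹) * (y' ^ r)⁻¹ := by rw [h3]; group
      _ = y' ^ r * (z * a) * (y' ^ r)⁻¹ := by rw [h1]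
      _ = (y' ^ r * z) * a * (y' ^ r)⁻¹ := by group
      _ = (z * y' ^ r) * a * (y' ^ r)⁻¹ := by rw [hcen z hz]
      _ = z * (y' ^ r * a * (y' ^ r)⁻¹) := by group
      _ = z * (z * a) := by rw [h1]
      _ = (z * z) * a := by group
      _ = a := by rw [hsq hz, one_mul]
  -- `s` does not centralise `A`
  have hs1 : ∃ a₀ ∈ A, s * a₀ * s⁻¹ * a₀⁻¹ ≠ 1 := by
    by_contra hcon
    push Not at hcon
    obtain ⟨a, ha, hne⟩ := hy1
    obtain ⟨a', rfl⟩ := hπ a
    have hodd : Odd r := hr.odd_of_ne_two hr2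
    obtain ⟨k, hk⟩ := hodd
    apply hne
    have h1 : s * a' * s⁻¹ = a' := mul_inv_eq_one.1 (hcon a' ha)
    have h3 : Commute s a' := by
      have := mul_inv_eq_iff_eq_mul.1 h1
      exact this
    have h4 : Commute (s ^ k) a' := h3.pow_left k
    have h5 : Commute (π (s ^ k)) (π a') := h4.map π
    have h6 : Commute (π y' ^ r) (π a') := mul_inv_eq_iff_eq_mul.1 (hyr _ ha)
    have h7 : π y' ^ r = π y' * π (s ^ k) := by
      rw [hk, map_pow]
      change π y' ^ (2 * k + 1) = π y' * (π (y' * y')) ^ k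
      rw [map_mul, pow_succ', pow_mul, pow_two]
    have h8 : π y' = π y' ^ r * (π (s ^ k))⁻¹ := by rw [h7]; group
    have h9 : Commute (π y') (π a') := by
      rw [h8]
      exact h6.mul_left h5.inv_left
    exact mul_inv_eq_iff_eq_mul.2 h9
  obtain ⟨a₀, ha₀, hs1⟩ := hs1
  have hA2' : ∀ a ∈ A, a ^ 2 = 1 := fun a ha => by rw [pow_two]; exact hA2 a ha
  have hN : ((2 : ℕ) : AlgebraicClosure F) ≠ 0 := by exact_mod_cast h2'
  have := prime_mul_le ρ hA hN hA2' hsA hr hsr ha₀ (fun h => hs1 (hρ (h.trans (map_one ρ).symm))) (d := 2) (by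
    intro χ hχ
    have hev : Even (finrank (AlgebraicClosure F) (wt ρ A χ)) := by
      apply even_wt ρ hA hN hA2' B hnd hinv halt
      intro a
      rw [← wt_mul ρ hχ, show a * a = 1 from Subtype.ext (hA2 a a.2), wt_one ρ hχ]
    obtain ⟨k, hk⟩ := hev
    have : Nontrivial (wt ρ A χ) := Submodule.nontrivial_iff_ne_bot.2 hχ
    have h3 : 0 < finrank (AlgebraicClosure F) (wt ρ A χ) := finrank_pos
    omega)
  omega

/-- **Elementary abelian 2-subgroups in symplectic groups.** -/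
theorem PA.elem (h : PA F n T) (h2 : (2 : F) ≠ 0) (E : Subgroup T) (hE : ∀ a ∈ E, a * a = 1) (hE8 : 4 < Nat.card E)
    (htr : ∀ a ∈ E, ∀ b ∈ E, a ≠ 1 → b ≠ 1 → ∃ g, g * a * g⁻¹ = b) {y : T} (hy : ∀ a ∈ E, y * a * y⁻¹ ∈ E) {r : ℕ}
    (hr : r.Prime) (hr2 : r ≠ 2) (hyr : ∀ a ∈ E, y ^ r * a * (y ^ r)⁻¹ = a) (hy1 : ∃ a ∈ E, y * a * y⁻¹ ≠ a) :
    2 * r ≤ n :=
  h.elem' h2 E hE (exists_three hE8) htr hy hr hr2 hyr hy1

end Cfsg.Agent.H871.Par
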