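import Cfsg.Agent.H871.Par3

/-!
# Parity bounds: local subgroups given by generators

* `PA.frob8` : `2^3:7 ≤ T` ⟹ `14 ≤ n` for symplectic representations in odd characteristic;
* `PA.quat9` : `3^2:Q8 ≤ T` ⟹ `16 ≤ n` in characteristic not 2, 3;
* `PD.frob11` : `11:5 ≤ T` ⟹ `10 ≤ n` for self-dual representations in characteristic not 11.
-/

set_option autoImplicit false

universe u v w

namespace Cfsg.Agent.H871.Par

variable {F : Type u} [Field F] {n : ℕ} {T : Type v} [Group T]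

/-- the elementary abelian group generated by commuting involutions `a`, `b`, `c` -/
def elem3 {a b c : T} (ha : a * a = 1) (hb : b * b = 1) (hc : c * c = 1) (hab : a * b = b * a) (hac : a * c = c * a)
    (hbc : b * c = c * b) : Subgroup T where
  carrier := {x | ∃ i j k : Fin 2, x = a ^ (i : ℕ) * b ^ (j : ℕ) * c ^ (k : ℕ)}
  mul_mem' := by
    rintro x y ⟨i, j, k, rfl⟩ ⟨i', j', k', rfl⟩
    have hmod : ∀ (g : T), g * g = 1 → ∀ i i' : Fin 2, g ^ (i : ℕ) * g ^ (i' : ℕ) = g ^ ((i + i' : Fin 2) : ℕ) := by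
      intro g hg i i'
      fin_cases i <;> fin_cases i' <;> simp [hg]
    refine ⟨i + i', j + j', k + k', ?_⟩
    rw [← hmod a ha, ← hmod b hb, ← hmod c hc]
    have h1 : Commute (c ^ (k : ℕ)) (a ^ (i' : ℕ)) := Commute.pow_pow (show Commute c a from hac.symm) _ _
    have h2 : Commute (b ^ (j : ℕ)) (a ^ (i' : ℕ)) := Commute.pow_pow (show Commute b a from hab.symm) _ _
    have h3 : Commute (c ^ (k : ℕ)) (b ^ (j' : ℕ)) := Commute.pow_pow (show Commute c b from hbc.symm) _ _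
    calc a ^ (i : ℕ) * b ^ (j : ℕ) * c ^ (k : ℕ) * (a ^ (i' : ℕ) * b ^ (j' : ℕ) * c ^ (k' : ℕ))
        = a ^ (i : ℕ) * b ^ (j : ℕ) * (c ^ (k : ℕ) * a ^ (i' : ℕ)) * b ^ (j' : ℕ) * c ^ (k' : ℕ) := by
          simp only [mul_assoc]
      _ = a ^ (i : ℕ) * (b ^ (j : ℕ) * a ^ (i' : ℕ)) * (c ^ (k : ℕ) * b ^ (j' : ℕ)) * c ^ (k' : ℕ) := by
          rw [h1.eq]; simp only [mul_assoc]
      _ = a ^ (i : ℕ) * a ^ (i' : ℕ) * (b ^ (j : ℕ) * b ^ (j' : ℕ)) * (c ^ (k : ℕ) * c ^ (k' : ℕ)) := by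
          rw [h2.eq, h3.eq]; simp only [mul_assoc]
  one_mem' := ⟨0, 0, 0, by simp⟩
  inv_mem' := by
    rintro x ⟨i, j, k, rfl⟩
    refine ⟨i, j, k, ?_⟩
    have hi : ∀ (g : T), g * g = 1 → ∀ i : Fin 2, (g ^ (i : ℕ))⁻¹ = g ^ (i : ℕ) := by
      intro g hg i
      fin_cases i
      · simp
      · simpa using inv_eq_of_mul_eq_one_left hg
    have h1 : Commute (c ^ (k : ℕ)) (a ^ (i : ℕ)) := Commute.pow_pow (show Commute c a from hac.symm) _ _
    have h2 : Commute (b ^ (j : ℕ)) (a ^ (i : ℕ)) := Commute.pow_pow (show Commute b a from hab.symm) _ _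
    have h3 : Commute (c ^ (k : ℕ)) (b ^ (j : ℕ)) := Commute.pow_pow (show Commute c b from hbc.symm) _ _
    rw [mul_inv_rev, mul_inv_rev, hi c hc, hi b hb, hi a ha]
    calc c ^ (k : ℕ) * (b ^ (j : ℕ) * a ^ (i : ℕ)) = (c ^ (k : ℕ) * a ^ (i : ℕ)) * b ^ (j : ℕ) := by
          rw [h2.eq, mul_assoc]
      _ = a ^ (i : ℕ) * (c ^ (k : ℕ) * b ^ (j : ℕ)) := by rw [h1.eq, mul_assoc]
      _ = a ^ (i : ℕ) * b ^ (j : ℕ) * c ^ (k : ℕ) := by rw [h3.eq, mul_assoc]

/-- **`2^3:7`** -/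
theorem PA.frob8 (h : PA F n T) (h2 : (2 : F) ≠ 0) {a b c y : T} (ha : a * a = 1) (ha1 : a ≠ 1) (hab : a * b = b * a)
    (h1 : y * a * y⁻¹ = b) (h3 : y * b * y⁻¹ = c) (h4 : y * c * y⁻¹ = a * b) : 14 ≤ n := by
  have hconj : ∀ x z : T, y * (x * z) * y⁻¹ = (y * x * y⁻¹) * (y * z * y⁻¹) := by intro x z; group
  have hb : b * b = 1 := by rw [← h1, ← hconj, ha]; group
  have hc : c * c = 1 := by rw [← h3, ← hconj, hb]; group
  have hbc : b * c = c * b := by
    have := congrArg (fun x => y * x * y⁻¹) hab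
    simp only [hconj, h1, h3] at this
    exact this
  have hac : a * c = c * a := by
    have := congrArg (fun x => y * x * y⁻¹) hbc
    simp only [hconj, h3, h4] at this
    -- c * (a * b) = a * b * c
    have h5 : a * b * c = a * c * b := by rw [mul_assoc, hbc, mul_assoc]
    rw [h5, ← mul_assoc] at this
    exact (mul_right_cancel this).symm
  have e1 : y * a * y⁻¹ = b := h1
  have e2 : y * (a * b) * y⁻¹ = b * c := by rw [hconj, h1, h3]
  have e3 : y * (b * c) * y⁻¹ = a * b * c := by rw [hconj, h3, h4, ← mul_assoc, ← hac, mul_assoc, ← hbc, mul_assoc]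
  have e4 : y * (a * b * c) * y⁻¹ = a * c := by
    rw [hconj, e2, h4]
    calc b * c * (a * b) = (a * c) * (b * b) := by
          rw [← mul_assoc, mul_assoc b c a, ← hac, ← mul_assoc, ← hab, mul_assoc (a * b), ← hbc, mul_assoc a b,
            ← mul_assoc b b, hb, one_mul, mul_one]
      _ = a * c := by rw [hb, mul_one]
  have e5 : y * (a * c) * y⁻¹ = a := by rw [hconj, h1, h4, hab, ← mul_assoc, hb, one_mul]
  -- all are conjugate to `a`
  have conj_ne : ∀ x : T, x ≠ 1 → y * x * y⁻¹ ≠ 1 := by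
    intro x hx h
    apply hx
    have : x = y⁻¹ * (y * x * y⁻¹) * y := by group
    rw [this, h]; group
  have n1 : b ≠ 1 := by rw [← h1]; exact conj_ne _ ha1
  have n2 : c ≠ 1 := by rw [← h3]; exact conj_ne _ n1
  have n3 : a * b ≠ 1 := by rw [← h4]; exact conj_ne _ n2
  have n4 : b * c ≠ 1 := by rw [← e2]; exact conj_ne _ n3
  have n5 : a * b * c ≠ 1 := by rw [← e3]; exact conj_ne _ n4
  have n6 : a * c ≠ 1 := by rw [← e4]; exact conj_ne _ n5
  let E := elem3 ha hb hc hab hac hbc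
  have cases8 : ∀ x ∈ E, x = 1 ∨ x = a ∨ x = b ∨ x = c ∨ x = a * b ∨ x = b * c ∨ x = a * b * c ∨ x = a * c := by
    rintro x ⟨i, j, k, rfl⟩
    fin_cases i <;> fin_cases j <;> fin_cases k <;> simp
  have memE : ∀ i j k : Fin 2, a ^ (i : ℕ) * b ^ (j : ℕ) * c ^ (k : ℕ) ∈ E := fun i j k => ⟨i, j, k, rfl⟩
  have ma : a ∈ E := by simpa using memE 1 0 0
  have mb : b ∈ E := by simpa using memE 0 1 0
  have mc : c ∈ E := by simpa using memE 0 0 1
  have hEE : ∀ x ∈ E, x * x = 1 := by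
    intro x hx
    rcases cases8 x hx with rfl | rfl | rfl | rfl | rfl | rfl | rfl | rfl
    · simp
    · exact ha
    · exact hb
    · exact hc
    · rw [← h4, ← hconj, hc]; group
    · rw [← e2, ← hconj, ← h4, ← hconj, hc]; group
    · rw [← e3, ← hconj, ← e2, ← hconj, ← h4, ← hconj, hc]; group
    · rw [← e4, ← hconj, ← e3, ← hconj, ← e2, ← hconj, ← h4, ← hconj, hc]; group
  -- the orbit of `a`
  have orb : ∀ x ∈ E, x ≠ 1 → ∃ i : ℕ, y ^ i * a * (y ^ i)⁻¹ = x := by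
    have hs : ∀ (i : ℕ) (x z : T), y ^ i * a * (y ^ i)⁻¹ = x → y * x * y⁻¹ = z → y ^ (i + 1) * a * (y ^ (i + 1))⁻¹ = z := by
      intro i x z hx hz
      rw [← hz, ← hx, pow_succ']; group
    have o0 : y ^ 0 * a * (y ^ 0)⁻¹ = a := by simp
    have o1 := hs _ _ _ o0 h1
    have o2 := hs _ _ _ o1 h3
    have o3 := hs _ _ _ o2 h4
    have o4 := hs _ _ _ o3 e2
    have o5 := hs _ _ _ o4 e3
    have o6 := hs _ _ _ o5 e4
    intro x hx hx1
    rcases cases8 x hx with h | rfl | rfl | rfl | rfl | rfl | rfl | rfl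
    · exact absurd h hx1
    exacts [⟨_, o0⟩, ⟨_, o1⟩, ⟨_, o2⟩, ⟨_, o3⟩, ⟨_, o4⟩, ⟨_, o5⟩, ⟨_, o6⟩]
  have yE : ∀ x ∈ E, y * x * y⁻¹ ∈ E := by
    intro x hx
    rcases cases8 x hx with rfl | rfl | rfl | rfl | rfl | rfl | rfl | rfl
    · simp
    · rw [h1]; exact mb
    · rw [h3]; exact mc
    · rw [h4]; exact E.mul_mem ma mb
    · rw [e2]; exact E.mul_mem mb mc
    · rw [e3]; exact E.mul_mem (E.mul_mem ma mb) mc
    · rw [e4]; exact E.mul_mem ma mc
    · rw [e5]; exact ma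
  have y7 : ∀ x ∈ E, y ^ 7 * x * (y ^ 7)⁻¹ = x := by
    have hs : ∀ x : T, y ^ 7 * x * (y ^ 7)⁻¹ =
        y * (y * (y * (y * (y * (y * (y * x * y⁻¹) * y⁻¹) * y⁻¹) * y⁻¹) * y⁻¹) * y⁻¹) * y⁻¹ := by
      intro x
      simp only [pow_succ, pow_zero, one_mul, mul_inv_rev, mul_assoc]
    have q1 : y ^ 7 * a * (y ^ 7)⁻¹ = a := by rw [hs, h1, h3, h4, e2, e3, e4, e5]
    intro x hx
    by_cases hx1 : x = 1
    · rw [hx1]; group
    · obtain ⟨i, rfl⟩ := orb x hx hx1
      calc y ^ 7 * (y ^ i * a * (y ^ i)⁻¹) * (y ^ 7)⁻¹ = y ^ i * (y ^ 7 * a * (y ^ 7)⁻¹) * (y ^ i)⁻¹ := by group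
        _ = y ^ i * a * (y ^ i)⁻¹ := by rw [q1]
  have inv_eq : ∀ x : T, x * x = 1 → x⁻¹ = x := fun x hx => inv_eq_of_mul_eq_one_left hx
  have := h.elem' h2 E hEE ⟨a, ma, b, mb, c, mc, ha1, n1, ?_, n2, ?_, ?_, ?_⟩ ?_ yE (r := 7) (by norm_num) (by norm_num) y7
    ⟨a, ma, ?_⟩
  · omega
  · intro hh; exact n3 (by rw [hh, ha])
  · intro hh; exact n6 (by rw [hh, ha])
  · intro hh; exact n4 (by rw [hh, hb])
  · intro hh
    apply n5
    rw [hh]
    exact hEE _ (E.mul_mem ma mb)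
  · intro x hx z hz hx1 hz1
    obtain ⟨i, rfl⟩ := orb x hx hx1
    obtain ⟨j, rfl⟩ := orb z hz hz1
    exact ⟨y ^ j * (y ^ i)⁻¹, by group⟩
  · rw [h1]
    intro hh; exact n3 (by rw [hh, ha])

/-! ### `3^2:Q8` -/

section nine

variable {u v : T}

/-- `u ^ x v ^ y` -/
def f9 (u v : T) (x : ZMod 3 × ZMod 3) : T := u ^ x.1.val * v ^ x.2.val

theorem f9_add (hu : u ^ 3 = 1) (hv : v ^ 3 = 1) (huv : u * v = v * u) (x y : ZMod 3 × ZMod 3) :
    f9 u v (x + y) = f9 u v x * f9 u v y := by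
  have hp : ∀ (g : T), g ^ 3 = 1 → ∀ a b : ZMod 3, g ^ (a + b).val = g ^ a.val * g ^ b.val := by
    intro g hg a b
    rw [ZMod.val_add, ← pow_add, ← pow_eq_pow_mod _ hg]
  unfold f9
  rw [Prod.fst_add, Prod.snd_add, hp u hu, hp v hv]
  have h : Commute (v ^ x.2.val) (u ^ y.1.val) := Commute.pow_pow (show Commute v u from huv.symm) _ _
  calc u ^ x.1.val * u ^ y.1.val * (v ^ x.2.val * v ^ y.2.val)
      = u ^ x.1.val * (u ^ y.1.val * v ^ x.2.val) * v ^ y.2.val := by simp only [mul_assoc]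
    _ = u ^ x.1.val * (v ^ x.2.val * u ^ y.1.val) * v ^ y.2.val := by rw [h.eq]
    _ = u ^ x.1.val * v ^ x.2.val * (u ^ y.1.val * v ^ y.2.val) := by simp only [mul_assoc]

theorem f9_zero : f9 u v 0 = 1 := by simp [f9]

/-- `E` as a subgroup -/
def E9 (hu : u ^ 3 = 1) (hv : v ^ 3 = 1) (huv : u * v = v * u) : Subgroup T where
  carrier := Set.range (f9 u v)
  mul_mem' := by
    rintro _ _ ⟨x, rfl⟩ ⟨y, rfl⟩
    exact ⟨x + y, f9_add hu hv huv x y⟩
  one_mem' := ⟨0, f9_zero⟩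
  inv_mem' := by
    rintro _ ⟨x, rfl⟩
    refine ⟨-x, ?_⟩
    have := f9_add hu hv huv x (-x)
    rw [add_neg_cancel, f9_zero] at this
    exact eq_inv_of_mul_eq_one_right this.symm

end nine

/-- the matrices of `Q8` on `F_3 ^ 2` -/
def M9 : Fin 8 → ZMod 3 × ZMod 3 → ZMod 3 × ZMod 3 := fun k x =>
  let I : ZMod 3 × ZMod 3 → ZMod 3 × ZMod 3 := fun x => (-x.2, x.1)
  let J : ZMod 3 × ZMod 3 → ZMod 3 × ZMod 3 := fun x => (x.1 + x.2, x.1 - x.2)
  match k with
  | 0 => x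
  | 1 => I x
  | 2 => I (I x)
  | 3 => I (I (I x))
  | 4 => J x
  | 5 => I (J x)
  | 6 => I (I (J x))
  | 7 => I (I (I (J x)))

theorem M9_free : ∀ (k l : Fin 8) (x : ZMod 3 × ZMod 3), k ≠ l → M9 k x = M9 l x → x = 0 := by decide

/-- **`3^2:Q8`** -/
theorem PA.quat9 (h : PA F n T) (h2 : (2 : F) ≠ 0) (h3 : (3 : F) ≠ 0) {u v i j : T} (hu : u ^ 3 = 1) (hu1 : u ≠ 1)
    (huv : u * v = v * u) (hiu : i * u * i⁻¹ = v) (hiv : i * v * i⁻¹ = u⁻¹) (hju : j * u * j⁻¹ = u * v)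
    (hjv : j * v * j⁻¹ = u * v⁻¹) (hij : i * i = j * j) (hcom : i * j = i * i * (j * i)) : 16 ≤ n := by
  classical
  have hv : v ^ 3 = 1 := by rw [← hiu, conj_pow, hu]; group
  have hadd := f9_add hu hv huv
  have hneg : ∀ x, f9 u v (-x) = (f9 u v x)⁻¹ := by
    intro x
    have := hadd x (-x)
    rw [add_neg_cancel, f9_zero] at this
    exact eq_inv_of_mul_eq_one_right this.symm
  have hpow : ∀ (x : ZMod 3 × ZMod 3) (m : ℕ), f9 u v (m • x) = f9 u v x ^ m := by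
    intro x m
    induction m with
    | zero => rw [zero_smul, f9_zero, pow_zero]
    | succ m ih => rw [succ_nsmul, hadd, ih, pow_succ]
  have fu : f9 u v (1, 0) = u := by simp [f9, ZMod.val_one]
  have fv : f9 u v (0, 1) = v := by simp [f9, ZMod.val_one]
  -- action of a single element
  have act : ∀ (g : T) (M : ZMod 3 × ZMod 3 → ZMod 3 × ZMod 3), (∀ x y, M (x + y) = M x + M y) →
      g * u * g⁻¹ = f9 u v (M (1, 0)) → g * v * g⁻¹ = f9 u v (M (0, 1)) →
      ∀ x, g * f9 u v x * g⁻¹ = f9 u v (M x) := by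
    intro g M hM h1 h2 x
    have hM0 : M 0 = 0 := by
      have := hM 0 0
      rw [add_zero] at this
      simpa using this
    have hMn : ∀ (m : ℕ) y, M (m • y) = m • M y := by
      intro m y
      induction m with
      | zero => rw [zero_smul, zero_smul, hM0]
      | succ m ih => rw [succ_nsmul, hM, ih, succ_nsmul]
    have hx : x = x.1.val • ((1, 0) : ZMod 3 × ZMod 3) + x.2.val • ((0, 1) : ZMod 3 × ZMod 3) := by
      revert x; decide
    conv_rhs => rw [hx]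
    rw [hM, hMn, hMn, hadd, hpow, hpow, ← h1, ← h2, conj_pow, conj_pow]
    unfold f9
    group
  have actI : ∀ x, i * f9 u v x * i⁻¹ = f9 u v (-x.2, x.1) := by
    apply act i (fun x => (-x.2, x.1))
    · intro x y; ext <;> simp <;> ring
    · rw [hiu]; simp [f9, ZMod.val_one]
    · rw [hiv]
      have h5 : f9 u v (-(1 : ZMod 3), 0) = (f9 u v (1, 0))⁻¹ := by rw [← hneg]; congr 1
      change u⁻¹ = f9 u v (-(1 : ZMod 3), 0)
      rw [h5, fu]
  have actJ : ∀ x, j * f9 u v x * j⁻¹ = f9 u v (x.1 + x.2, x.1 - x.2) := by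
    apply act j (fun x => (x.1 + x.2, x.1 - x.2))
    · intro x y; ext <;> simp <;> ring
    · rw [hju]; simp [f9, ZMod.val_one]
    · rw [hjv]
      have h5 : f9 u v ((0 : ZMod 3) + 1, (0 : ZMod 3) - 1) = f9 u v (1, 0) * (f9 u v (0, 1))⁻¹ := by
        rw [← hneg, ← hadd]; congr 1
      change u * v⁻¹ = f9 u v ((0 : ZMod 3) + 1, (0 : ZMod 3) - 1)
      rw [h5, fu, fv]
  let g : Fin 8 → T := ![1, i, i * i, i * (i * i), j, i * j, i * (i * j), i * (i * (i * j))]
  have hmul : ∀ (a b : T) (x : T), a * b * x * (a * b)⁻¹ = a * (b * x * b⁻¹) * a⁻¹ := by intro a b x; group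
  have hg : ∀ k x, g k * f9 u v x * (g k)⁻¹ = f9 u v (M9 k x) := by
    intro k x
    fin_cases k
    · change 1 * f9 u v x * 1⁻¹ = f9 u v x
      group
    · exact actI x
    · change i * i * f9 u v x * (i * i)⁻¹ = _
      rw [hmul, actI, actI]; rfl
    · change i * (i * i) * f9 u v x * (i * (i * i))⁻¹ = _
      rw [hmul, hmul, actI, actI, actI]; rfl
    · exact actJ x
    · change i * j * f9 u v x * (i * j)⁻¹ = _
      rw [hmul, actJ, actI]; rfl
    · change i * (i * j) * f9 u v x * (i * (i * j))⁻¹ = _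
      rw [hmul, hmul, actJ, actI, actI]; rfl
    · change i * (i * (i * j)) * f9 u v x * (i * (i * (i * j)))⁻¹ = _
      rw [hmul, hmul, hmul, actJ, actI, actI, actI]; rfl
  -- `f9` is injective
  have hne : ∀ x, f9 u v x = 1 → x = 0 := by
    intro x hx
    by_contra hx0
    -- some `g k` maps `(1, 0)` to `x`
    have h5 : ∀ x : ZMod 3 × ZMod 3, x ≠ 0 → ∃ k, M9 k (1, 0) = x := by decide
    obtain ⟨k, hk⟩ := h5 x hx0
    have h6 := hg k (1, 0)
    rw [hk, hx, fu] at h6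
    apply hu1
    have h7 : g k * u = g k := by rwa [mul_inv_eq_one] at h6
    exact mul_eq_left.1 h7
  have hinj : Function.Injective (f9 u v) := by
    intro x y hxy
    have h5 : f9 u v (x + -y) = 1 := by rw [hadd, hneg, hxy, mul_inv_cancel]
    have h6 := hne _ h5
    rwa [add_neg_eq_zero] at h6
  have hginj : Function.Injective g := by
    intro k l hkl
    by_contra hne'
    have h5 : M9 k (1, 0) = M9 l (1, 0) := by
      apply hinj
      rw [← hg, ← hg, hkl]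
    have h6 := M9_free k l (1, 0) hne' h5
    exact absurd h6 (by decide)
  let E := E9 hu hv huv
  have hEmem : ∀ e ∈ E, ∃ x, f9 u v x = e := fun e he => he
  have hmemE : ∀ x, f9 u v x ∈ E := fun x => ⟨x, rfl⟩
  have hEfin : Finite E := by
    have : (E : Set T) = Set.range (f9 u v) := rfl
    have h5 : (E : Set T).Finite := by rw [this]; exact Set.finite_range _
    exact h5.to_subtype
  have key := h.quat h2 (r := 3) (by norm_num) (by norm_num) (by exact_mod_cast h3) E (by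
    intro a ha b hb
    obtain ⟨x, rfl⟩ := hEmem a ha
    obtain ⟨y, rfl⟩ := hEmem b hb
    rw [← hadd, ← hadd, add_comm]) (by
    intro a
    obtain ⟨x, hx⟩ := hEmem a a.2
    refine ⟨1, Subtype.ext ?_⟩
    rw [pow_one, Subgroup.coe_pow, ← hx, ← hpow]
    have h5 : (3 : ℕ) • x = 0 := by clear hx; revert x; decide
    rw [h5, f9_zero]; rfl) (by
    intro h0
    have h5 : u ∈ E := by have := hmemE (1, 0); rwa [fu] at this
    rw [h0, Subgroup.mem_bot] at h5
    exact hu1 h5) (i := i) (j := j) (t := i * i) rfl hij.symm hcom (by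
    intro e he
    obtain ⟨x, rfl⟩ := hEmem e he
    have h5 := hg 2 x
    change i * i * f9 u v x * (i * i)⁻¹ = _ at h5
    rw [h5, ← hneg]
    rfl) (Finset.univ.image g) (by
    intro s hs e he
    obtain ⟨k, -, rfl⟩ := Finset.mem_image.1 hs
    obtain ⟨x, rfl⟩ := hEmem e he
    rw [hg]
    exact hmemE _) (by
    intro s hs s' hs' hss e he h5
    obtain ⟨k, -, rfl⟩ := Finset.mem_image.1 hs
    obtain ⟨l, -, rfl⟩ := Finset.mem_image.1 hs'
    obtain ⟨x, rfl⟩ := hEmem e he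
    rw [hg, hg] at h5
    have h6 := M9_free k l x (fun h => hss (by rw [h])) (hinj h5)
    rw [h6, f9_zero])
  rw [Finset.card_image_of_injective _ hginj, Finset.card_univ, Fintype.card_fin] at key
  omega

/-- **`11:5`** -/
theorem PD.frob11 (h : PD F n T) (h11 : (11 : F) ≠ 0) {x y : T} (hx : orderOf x = 11) (hy : y * x * y⁻¹ = x ^ 3) :
    10 ≤ n := by
  have := h.prime (r := 11) (by norm_num) (by norm_num) (by exact_mod_cast h11) hx hy 5 (by decide) (by decide)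
  omega

end Cfsg.Agent.H871.Par
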