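import Cfsg.Agent.H871.Par4
import Cfsg.Agent.H912.BdAlt
import Cfsg.Agent.H912.BdOrth2
import Cfsg.Agent.H175.BdSp

/-!
# The local subgroups `2^3:7`, `3^2:Q8`, `11:5` in explicit groups

* `Frob8 T`, `Quat9 T`, `Frob11 T` and `PA.of_frob8` (`14 ≤ n`), `PA.of_quat9` (`16 ≤ n`), `PD.of_frob11` (`10 ≤ n`);
* `frob8_alt` (`A_n`, `n ≥ 8`), `quat9_alt` (`n ≥ 9`), `frob8_psl2` (`|K| = 8`), `frob8_psl4`, `frob8_psp`, `frob8_plus`,
  `frob8_odd`, `frob8_minus` (characteristic 2), `quat9_psl3` (characteristic 3).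
-/

set_option autoImplicit false

universe u v w

namespace Cfsg.Agent.H871.Par

/-- `2^3:7` -/
def Frob8 (T : Type v) [Group T] : Prop :=
  ∃ a b c y : T, a * a = 1 ∧ a ≠ 1 ∧ a * b = b * a ∧ y * a * y⁻¹ = b ∧ y * b * y⁻¹ = c ∧ y * c * y⁻¹ = a * b

/-- `3^2:Q8` -/
def Quat9 (T : Type v) [Group T] : Prop :=
  ∃ u v i j : T, u ^ 3 = 1 ∧ u ≠ 1 ∧ u * v = v * u ∧ i * u * i⁻¹ = v ∧ i * v * i⁻¹ = u⁻¹ ∧ j * u * j⁻¹ = u * v ∧
    j * v * j⁻¹ = u * v⁻¹ ∧ i * i = j * j ∧ i * j = i * i * (j * i)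

/-- `11:5` -/
def Frob11 (T : Type v) [Group T] : Prop := ∃ x y : T, x ^ 11 = 1 ∧ x ≠ 1 ∧ y * x * y⁻¹ = x ^ 3

section maps

variable {T : Type v} [Group T] {T' : Type w} [Group T']

theorem Frob8.map (h : Frob8 T') (f : T' →* T) (hf : f.ker ≤ Subgroup.center T') : Frob8 T := by
  obtain ⟨a, b, c, y, h1, h2, h3, h4, h5, h6⟩ := h
  refine ⟨f a, f b, f c, f y, by rw [← map_mul, h1, map_one], ?_, by rw [← map_mul, h3, map_mul],
    by simpa only [map_mul, map_inv] using congrArg f h4, by simpa only [map_mul, map_inv] using congrArg f h5,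
    by simpa only [map_mul, map_inv] using congrArg f h6⟩
  intro h0
  have h7 : a ∈ Subgroup.center T' := hf h0
  have h8 : y * a * y⁻¹ = a := by rw [Subgroup.mem_center_iff.1 h7 y]; group
  rw [h4] at h8
  rw [h8] at h5 h6 h3
  rw [h8] at h4
  rw [h4] at h5
  rw [← h5, h4, h1] at h6
  exact h2 h6

theorem Frob8.of_inj (h : Frob8 T') (f : T' →* T) (hf : Function.Injective f) : Frob8 T :=
  h.map f (by rw [(MonoidHom.ker_eq_bot_iff f).2 hf]; exact bot_le)

theorem Frob8.quot (h : Frob8 T') : Frob8 (T' ⧸ Subgroup.center T') :=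
  h.map (QuotientGroup.mk' _) (by rw [QuotientGroup.ker_mk'])

theorem Quat9.map (h : Quat9 T') (f : T' →* T) (hf : f.ker ≤ Subgroup.center T') : Quat9 T := by
  obtain ⟨u, v, i, j, h1, h2, h3, h4, h5, h6, h7, h8, h9⟩ := h
  refine ⟨f u, f v, f i, f j, by rw [← map_pow, h1, map_one], ?_, by rw [← map_mul, h3, map_mul],
    by simpa only [map_mul, map_inv] using congrArg f h4, by simpa only [map_mul, map_inv] using congrArg f h5,
    by simpa only [map_mul, map_inv] using congrArg f h6, by simpa only [map_mul, map_inv] using congrArg f h7,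
    by simpa only [map_mul, map_inv] using congrArg f h8, by simpa only [map_mul, map_inv] using congrArg f h9⟩
  intro h0
  have h10 : u ∈ Subgroup.center T' := hf h0
  have h11 : i * u * i⁻¹ = u := by rw [Subgroup.mem_center_iff.1 h10 i]; group
  rw [h4] at h11
  rw [h11] at h4 h5
  rw [h4] at h5
  -- u = u⁻¹
  apply h2
  have h12 : u * u = 1 := by
    calc u * u = u * u⁻¹ := by rw [← h5]
      _ = 1 := mul_inv_cancel u
  have h13 : u ^ 3 = u * u * u := by rw [pow_succ, pow_two]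
  rw [h13, h12, one_mul] at h1
  exact h1

theorem Quat9.of_inj (h : Quat9 T') (f : T' →* T) (hf : Function.Injective f) : Quat9 T :=
  h.map f (by rw [(MonoidHom.ker_eq_bot_iff f).2 hf]; exact bot_le)

theorem Quat9.quot (h : Quat9 T') : Quat9 (T' ⧸ Subgroup.center T') :=
  h.map (QuotientGroup.mk' _) (by rw [QuotientGroup.ker_mk'])

theorem Frob11.map (h : Frob11 T') (f : T' →* T) (hf : f.ker ≤ Subgroup.center T') : Frob11 T := by
  obtain ⟨x, y, h1, h2, h3⟩ := h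
  refine ⟨f x, f y, by rw [← map_pow, h1, map_one], ?_, by rw [← map_pow, ← h3]; simp⟩
  intro h0
  have h4 : x ∈ Subgroup.center T' := hf h0
  have h5 : y * x * y⁻¹ = x := by rw [Subgroup.mem_center_iff.1 h4 y]; group
  rw [h3] at h5
  apply h2
  have h6 : x ^ 2 = 1 := by
    have : x ^ 2 * x = 1 * x := by rw [one_mul, ← pow_succ]; exact h5
    exact mul_right_cancel this
  have h7 : x ^ 11 = (x ^ 2) ^ 5 * x := by rw [← pow_mul, ← pow_succ]
  rw [h7, h6, one_pow, one_mul] at h1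
  exact h1

theorem Frob11.of_inj (h : Frob11 T') (f : T' →* T) (hf : Function.Injective f) : Frob11 T :=
  h.map f (by rw [(MonoidHom.ker_eq_bot_iff f).2 hf]; exact bot_le)

theorem Frob11.quot (h : Frob11 T') : Frob11 (T' ⧸ Subgroup.center T') :=
  h.map (QuotientGroup.mk' _) (by rw [QuotientGroup.ker_mk'])

variable {F : Type u} [Field F] {n : ℕ}

theorem PA.of_frob8 (h : PA F n T) (h2 : (2 : F) ≠ 0) (hT : Frob8 T) : 14 ≤ n := by
  obtain ⟨a, b, c, y, h3, h4, h5, h6, h7, h8⟩ := hT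
  exact h.frob8 h2 h3 h4 h5 h6 h7 h8

theorem PA.of_quat9 (h : PA F n T) (h2 : (2 : F) ≠ 0) (h3 : (3 : F) ≠ 0) (hT : Quat9 T) : 16 ≤ n := by
  obtain ⟨u, v, i, j, k1, k2, k3, k4, k5, k6, k7, k8, k9⟩ := hT
  exact h.quat9 h2 h3 k1 k2 k3 k4 k5 k6 k7 k8 k9

theorem PD.of_frob11 (h : PD F n T) (h11 : (11 : F) ≠ 0) (hT : Frob11 T) : 10 ≤ n := by
  obtain ⟨x, y, h1, h2, h3⟩ := hT
  have : Fact (Nat.Prime 11) := ⟨by norm_num⟩
  exact h.frob11 h11 (orderOf_eq_prime h1 h2) h3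

end maps

/-! ### alternating groups -/

open Equiv

/-- `2^3:7 ≤ A_8` -/
theorem frob8_alt8 : Frob8 (alternatingGroup (Fin 8)) := by
  let a : Perm (Fin 8) := c[0, 1] * c[2, 3] * c[4, 5] * c[6, 7]
  let b : Perm (Fin 8) := c[0, 2] * c[1, 3] * c[4, 6] * c[5, 7]
  let c' : Perm (Fin 8) := c[0, 4] * c[1, 5] * c[2, 6] * c[3, 7]
  let y : Perm (Fin 8) := c[1, 2, 4, 3, 6, 7, 5]
  refine ⟨⟨a, ?_⟩, ⟨b, ?_⟩, ⟨c', ?_⟩, ⟨y, ?_⟩, Subtype.ext ?_, ?_, Subtype.ext ?_, Subtype.ext ?_, Subtype.ext ?_,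
    Subtype.ext ?_⟩
  · rw [Equiv.Perm.mem_alternatingGroup]; decide +kernel
  · rw [Equiv.Perm.mem_alternatingGroup]; decide +kernel
  · rw [Equiv.Perm.mem_alternatingGroup]; decide +kernel
  · rw [Equiv.Perm.mem_alternatingGroup]; decide +kernel
  · change a * a = 1; decide +kernel
  · intro h
    have : a = 1 := congrArg Subtype.val h
    revert this; decide +kernel
  · change a * b = b * a; decide +kernel
  · change y * a * y⁻¹ = b; decide +kernel
  · change y * b * y⁻¹ = c'; decide +kernel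
  · change y * c' * y⁻¹ = a * b; decide +kernel

theorem frob8_alt {n : ℕ} (hn : 8 ≤ n) : Frob8 (alternatingGroup (Fin n)) := by
  obtain ⟨f, hf⟩ := H912.Bd.exists_alt_hom (Fin.castLEEmb hn)
  exact frob8_alt8.of_inj f hf

/-- `3^2:Q8 ≤ A_9`, the point `(x, y)` of `F_3 ^ 2` is `3 x + y` -/
theorem quat9_alt9 : Quat9 (alternatingGroup (Fin 9)) := by
  let u : Perm (Fin 9) := c[0, 3, 6] * c[1, 4, 7] * c[2, 5, 8]
  let v : Perm (Fin 9) := c[0, 1, 2] * c[3, 4, 5] * c[6, 7, 8]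
  let i : Perm (Fin 9) := c[3, 1, 6, 2] * c[4, 7, 8, 5]
  let j : Perm (Fin 9) := c[3, 4, 6, 8] * c[1, 5, 2, 7]
  refine ⟨⟨u, ?_⟩, ⟨v, ?_⟩, ⟨i, ?_⟩, ⟨j, ?_⟩, Subtype.ext ?_, ?_, Subtype.ext ?_, Subtype.ext ?_, Subtype.ext ?_,
    Subtype.ext ?_, Subtype.ext ?_, Subtype.ext ?_, Subtype.ext ?_⟩
  · rw [Equiv.Perm.mem_alternatingGroup]; decide +kernel
  · rw [Equiv.Perm.mem_alternatingGroup]; decide +kernel
  · rw [Equiv.Perm.mem_alternatingGroup]; decide +kernel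
  · rw [Equiv.Perm.mem_alternatingGroup]; decide +kernel
  · change u ^ 3 = 1; decide +kernel
  · intro h
    have : u = 1 := congrArg Subtype.val h
    revert this; decide +kernel
  · change u * v = v * u; decide +kernel
  · change i * u * i⁻¹ = v; decide +kernel
  · change i * v * i⁻¹ = u⁻¹; decide +kernel
  · change j * u * j⁻¹ = u * v; decide +kernel
  · change j * v * j⁻¹ = u * v⁻¹; decide +kernel
  · change i * i = j * j; decide +kernel
  · change i * j = i * i * (j * i); decide +kernel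

theorem quat9_alt {n : ℕ} (hn : 9 ≤ n) : Quat9 (alternatingGroup (Fin n)) := by
  obtain ⟨f, hf⟩ := H912.Bd.exists_alt_hom (Fin.castLEEmb hn)
  exact quat9_alt9.of_inj f hf

end Cfsg.Agent.H871.Par
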