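import Cfsg.Agent.H905.MdI
import Cfsg.Agent.H871.Par3

/-!
# The sign of an invariant form in the defining characteristic

`R : RGD` on `Y`, `ρ` simple in characteristic `p ≠ 2` with an invariant alternating form: a representative `w` of the
longest element (it conjugates `U` into `U⁻`) has `w * w ≠ 1`.

Application: `P/scalars ≃ PSL(l + 1, K)`, `l` even, `char K = char F ≠ 2`: `P` fixes no alternating form.
-/

set_option autoImplicit false
set_option linter.unusedSectionVars false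
set_option linter.style.haveILetI false

namespace Cfsg.Agent.H871.Sign

open Matrix CoxeterSystem Cfsg.Agent.ChevalleyStructure.CoxeterGeom Cfsg.Agent.Tits.Roots Cfsg.Agent.Tits.Core
  Cfsg.Agent.Nodes.Reps Cfsg.Agent.Nodes.BNOf Cfsg.Agent.Nodes.Bruhat Cfsg.Agent.Omega.CR
  Cfsg.Agent.Omega.FOne.Lift.Sd Cfsg.Agent.Nodes.RootsA Cfsg.Agent.H911 Cfsg.Agent.Nodes.RGDLib
open Cfsg.Agent.LieRecognition.BNCox (cA cA_apply)
open Cfsg.Agent.Tits.Exchange Cfsg.Agent.Nodes.StabComb Cfsg.Agent.Nodes.OppDec Cfsg.Agent.Nodes.LeviDec Cfsg.Agent.KFacts.RgdOpp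
open Cfsg Cfsg.Geo Cfsg.Agent.H67 Cfsg.Agent.H905.Md
open scoped MatrixGroups

section Gen

variable {I W Y : Type*} [Fintype I] [DecidableEq I] [Group W] [Group Y] {M : CoxeterMatrix I}
  {cs : CoxeterSystem M W} {A : I → I → ℤ} {h : IsCartan M A} {p : ℕ} {T : Subgroup Y} {n : I → Y}
  {X : (I → ℤ) → Subgroup Y} {k V : Type*} [Field k] [AddCommGroup V] [Module k V]

/-- **The sign.** -/
theorem form_sign (R : RGD cs h p T n X) [Finite Y] [Finite W] [Fact p.Prime] [CharP k p] [IsAlgClosed k]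
    [FiniteDimensional k V] [Nontrivial V] {ρ : Y →* Module.End k V}
    (hirr : ∀ L : Submodule k V, Ivt ρ (GG cs h T X) L → L = ⊥ ∨ L = ⊤)
    (hT : ∀ s ∈ T, ∀ t ∈ T, s * t = t * s) {B : LinearMap.BilinForm k V} (hB : ∀ u, (∀ v, B u v = 0) → u = 0)
    (hinv : ∀ g u v, B (ρ g u) (ρ g v) = B u v) (halt : B.IsAlt) {w : Y}
    (hw : ∀ u ∈ RGD.Sup X (RGD.Pos cs h), w * u * w⁻¹ ∈ UN cs h X) (hw2 : w * w = 1) : (2 : k) = 0 := by
  obtain ⟨c, hc, hc0, χ, hχ⟩ := exists_chi R hirr hT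
  obtain ⟨φ, hφ, hφc⟩ := exists_pair_D R hirr hc hc0
  -- `φ` is represented by a vector
  have hinj : Function.Injective (B : V →ₗ[k] V →ₗ[k] k) := by
    rw [injective_iff_map_eq_zero]
    intro u hu
    exact hB u fun v => by rw [hu]; rfl
  have hsurj : Function.Surjective (B : V →ₗ[k] V →ₗ[k] k) :=
    (LinearMap.injective_iff_surjective_of_finrank_eq_finrank (Subspace.dual_finrank_eq (K := k) (V := V)).symm).1 hinj
  obtain ⟨y, hy⟩ := hsurj φ
  have hyU : y ∈ fx ρ (UN cs h X) := by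
    intro u hu
    apply hinj
    ext v
    have h1 : B (ρ u y) v = B y (ρ u⁻¹ v) := by
      rw [← hinv u y (ρ u⁻¹ v), rho_rho_inv]
    rw [h1, hy]
    exact dual_fx_pair R hφ (inv_mem hu) v
  have hD : ρ w⁻¹ y ∈ fx ρ (RGD.Sup X (RGD.Pos cs h)) := by
    intro u hu
    have h1 := hyU _ (hw u hu)
    have e : u * w⁻¹ = w⁻¹ * (w * u * w⁻¹) := by group
    rw [← rho_mul, e, rho_mul, h1]
  rw [fx_eq_span R ρ hirr hc hc0 hχ] at hD
  obtain ⟨a, ha⟩ := Submodule.mem_span_singleton.1 hD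
  have h2 : y = a • ρ w c := by
    rw [← map_smul, ha, rho_rho_inv]
  have h3 : B (ρ w c) c = - B (ρ w c) c := by
    have h4 : B (ρ w c) c = B c (ρ w c) := by
      conv_lhs => rw [← hinv w (ρ w c) c]
      rw [← rho_mul, hw2, map_one, Module.End.one_apply]
    conv_lhs => rw [h4]
    exact (halt.neg_eq (ρ w c) c).symm
  have h5 : φ c = a * B (ρ w c) c := by
    rw [← hy, h2, map_smul, LinearMap.smul_apply, smul_eq_mul]
  have h6 : B (ρ w c) c ≠ 0 := by
    intro h0
    rw [h0, mul_zero] at h5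
    exact hφc h5
  have h7 : (2 : k) * B (ρ w c) c = 0 := by linear_combination h3
  exact (mul_eq_zero.1 h7).resolve_right h6

end Gen

section Mat

variable {I W Y : Type*} [Fintype I] [DecidableEq I] [Group W] [Group Y] {M : CoxeterMatrix I}
  {cs : CoxeterSystem M W} {A : I → I → ℤ} {h : IsCartan M A} {p : ℕ} {T : Subgroup Y} {n : I → Y}
  {X : (I → ℤ) → Subgroup Y} {F : Type*} [Field F] {ι : Type} [Fintype ι] [DecidableEq ι]
  {P : Subgroup (GL ι F)}

open H871.Par in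
/-- **The sign, for groups of matrices.** -/
theorem not_fixA (R : RGD cs h p T n X) [Finite Y] [Finite W] [Fact p.Prime] [CharP F p] [Nonempty ι]
    (hG : GG cs h T X = ⊤) (hT : ∀ s ∈ T, ∀ t ∈ T, s * t = t * s) {φ : Y →* GL ι F} (hφ : φ.range = P)
    (hP : ActsAbsolutelyIrreducibly (matrixSet P)) (hA : H915.LD.FixA P) (h2 : (2 : F) ≠ 0) {w : Y}
    (hw : ∀ u ∈ RGD.Sup X (RGD.Pos cs h), w * u * w⁻¹ ∈ UN cs h X) (hw2 : w * w = 1) : False := by
  have hirr := ac_irr R hG hT hφ hP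
  haveI hchar : CharP (AlgebraicClosure F) p := charP_of_injective_algebraMap (algebraMap F _).injective p
  obtain ⟨f, hf, hfix⟩ := hA
  obtain ⟨B, h1, h3, h4⟩ := exists_form hf.bilinear hf.nondegenerate hfix
  have hBalt : B.IsAlt := by
    have hskew : (gram f)ᵀ = - gram f := by
      ext i j
      exact hf.skew _ _
    intro u
    have h5 : B u u = - B u u := by
      conv_lhs => rw [h4, Matrix.dotProduct_mulVec, ← Matrix.mulVec_transpose, dotProduct_comm]
      rw [h4, ← Matrix.transpose_map, hskew]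
      have h6 : (-gram f).map (algebraMap F (AlgebraicClosure F)) = - (gram f).map (algebraMap F (AlgebraicClosure F)) := by
        ext i j
        simp
      rw [h6, Matrix.neg_mulVec, dotProduct_neg]
    have h6 : (2 : AlgebraicClosure F) * B u u = 0 := by linear_combination h5
    exact (mul_eq_zero.1 h6).resolve_left (two_ne h2)
  refine two_ne h2 (form_sign R hirr hT h1 (fun g u v => ?_) hBalt hw hw2)
  have hg : φ g ∈ P := by rw [← hφ]; exact ⟨g, rfl⟩
  have h5 := h3 ⟨φ g, hg⟩ u v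
  rw [repP_apply, repP_apply] at h5
  rw [lin_apply, lin_apply, acRep_apply]
  exact h5

end Mat

section SL

open Cfsg.Agent.Nodes.RGDTypeA

variable {K : Type*} [Field K]

/-- the antidiagonal element of `SL₃` -/
def w3 (K : Type*) [Field K] : SpecialLinearGroup (Fin 3) K :=
  ⟨!![0, 0, 1; 0, -1, 0; 1, 0, 0], by simp [Matrix.det_fin_three]⟩

theorem w3_sq : w3 K * w3 K = 1 := by
  apply Subtype.ext
  change !![0, 0, 1; 0, -1, 0; 1, 0, 0] * !![0, 0, 1; 0, -1, 0; 1, 0, 0] = _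
  ext i j
  fin_cases i <;> fin_cases j <;> simp [Matrix.mul_apply, Fin.sum_univ_succ]

theorem mono_w3 : Mono (Equiv.swap 0 2 : Equiv.Perm (Fin 3)) (w3 K) := by
  intro a b hab
  change (!![0, 0, 1; 0, -1, 0; 1, 0, 0] : Matrix (Fin 3) (Fin 3) K) a b ≠ 0 at hab
  fin_cases a <;> fin_cases b <;> first | rfl | (exfalso; apply hab; rfl)

theorem w3_U (u : SpecialLinearGroup (Fin 3) K)
    (hu : u ∈ RGD.Sup (X K) (RGD.Pos (cA 2).toCoxeterSystem (isCartan 2))) :
    w3 K * u * (w3 K)⁻¹ ∈ UN (cA 2).toCoxeterSystem (isCartan 2) (X K) := by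
  have h1 : RGD.Sup (X K) (RGD.Pos (cA 2).toCoxeterSystem (isCartan 2)) ≤
      (UN (cA 2).toCoxeterSystem (isCartan 2) (X K)).comap (MulAut.conj (w3 K)).toMonoidHom := by
    refine RGD.Sup_le fun z hz => ?_
    obtain ⟨a, b, hab, rfl⟩ := exists_of_isRoot _ _ hz.1
    intro x hx
    rw [X_rtA hab] at hx
    have hlt : a < b := lt_of_le_of_ne (rtA_nonneg_iff.1 hz.2) hab
    have h2 : (Equiv.swap (0 : Fin 3) 2) b ≤ (Equiv.swap (0 : Fin 3) 2) a :=
      (by decide : ∀ a b : Fin 3, a < b → (Equiv.swap (0 : Fin 3) 2) b ≤ (Equiv.swap (0 : Fin 3) 2) a) a b hlt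
    have h3 : w3 K * x * (w3 K)⁻¹ ∈ cj (w3 K) (XX K a b) := conj_mem_cj.2 hx
    rw [mono_w3.cj_XX hab, ← X_rtA (fun e => hab ((Equiv.injective _) e))] at h3
    have h4 : X K (rtA ((Equiv.swap (0 : Fin 3) 2) a) ((Equiv.swap (0 : Fin 3) 2) b)) ≤
        UN (cA 2).toCoxeterSystem (isCartan 2) (X K) :=
      RGD.le_Sup (S := Neg (cA 2).toCoxeterSystem (isCartan 2))
        ⟨isRoot_rtA _ _ (fun e => hab ((Equiv.injective _) e)), by
          rw [← rtA_neg, neg_nonpos, rtA_nonneg_iff]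
          exact h2⟩
    exact h4 h3
  exact h1 hu

/-- **`PSL₃` in odd defining characteristic fixes no alternating form.** -/
theorem not_fixA_psl3 {F : Type*} [Field F] [Finite F] {ι : Type} [Fintype ι] [DecidableEq ι] {P : Subgroup (GL ι F)}
    {K : Type*} [Field K] [Finite K] (p : ℕ) [hp : Fact p.Prime] [hFp : CharP F p] [hKp : CharP K p] (h2 : (2 : F) ≠ 0)
    (hC : H915.LD.Core P) (hA : H915.LD.FixA P) (e : H915.LD.Soc P ≃* ProjectiveSpecialLinearGroup (Fin 3) K) :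
    False := by
  obtain ⟨φ, hφ, -, -⟩ := psl_cover (l := 2) p hC.perfect (by norm_num) (fun h => by omega) e
  haveI := hC.nonempty
  haveI : Finite (cA 2).Group := finite_W (cA 2).toCoxeterSystem (isCartan 2)
  exact not_fixA (Nodes.RGDTypeA.rgd (cA 2).toCoxeterSystem (isCartan 2) (F := K) (p := p))
    (gg_eq_top (Nodes.RGDTypeA.G1_eq_top _ _)) slT_comm hφ hC.absIrred hA h2 w3_U w3_sq

end SL

end Cfsg.Agent.H871.Sign
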