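import Cfsg.Agent.H879.TL.SpBlk
import Cfsg.Agent.H879.TL.Adapt
import Cfsg.Agent.H905.MdL
import Cfsg.Agent.H871.A7Reg

/-!
# `PSp₆(q)`, `q` odd, does not occur in dimension eight

**`sp6_eight`** : `P ≤ GL₈(F)` a core, `char F = char K = p ≠ 2`: `Soc P` is not `PSp₆(K)`. The three involutions
`z_i = diag(-1 at e_i, f_i)` of `Sp₆(K)` are conjugate, and their product is `-1`. If it acts as `-1`, either all
`z_i = -1` (the weight `(-,-,-)` has dimension at least `8`) or `8 = 3a`.
-/

set_option autoImplicit false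
set_option linter.unusedSectionVars false

namespace Cfsg.Agent.H871.Sp6E

open Module Equiv Matrix Cfsg.Agent.H879.TL Cfsg.Agent.H637.JW Cfsg.Agent.H879.TL.Sp

section rep

variable {F : Type*} [Field F] {K : Type*} [Field K] [IsAlgClosed K] {V : Type*} [AddCommGroup V] [Module K V]
  [FiniteDimensional K V] {σ : symplecticGroup (Fin 3) F →* Module.End K V}

theorem negOne_eq {a b : F} (h : a ^ 2 + b ^ 2 = -1) :
    negOne 3 F = (qb 3 h).z 0 * (qb 3 h).z 1 * (qb 3 h).z 2 := by
  change bl (fun _ => nI) = bl (Pi.mulSingle 0 nI) * bl (Pi.mulSingle 1 nI) * bl (Pi.mulSingle 2 nI)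
  rw [← map_mul, ← map_mul]
  congr 1
  funext i
  rw [Pi.mul_apply, Pi.mul_apply]
  fin_cases i
  · change nI = (Pi.mulSingle 0 nI : Fin 3 → SpecialLinearGroup (Fin 2) F) 0 *
      (Pi.mulSingle 1 nI : Fin 3 → SpecialLinearGroup (Fin 2) F) 0 *
      (Pi.mulSingle 2 nI : Fin 3 → SpecialLinearGroup (Fin 2) F) 0
    rw [Pi.mulSingle_eq_same, Pi.mulSingle_eq_of_ne (by decide), Pi.mulSingle_eq_of_ne (by decide), mul_one, mul_one]
  · change nI = (Pi.mulSingle 0 nI : Fin 3 → SpecialLinearGroup (Fin 2) F) 1 *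
      (Pi.mulSingle 1 nI : Fin 3 → SpecialLinearGroup (Fin 2) F) 1 *
      (Pi.mulSingle 2 nI : Fin 3 → SpecialLinearGroup (Fin 2) F) 1
    rw [Pi.mulSingle_eq_same, Pi.mulSingle_eq_of_ne (by decide), Pi.mulSingle_eq_of_ne (by decide), mul_one, one_mul]
  · change nI = (Pi.mulSingle 0 nI : Fin 3 → SpecialLinearGroup (Fin 2) F) 2 *
      (Pi.mulSingle 1 nI : Fin 3 → SpecialLinearGroup (Fin 2) F) 2 *
      (Pi.mulSingle 2 nI : Fin 3 → SpecialLinearGroup (Fin 2) F) 2
    rw [Pi.mulSingle_eq_same, Pi.mulSingle_eq_of_ne (by decide), Pi.mulSingle_eq_of_ne (by decide), one_mul, one_mul]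

/-- In dimension eight, if the central involution acts as `-1`, so does the first involution. -/
theorem z_neg (h2 : (2 : K) ≠ 0) (hσ : σ (negOne 3 F) = -1) (h8 : finrank K V = 8) {a b : F}
    (h : a ^ 2 + b ^ 2 = -1) : σ ((qb 3 h).z 0) = -1 := by
  classical
  set q := qb 3 h with hq
  have hzz : ∀ i v, σ (q.z i) (σ (q.z i) v) = v := by
    intro i v
    rw [← H637.JW.mul_apply', q.zz, map_one, Module.End.one_apply]
  have hcom : ∀ i j v, σ (q.z i) (σ (q.z j) v) = σ (q.z j) (σ (q.z i) v) := by
    intro i j v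
    rw [← H637.JW.mul_apply', ← H637.JW.mul_apply', q.z_comm_z]
  have hprod : ∀ v, σ (q.z 0) (σ (q.z 1) (σ (q.z 2) v)) = -v := by
    intro v
    have h1 := congrArg (fun T : Module.End K V => T v) hσ
    change σ (negOne 3 F) v = -v at h1
    rw [negOne_eq h, ← hq, H637.JW.mul_apply', H637.JW.mul_apply'] at h1
    exact h1
  let U : Submodule K V :=
    { carrier := {v | ∀ i, σ (q.z i) v = -v}
      add_mem' := fun {a b} ha hb i => by rw [map_add, ha i, hb i, neg_add]
      zero_mem' := fun i => by rw [map_zero, neg_zero]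
      smul_mem' := fun c v hv i => by rw [map_smul, hv i, smul_neg] }
  have hUm : ∀ v, v ∈ U ↔ ∀ i, σ (q.z i) v = -v := fun v => Iff.rfl
  by_cases hU : U = ⊥
  · exfalso
    have hkill : ∀ w, σ (q.z 0) w = -w → σ (q.z 1) w = -w → w = 0 := by
      intro w h0 h1
      have h3 : w ∈ U := by
        rw [hUm]
        intro i
        fin_cases i
        · exact h0
        · exact h1
        · change σ (q.z 2) w = -w
          have h4 := hprod w
          rw [hcom 1 2, h1, map_neg, map_neg, hcom 0 2, h0, map_neg, neg_neg] at h4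
          exact h4
      rw [hU] at h3
      exact (Submodule.mem_bot K).1 h3
    have hperm : ∀ π : Perm (Fin 3), ∀ i, finrank K ((σ (q.z i)).eigenspace (-1)) ≤
        finrank K ((σ (q.z (π i))).eigenspace (-1)) := by
      intro π i
      refine finrank_le_of_map (σ := σ) (pm π) fun v hv => ?_
      rw [End.mem_eigenspace_iff] at hv ⊢
      rw [← qb_sym h π i, ← hq, ← H637.JW.mul_apply', inv_mul_cancel_right, H637.JW.mul_apply', hv, map_smul]
    have h01 : finrank K ((σ (q.z 0)).eigenspace (-1)) = finrank K ((σ (q.z 1)).eigenspace (-1)) :=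
      le_antisymm (by have := hperm (swap 0 1) 0; rwa [swap_apply_left] at this) (by have := hperm (swap 0 1) 1; rwa [swap_apply_right] at this)
    have h02 : finrank K ((σ (q.z 0)).eigenspace (-1)) = finrank K ((σ (q.z 2)).eigenspace (-1)) :=
      le_antisymm (by have := hperm (swap 0 2) 0; rwa [swap_apply_left] at this) (by have := hperm (swap 0 2) 2; rwa [swap_apply_right] at this)
    -- pairs
    have hkill' : ∀ i j : Fin 3, i ≠ j → ∀ w, σ (q.z i) w = -w → σ (q.z j) w = -w → w = 0 := by
      intro i j hij w h0 h1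
      obtain ⟨k, hk1, hk2, hk⟩ : ∃ k : Fin 3, k ≠ i ∧ k ≠ j ∧ ∀ l : Fin 3, l = i ∨ l = j ∨ l = k := by
        clear h0 h1
        revert i j; decide
      have h5 : ∀ v, σ (q.z i) (σ (q.z j) (σ (q.z k) v)) = -v := by
        intro v
        have h6 := hprod v
        revert h6
        fin_cases i <;> fin_cases j <;> fin_cases k <;>
          first
          | exact absurd rfl hij
          | exact absurd rfl hk1
          | exact absurd rfl hk2
          | (intro h6; exact h6)
          | skip
        · intro h6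
          change σ (q.z 0) (σ (q.z 2) (σ (q.z 1) v)) = -v
          rw [hcom 2 1, h6]
        · intro h6
          change σ (q.z 1) (σ (q.z 0) (σ (q.z 2) v)) = -v
          rw [hcom 1 0, h6]
        · intro h6
          change σ (q.z 1) (σ (q.z 2) (σ (q.z 0) v)) = -v
          rw [hcom 2 0, hcom 1 0, h6]
        · intro h6
          change σ (q.z 2) (σ (q.z 0) (σ (q.z 1) v)) = -v
          rw [hcom 2 0, hcom 2 1, h6]
        · intro h6
          change σ (q.z 2) (σ (q.z 1) (σ (q.z 0) v)) = -v
          rw [hcom 1 0, hcom 2 0, hcom 2 1, h6]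
      have h7 : σ (q.z k) w = -w := by
        have h4 := h5 w
        rw [hcom j k, h1, map_neg, map_neg, hcom i k, h0, map_neg, neg_neg] at h4
        exact h4
      apply hkill
      · rcases hk 0 with e | e | e <;> rw [e] <;> assumption
      · rcases hk 1 with e | e | e <;> rw [e] <;> assumption
    have hone : ∀ i j : Fin 3, i ≠ j → ∀ v, σ (q.z i) v = -v → σ (q.z j) v = v := by
      intro i j hij v hv
      have h3 : v - σ (q.z j) v = 0 := by
        apply hkill' i j hij
        · rw [map_sub, hcom i j, hv, map_neg]; abel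
        · rw [map_sub, hzz]; abel
      exact (sub_eq_zero.1 h3).symm
    have e1 := A7.split2 (K := K) h2 (T := σ (q.z 0)) (U := ⊤) (fun _ _ => trivial) (fun v _ => hzz 0 v)
    have e2 := A7.split2 (K := K) h2 (T := σ (q.z 1)) (U := ⊤ ⊓ (σ (q.z 0)).eigenspace 1) (fun v hv => by
      refine ⟨trivial, ?_⟩
      have hv1 := End.mem_eigenspace_iff.1 hv.2
      apply End.mem_eigenspace_iff.2
      rw [hcom, hv1, map_smul]) (fun v _ => hzz 1 v)
    have e3 : (⊤ : Submodule K V) ⊓ (σ (q.z 0)).eigenspace (-1) = (σ (q.z 0)).eigenspace (-1) := top_inf_eq _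
    have e4 : (⊤ ⊓ (σ (q.z 0)).eigenspace 1) ⊓ (σ (q.z 1)).eigenspace (-1) = (σ (q.z 1)).eigenspace (-1) := by
      apply le_antisymm inf_le_right
      intro v hv
      refine ⟨⟨trivial, ?_⟩, hv⟩
      have hv1 := End.mem_eigenspace_iff.1 hv
      rw [neg_smul, one_smul] at hv1
      apply End.mem_eigenspace_iff.2
      rw [one_smul]
      exact hone 1 0 (by decide) v hv1
    have e5 : (⊤ ⊓ (σ (q.z 0)).eigenspace 1) ⊓ (σ (q.z 1)).eigenspace 1 = (σ (q.z 2)).eigenspace (-1) := by
      apply le_antisymm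
      · rintro v ⟨⟨-, hv0⟩, hv1⟩
        have h0 := End.mem_eigenspace_iff.1 hv0
        have h1 := End.mem_eigenspace_iff.1 hv1
        rw [one_smul] at h0 h1
        apply End.mem_eigenspace_iff.2
        rw [neg_smul, one_smul]
        have h3 := hprod v
        rw [hcom 1 2, h1, hcom 0 2, h0] at h3
        exact h3
      · intro v hv
        have hv1 := End.mem_eigenspace_iff.1 hv
        rw [neg_smul, one_smul] at hv1
        refine ⟨⟨trivial, ?_⟩, ?_⟩
        · apply End.mem_eigenspace_iff.2
          rw [one_smul]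
          exact hone 2 0 (by decide) v hv1
        · apply End.mem_eigenspace_iff.2
          rw [one_smul]
          exact hone 2 1 (by decide) v hv1
    rw [e3, e2, e4, e5, finrank_top, h8] at e1
    omega
  · have h3 := q.two_pow_le (σ := σ) h2 Finset.univ U hU (fun i _ v hv => by
      rw [hUm] at hv ⊢
      intro k
      rw [← H637.JW.mul_apply', q.z_comm_x, H637.JW.mul_apply', hv, map_neg]) (fun i _ v hv => by
      rw [hUm] at hv ⊢
      intro k
      rw [← H637.JW.mul_apply', q.z_comm_y, H637.JW.mul_apply', hv, map_neg]) (fun i _ v hv => hv i)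
    have h4 : U = ⊤ := by
      apply Submodule.eq_top_of_finrank_eq
      have h5 := Submodule.finrank_le U
      rw [Finset.card_univ, Fintype.card_fin] at h3
      omega
    ext v
    have h5 : v ∈ U := by rw [h4]; trivial
    exact h5 0

end rep

theorem z_not_center {F : Type*} [Field F] (h2 : (2 : F) ≠ 0) {a b : F} (h : a ^ 2 + b ^ 2 = -1) :
    (qb 3 h).z 0 ∉ Subgroup.center (symplecticGroup (Fin 3) F) := by
  intro h4
  rw [Subgroup.mem_center_iff] at h4
  have h5 := h4 (pm (swap (0 : Fin 3) 1))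
  have h6 := qb_sym h (swap (0 : Fin 3) 1) 0
  rw [h5, mul_inv_cancel_right, swap_apply_left] at h6
  have h7 : (Pi.mulSingle 0 nI : Fin 3 → SpecialLinearGroup (Fin 2) F) = Pi.mulSingle 1 nI := bl_injective h6
  have h8 := congrFun h7 0
  rw [Pi.mulSingle_eq_same, Pi.mulSingle_eq_of_ne (by decide)] at h8
  exact nI_ne h2 h8

open Cfsg Cfsg.Geo Cfsg.Agent.H915.LD

universe u

variable {F : Type u} [Field F] [Finite F] {ι : Type} [Fintype ι] [DecidableEq ι] {P : Subgroup (GL ι F)}
  {p : ℕ} [hp : Fact p.Prime] [CharP F p] {K : Type} [Field K] [Finite K] [CharP K p]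

include hp in
theorem two_ne_zero_of {E : Type*} [Field E] [CharP E p] (h2 : p ≠ 2) : (2 : E) ≠ 0 := by
  intro h
  have h1 : ((2 : ℕ) : E) = 0 := by exact_mod_cast h
  rw [CharP.cast_eq_zero_iff E p] at h1
  exact h2 ((Nat.prime_dvd_prime_iff_eq hp.out Nat.prime_two).1 h1)

variable (p) in
include hp in
/-- **`PSp₆(q)`, `q` odd, in dimension eight.** -/
theorem sp6_eight (hC : Core P) (hp2 : p ≠ 2) (e : Soc P ≃* PSp 3 K) (h8 : Fintype.card ι = 8) : False := by
  have := Fintype.ofFinite K
  obtain ⟨φ, hr, hker, hcomp⟩ := H905.Md.psp_cover p hC.perfect (by norm_num) (Or.inl le_rfl) e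
  have hF2 : (2 : F) ≠ 0 := two_ne_zero_of (p := p) hp2
  have hK2 : (2 : K) ≠ 0 := two_ne_zero_of (p := p) hp2
  have hc2 := two_ne_clo hF2
  obtain ⟨a, b, hab⟩ := exists_sq_add_sq (F := K)
  let σ : symplecticGroup (Fin 3) K →* Module.End (AlgebraicClosure F) (ι → AlgebraicClosure F) := (clo ι F).comp φ
  have hdim : finrank (AlgebraicClosure F) (ι → AlgebraicClosure F) = 8 := by rw [finrank_clo, h8]
  have hs1 : ∀ g, σ g = 1 → g ∈ Subgroup.center (symplecticGroup (Fin 3) K) := fun g hg =>
    hker (MonoidHom.mem_ker.2 (clo_injective hg))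
  -- the central involution
  obtain ⟨hmem, h1⟩ := hcomp (negOne 3 K)
  have h3 : (φ (negOne 3 K)) ∈ scalars ι F := by
    have h4 : (⟨φ (negOne 3 K), hmem⟩ : P) ∈ (H905.Md.prj e).ker := by
      rw [MonoidHom.mem_ker, h1]
      exact (QuotientGroup.eq_one_iff _).2 negOne_mem_center
    rw [H905.Md.prj_ker] at h4
    exact Subgroup.mem_subgroupOf.1 h4
  rw [mem_scalars_iff] at h3
  obtain ⟨c, hc⟩ := h3
  have hsq : negOne 3 K * negOne 3 K = 1 := by
    apply Subtype.ext
    change (negOne 3 K).1 * (negOne 3 K).1 = 1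
    rw [negOne_coe, neg_mul_neg, one_mul]
  have hne := hC.nonempty
  obtain ⟨i⟩ := hne
  have hcc : (c : F) * c = 1 := by
    have h4 : φ (negOne 3 K) * φ (negOne 3 K) = 1 := by rw [← map_mul, hsq, map_one]
    have h5 := congrArg (fun g : GL ι F => (g : Matrix ι ι F) i i) h4
    simp only [Units.val_mul, hc, Units.val_one] at h5
    simpa using h5
  have hz := z_not_center hK2 hab
  rcases mul_self_eq_one_iff.1 hcc with h4 | h4
  · have h5 : σ (negOne 3 K) = 1 := by
      have h6 : φ (negOne 3 K) = 1 := by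
        apply Units.ext
        rw [hc, h4, one_smul]
        rfl
      change clo ι F (φ (negOne 3 K)) = 1
      rw [h6, map_one]
    exact hz (hs1 _ (sp_twelve (m := 3) le_rfl hc2 h5 (by rw [hdim]; norm_num) hab 0))
  · have h5 : σ (negOne 3 K) = -1 := by
      apply LinearMap.ext
      intro v
      change clo ι F (φ (negOne 3 K)) v = -v
      rw [clo_apply, hc, h4]
      have h6 : ((-1 : F) • (1 : Matrix ι ι F)).map (algebraMap F (AlgebraicClosure F)) = -1 := by
        ext i j
        rw [Matrix.map_apply, Matrix.smul_apply, Matrix.neg_apply, Matrix.one_apply, Matrix.one_apply]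
        split_ifs <;> simp
      rw [h6, Matrix.neg_mulVec, Matrix.one_mulVec]
    have h6 := z_neg hc2 h5 hdim hab
    have h7 : (qb 3 hab).z 0 * negOne 3 K ∈ Subgroup.center (symplecticGroup (Fin 3) K) := by
      apply hs1
      rw [map_mul, h5, h6]
      exact LinearMap.ext fun v => neg_neg v
    apply hz
    have h8 := (Subgroup.center (symplecticGroup (Fin 3) K)).mul_mem h7 (negOne_mem_center (m := 3) (F := K))
    rwa [mul_assoc, hsq, mul_one] at h8

end Cfsg.Agent.H871.Sp6E
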