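import Cfsg.Agent.H936.List12c
import Cfsg.Agent.H937.G24.Row
import Cfsg.Agent.H912.Reidx
import Cfsg.Agent.H937.T2Rep
import Cfsg.Agent.H464.L2StageOne
import Cfsg.Agent.H659.U3Stage
import Cfsg.Agent.H659.Sp4Stage
import Cfsg.Agent.H36.U52.Main
import Cfsg.Agent.H95.JT.Core
import Cfsg.Agent.H878.Sz.MainThree
import Cfsg.Agent.H878.Sz.MainP3
import Cfsg.Agent.H814.SzEightCore
import Cfsg.Agent.H871.A7Fin
import Cfsg.Agent.H871.Par5
import Cfsg.Agent.H871.Par6
import Cfsg.Agent.H871.Par7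
import Cfsg.Agent.H871.Par8
import Cfsg.Agent.H871.Par9
import Cfsg.Agent.S0253

/-!
# `Sp₈(q)`, `q` odd: the simple groups that are not of Lie type in the defining characteristic
-/

set_option autoImplicit false
set_option linter.unusedSectionVars false

namespace Cfsg.Agent.H871.Sp8

open Matrix Cfsg Cfsg.Geo Cfsg.Agent.H915.LD
open H912.Bd (IsL IsU IsS IsOP)

universe u

variable {F : Type u} [Field F] [Fintype F] {ι : Type} [Fintype ι] [DecidableEq ι] {P : Subgroup (GL ι F)} (p : ℕ)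
  [hp : Fact p.Prime] [hFp : CharP F p]

include hp hFp in
theorem ne_zero_of {r : ℕ} (hr : r.Prime) (h : p ≠ r) : (r : F) ≠ 0 := H936.List12.cast_ne hr (Ne.symm h)

include hp hFp in
theorem cross8 (hp2 : p ≠ 2) (hC : Core P) (h8 : Fintype.card ι = 8) (hA : FixA P) (hk : IsKnownSimple' (Soc P))
    (hL : ¬ IsLieTypeChar p (Soc P)) (hJ2 : ¬ Spor.IsoJ2 (Soc P)) :
    (∃ (K : Type) (_ : Field K) (_ : Fintype K), Fintype.card K = 7 ∧ p ≠ 7 ∧
      Nonempty (Soc P ≃* ProjectiveSpecialLinearGroup (Fin 2) K)) ∨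
    Nonempty (Soc P ≃* alternatingGroup (Fin 6)) ∨
    (∃ (K : Type) (_ : Field K) (_ : Fintype K), Fintype.card K = 17 ∧ p ≠ 17 ∧
      Nonempty (Soc P ≃* ProjectiveSpecialLinearGroup (Fin 2) K)) := by
  have hs := hC.simple
  have hne := hC.nonempty
  let ε : ι ≃ Fin 8 := Fintype.equivFinOfCardEq h8
  have hC' := H912.Rx.core_re ε hC
  have E : Soc (H912.Rx.re ε P) ≃* Soc P := (H912.Rx.socEquiv ε).symm
  have hF2 : (2 : F) ≠ 0 := by exact_mod_cast ne_zero_of p Nat.prime_two hp2 (F := F)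
  have hpa : ∀ {T : Type} [Group T], (Soc P ≃* T) → Par.PA F 8 T := by
    intro T _ e
    have h1 := Par.pa_of_fixA hA hF2 e
    rwa [h8] at h1
  have hfrob : ∀ {T : Type} [Group T], (Soc P ≃* T) → Par.Frob8 T → False := by
    intro T _ e hT
    have h1 := (hpa e).of_frob8 hF2 hT
    omega
  have hquat : ∀ {T : Type} [Group T], p ≠ 3 → (Soc P ≃* T) → Par.Quat9 T → False := by
    intro T _ h3 e hT
    have h3' : (3 : F) ≠ 0 := by exact_mod_cast ne_zero_of p Nat.prime_three h3 (F := F)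
    have h1 := (hpa e).of_quat9 hF2 h3' hT
    omega
  have hmat : ∀ {T : Type} [Group T], (Soc P ≃* T) → Par.Quat9 T → Par.Frob11 T → False := by
    intro T _ e hT hT'
    by_cases h3 : p = 3
    · have h11 : ((11 : ℕ) : F) ≠ 0 := ne_zero_of p (r := 11) (by norm_num) (by omega)
      have h1 := (hpa e).pd.of_frob11 (by exact_mod_cast h11) hT'
      omega
    · exact hquat h3 e hT
  have hlist := H936.List12.list (p := p) (by rw [h8]; norm_num) hC hk hL
  rw [h8] at hlist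
  rcases hlist with h | h | h | h | h
  · -- alternating groups
    obtain ⟨m, h5, -, -, -, -, ⟨e⟩⟩ := h
    rcases (show m = 5 ∨ m = 6 ∨ m = 7 ∨ 8 ≤ m by omega) with rfl | rfl | rfl | hm
    · exfalso
      by_cases hp5 : p = 5
      · subst hp5
        apply hL
        have : Fact (Nat.Prime 5) := ⟨by norm_num⟩
        obtain ⟨f⟩ := Cfsg.Agent.S0253.result (F := ZMod 5) (ZMod.card 5)
        exact Or.inl ⟨ZMod 5, inferInstance, inferInstance, inferInstance, 2, le_rfl, fun _ => by simp,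
          ⟨e.trans f.symm⟩⟩
      · have h1 := H937.T2.a5_dims (p := p) hC e hp5
        rw [h8] at h1
        revert h1
        decide
    · exact Or.inr (Or.inl ⟨e⟩)
    · exact (A7.a7_eight hC hA hF2 e h8).elim
    · exact (hfrob e (Par.frob8_alt hm)).elim
  · -- classical groups
    rcases h with ⟨q, hq, hpq, hqn, K, i1, i2, hK, ⟨e⟩⟩ | ⟨h1, -, K, i1, i2, hK, ⟨e⟩⟩ | ⟨h1, -, K, i1, i2, hK, ⟨e⟩⟩ |
      ⟨-, h1, -⟩ | ⟨h1, h2, -, K, i1, i2, hK, ⟨e⟩⟩ | ⟨h1, -, K, i1, i2, hK, ⟨e⟩⟩ | ⟨-, h1, -⟩ |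
      ⟨h1, -, K, i1, i2, hK, ⟨e⟩⟩ | ⟨h1, -, K, i1, i2, hK, ⟨e⟩⟩
    · simp only [Finset.mem_insert, Finset.mem_singleton] at hq
      have h5 := H464.Sl2.l2_degrees p hC (K := K) (by rw [hK]; omega) (by rw [hK]; omega) (by rwa [hK]) e
        (by rw [h8]; norm_num)
      rw [h8] at h5
      simp only [Finset.mem_insert, Finset.mem_singleton] at h5
      have hq' : q = 7 ∨ q = 8 ∨ q = 17 := by omega
      rcases hq' with rfl | rfl | rfl
      · left
        refine ⟨K, i1, i2, hK, ?_, ⟨e⟩⟩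
        rintro rfl
        exact hpq (dvd_refl 7)
      · exact (hfrob e (Par.frob8_psl2 hK)).elim
      · right; right
        refine ⟨K, i1, i2, hK, ?_, ⟨e⟩⟩
        rintro rfl
        exact hpq (dvd_refl 17)
    · have : CharP K 3 := H936.List12.charP_of_dvd Nat.prime_three (by rw [hK])
      exact (hquat h1 e Par.quat9_psl3).elim
    · exfalso
      have h5 := (H659.U3.u33_stage hC p hp2 h1 (by rw [h8]; norm_num) hK e).2
      rw [h8] at h5
      omega
    · omega
    · exfalso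
      have h5 := H659.Sp4.u42_stage' hC p h1 h2 (by rw [h8]; norm_num) hK e
      rw [h8] at h5
      omega
    · exfalso
      have h5 := H36.U52.t6 hC' p h1 (by norm_num) hK (E.trans e)
      omega
    · omega
    · have : CharP K 2 := H936.List12.charP_of_dvd Nat.prime_two (by rw [hK])
      exact (hfrob e Par.frob8_psp).elim
    · have : CharP K 2 := H936.List12.charP_of_dvd Nat.prime_two (by rw [hK])
      exact (hfrob e (Par.frob8_plus (by norm_num))).elim
  · -- exceptional multipliers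
    rcases h with ⟨h1, -, ⟨K, i1, i2, hK, ⟨e⟩⟩ | ⟨K, i1, i2, hK, ⟨e⟩⟩ | ⟨h2, K, i1, i2, hK, ⟨e⟩⟩ | ⟨K, i1, i2, hK, ⟨e⟩⟩ |
      ⟨K, i1, i2, hK, ⟨e⟩⟩ | h⟩ | ⟨-, h1, -⟩
    · left
      refine ⟨K, i1, i2, hK, ?_, ⟨e⟩⟩
      rintro rfl
      apply hL
      have : CharP K 7 := H936.List12.charP_of_dvd (by norm_num) (by rw [hK])
      exact Or.inl ⟨K, i1, i2, inferInstance, 2, le_rfl, fun _ => by rw [hK]; norm_num, ⟨e⟩⟩
    · exfalso
      have h5 := (hpa e).psl34 hF2 hK (MulEquiv.refl _)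
      omega
    · exfalso
      have h5 := H659.Sp4.u42_stage' hC p h1 h2 (by rw [h8]; norm_num) hK e
      rw [h8] at h5
      omega
    · have : CharP K 2 := H936.List12.charP_of_dvd Nat.prime_two (by rw [hK])
      exact (hfrob e Par.frob8_psp).elim
    · have : CharP K 2 := H936.List12.charP_of_dvd Nat.prime_two (by rw [hK])
      exact (hfrob e (Par.frob8_plus (by norm_num))).elim
    · exfalso
      have h5 := (H937.G24.row hC h p hp2 (by rw [h8]; norm_num)).1
      omega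
    · omega
  · -- `Sz(8)`
    exact ((H814.Sz8.core_sz8 hC hF2 (by rw [h8]; norm_num) h.2.2).2.2.1 hA).elim
  · -- sporadic groups
    rcases h with ⟨⟨e⟩⟩ | ⟨⟨e⟩⟩ | ⟨⟨e⟩⟩ | ⟨⟨e⟩⟩ | ⟨⟨e⟩⟩ | ⟨⟨e⟩⟩ | h | h | ⟨⟨e⟩⟩
    · exact (hmat e Par.quat9_M11 Par.frob11_M11).elim
    · exact (hmat e Par.quat9_M12 Par.frob11_M12).elim
    · exact (hmat e Par.quat9_M22 Par.frob11_M22).elim
    · exact (hmat e Par.quat9_M23 Par.frob11_M23).elim
    · exact (hmat e Par.quat9_M24 Par.frob11_M24).elim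
    · exact (hfrob e Par.frob8_J1).elim
    · exact (hJ2 h).elim
    · exact (hp2 (H95.JT.j3 p hC h (by rw [h8]; norm_num)).1).elim
    · exfalso
      by_cases h3 : p = 3
      · subst h3
        have h5 := (H878.Sz.core_Suz_three hC e (by rw [h8]; norm_num)).1
        rw [h8] at h5
        omega
      · have h5 := (H878.Sz.core_Suz hC e (by rw [h8]; norm_num) p h3).1
        rw [h8] at h5
        omega

end Cfsg.Agent.H871.Sp8
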