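import Cfsg.Agent.H871.Sp8Own
import Cfsg.Agent.H871.Sp8Cross
import Cfsg.Agent.H875.PslRows
import Cfsg.Agent.H464.L2Num
import Cfsg.Agent.H937.T2Fields

/-!
# S5824, odd characteristic
-/

set_option autoImplicit false
set_option linter.unusedSectionVars false

namespace Cfsg.Agent.H871.Sp8

open Matrix Cfsg Cfsg.Geo Cfsg.Agent.H915.LD

universe u

variable {F : Type u} [Field F] [Fintype F]

/-- the conclusion of S5824 for the core `P` -/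
def Concl (P : Subgroup (Matrix.GeneralLinearGroup (Fin 4 ⊕ Fin 4) F)) (p : ℕ) : Prop :=
    ((Nonempty ((P ⧸ (Cfsg.Geo.scalars (Fin 4 ⊕ Fin 4) F).subgroupOf P) ≃* Matrix.ProjectiveSpecialLinearGroup (Fin 2) (ZMod 7)) ∧ Fintype.card F = p ∧ 5 ≤ p ∧ p ≠ 7) ∨
     (Nonempty ((P ⧸ (Cfsg.Geo.scalars (Fin 4 ⊕ Fin 4) F).subgroupOf P) ≃* alternatingGroup (Fin 6)) ∧ ((Fintype.card F = p ∧ (p % 20 = 1 ∨ p % 20 = 19 ∨ p % 20 = 9 ∨ p % 20 = 11)) ∨ (Fintype.card F = p ^ 2 ∧ p ≠ 2 ∧ p ≠ 3 ∧ (p % 5 = 2 ∨ p % 5 = 3)))) ∨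
     (Nonempty ((P ⧸ (Cfsg.Geo.scalars (Fin 4 ⊕ Fin 4) F).subgroupOf P) ≃* Matrix.ProjectiveSpecialLinearGroup (Fin 2) (ZMod 17)) ∧ ((Fintype.card F = p ∧ (p % 17 = 1 ∨ p % 17 = 16 ∨ p % 17 = 2 ∨ p % 17 = 15 ∨ p % 17 = 4 ∨ p % 17 = 13 ∨ p % 17 = 8 ∨ p % 17 = 9)) ∨ (Fintype.card F = p ^ 2 ∧ (p % 17 = 3 ∨ p % 17 = 14 ∨ p % 17 = 5 ∨ p % 17 = 12 ∨ p % 17 = 6 ∨ p % 17 = 11 ∨ p % 17 = 7 ∨ p % 17 = 10)))) ∨
     (Nonempty ((P ⧸ (Cfsg.Geo.scalars (Fin 4 ⊕ Fin 4) F).subgroupOf P) ≃* alternatingGroup (Fin 10)) ∧ Fintype.card F = 2) ∨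
     (Nonempty ((P ⧸ (Cfsg.Geo.scalars (Fin 4 ⊕ Fin 4) F).subgroupOf P) ≃* Matrix.ProjectiveSpecialLinearGroup (Fin 2) F) ∧ 11 ≤ p) ∨
     ((∃ (K : Type) (_ : Field K) (_ : Fintype K), Fintype.card K = Fintype.card F ^ 3 ∧ Nonempty ((P ⧸ (Cfsg.Geo.scalars (Fin 4 ⊕ Fin 4) F).subgroupOf P) ≃* Matrix.ProjectiveSpecialLinearGroup (Fin 2) K)) ∧ Odd (Fintype.card F)))

variable {H P : Subgroup (GL (Fin 4 ⊕ Fin 4) F)} (p : ℕ) [hp : Fact p.Prime] [hFp : CharP F p]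

include hp hFp in
theorem odd_row (hp2 : p ≠ 2) (hH : IsMaximalIn (spGL 4 F) H) (hc : IsResidualCore H P)
    (hk : IsKnownSimple' (Soc P)) (hJ2 : ¬ Spor.IsoJ2 (Soc P)) : Concl P p := by
  have hC := core_of_residual hc
  have hle : P ≤ spGL 4 F := hc.le.trans hH.1.le
  have hA : FixA P := ⟨_, H924.isSymplecticForm_sympForm, by
    rintro _ ⟨g, hg, rfl⟩ u v
    exact hle hg u v⟩
  have h8 : Fintype.card (Fin 4 ⊕ Fin 4) = 8 := by simp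
  have hodd : Odd (Fintype.card F) := by
    obtain ⟨n, -, hn⟩ := FiniteField.card F p
    rw [hn]
    exact (hp.out.odd_of_ne_two hp2).pow
  by_cases hL : IsLieTypeChar p (Soc P)
  · rcases own8 p hp2 hC h8 hA hL with ⟨K, i1, i2, i3, -, ⟨e⟩⟩ | h
    · rcases H875.PslRows.sp_eight p hH hc e with h | h
      · exact Or.inr (Or.inr (Or.inr (Or.inr (Or.inl h))))
      · exact Or.inr (Or.inr (Or.inr (Or.inr (Or.inr ⟨⟨K, i1, i2, h, ⟨e⟩⟩, hodd⟩))))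
    · exact (h.not_maximal_sp hc hH).elim
  · rcases cross8 p hp2 hC h8 hA hk hL hJ2 with ⟨K, i1, i2, hK, hp7, ⟨e⟩⟩ | ⟨e⟩ | ⟨K, i1, i2, hK, hp17, ⟨e⟩⟩
    · left
      obtain ⟨h3, hF, -⟩ := H464.Sl2.l2_7_8 p hC hK hp7 e h8
      have hpp := hp.out.two_le
      have h4 : p ≠ 4 := by
        rintro rfl
        exact absurd hp.out (by norm_num)
      exact ⟨⟨e.trans (LieClassical.SmallIso.pslCongr (Fin 2)
        (ZMod.ringEquivOfPrime K (by norm_num) hK).symm)⟩, hF, by omega, hp7⟩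
    · right; left
      obtain ⟨e⟩ := e
      exact ⟨⟨e⟩, H937.T2.sp_eight_a6 (p := p) hp2 hH hc e⟩
    · right; right; left
      obtain ⟨-, -, h⟩ := H464.Sl2.l2_17_8 p hC hK hp17 e h8
      exact ⟨⟨e.trans (LieClassical.SmallIso.pslCongr (Fin 2)
        (ZMod.ringEquivOfPrime K (by norm_num) hK).symm)⟩, by omega⟩

end Cfsg.Agent.H871.Sp8
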