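import Cfsg.Agent.H905.MdN
import Cfsg.Agent.H905.Sp4Final
import Cfsg.Agent.H887.DS.Low
import Cfsg.Agent.H925.NatMain
import Cfsg.Agent.H925.NatConj
import Cfsg.Agent.H876.D3.Main
import Cfsg.Agent.H929.UThreeSD
import Cfsg.Agent.H879.Nine.RowPSU
import Cfsg.Agent.H708.ReeSix
import Cfsg.Agent.H927.G2Main
import Cfsg.Agent.H392.TD.Main
import Cfsg.Agent.H912.Reidx
import Cfsg.Agent.H871.Par10
import Cfsg.Agent.H871.Sign
import Cfsg.Agent.H871.Sp6Eight

/-!
# `Sp₈(q)`, `q` odd: groups of Lie type in the defining characteristic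

**`own8`** : `P ≤ GL₈(F)` a core, `char F = p ≠ 2`, `P` fixes a symplectic form, `Soc P` of Lie type in characteristic
`p`: `Soc P ≃ PSL₂(K)` or `P` is conjugate to `Sp₈(F)`.
-/

set_option autoImplicit false
set_option linter.unusedSectionVars false

namespace Cfsg.Agent.H871.Sp8

open Matrix Cfsg Cfsg.Geo Cfsg.Agent.H915.LD

universe u

section forms

variable {F : Type u} [Field F]

/-- `SL_n(F)`, `n ≥ 3`, fixes no non-degenerate bilinear form -/
theorem not_fix_sl {n : ℕ} (hn : 3 ≤ n) {f : (Fin n → F) → (Fin n → F) → F} (hf : IsBilinearForm f)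
    (hnd : IsNondegenerateForm f) (halt : ∀ v, f v v = 0) : ¬ FixesForm (matrixSet (specialLinear (Fin n) F)) f := by
  intro hP
  have key : ∀ i j : Fin n, i ≠ j → ∀ u w : Fin n → F, w j * f u (Pi.single i 1) + u j * f (Pi.single i 1) w = 0 := by
    intro i j hj u w
    let g : GL (Fin n) F := Matrix.GeneralLinearGroup.mkOfDetNeZero (1 + Matrix.single i j 1) (by
      rw [← Matrix.transvection, Matrix.det_transvection_of_ne i j hj]
      exact one_ne_zero)
    have hg : g ∈ specialLinear (Fin n) F := by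
      change Matrix.GeneralLinearGroup.det g = 1
      apply Units.ext
      change (1 + Matrix.single i j (1 : F)).det = 1
      rw [← Matrix.transvection, Matrix.det_transvection_of_ne i j hj]
    have h2 : ∀ v : Fin n → F, (g : Matrix (Fin n) (Fin n) F) *ᵥ v = v + v j • Pi.single i 1 := by
      intro v
      change (1 + Matrix.single i j (1 : F)) *ᵥ v = _
      rw [Matrix.add_mulVec, Matrix.one_mulVec]
      congr 1
      ext k
      by_cases hk : k = i
      · subst hk
        rw [Matrix.single_mulVec]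
        simp
      · simp [hk, Matrix.single_mulVec]
    have h1 := hP _ ⟨g, hg, rfl⟩ u w
    rw [h2, h2, hf.add_left, hf.add_right, hf.add_right, hf.smul_left, hf.smul_left, hf.smul_right, hf.smul_right,
      halt] at h1
    linear_combination h1
  let i : Fin n := ⟨0, by omega⟩
  let j : Fin n := ⟨1, by omega⟩
  let k : Fin n := ⟨2, by omega⟩
  have hij : i ≠ j := by simp [i, j]
  have hik : i ≠ k := by simp [i, k]
  have hjk : j ≠ k := by simp [j, k]
  have hne : (Pi.single i 1 : Fin n → F) ≠ 0 := by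
    intro h0
    have := congrFun h0 i
    rw [Pi.single_eq_same] at this
    exact one_ne_zero this
  obtain ⟨⟨x, hx⟩, -⟩ := hnd _ hne
  apply hx
  have h1 := key i j hij x (Pi.single j 1)
  have h3 := key i k hik (Pi.single j 1) (Pi.single k 1)
  have h4 := key i k hik (Pi.single k 1) (Pi.single j 1)
  rw [Pi.single_eq_same, Pi.single_eq_of_ne (Ne.symm hjk), one_mul, zero_mul, add_zero] at h3
  rw [Pi.single_eq_same, Pi.single_eq_of_ne (Ne.symm hjk), one_mul, zero_mul, zero_add] at h4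
  rw [Pi.single_eq_same, one_mul, h4, mul_zero, add_zero] at h1
  exact h1

/-- a symmetric and an alternating form -/
theorem two_eq_zero_of {ι : Type} [Fintype ι] [DecidableEq ι] {P : Subgroup (GL ι F)} (hC : Core P) (hQ : FixQ P)
    (hA : FixA P) : (2 : F) = 0 := by
  by_contra h2
  have hne := hC.nonempty
  obtain ⟨Q, hQ1, hQ2⟩ := hQ
  obtain ⟨f, hf, hfix⟩ := hA
  have hp : FixesForm (matrixSet P) (QuadraticMap.polar Q) := H914.fixesForm_polar hQ2
  obtain ⟨c, hc⟩ := H920.form_unique hC.absIrred hf.bilinear hf.nondegenerate hfix hQ1.polar_bilinear hp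
  obtain ⟨i⟩ := hne
  have hne : (Pi.single i 1 : ι → F) ≠ 0 := by
    intro h0
    have := congrFun h0 i
    rw [Pi.single_eq_same] at this
    exact one_ne_zero this
  obtain ⟨-, ⟨x, hx⟩⟩ := hQ1.nondegenerate _ hne
  apply hx
  have h3 : QuadraticMap.polar Q (Pi.single i 1) x = QuadraticMap.polar Q x (Pi.single i 1) := QuadraticMap.polar_comm _ _ _
  rw [hc, hc, hf.skew] at h3
  have h4 : (2 : F) * QuadraticMap.polar Q (Pi.single i 1) x = 0 := by
    rw [hc, hf.skew]
    linear_combination h3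
  exact (mul_eq_zero.1 h4).resolve_left h2

end forms

variable {F : Type u} [Field F] [Fintype F] {ι : Type} [Fintype ι] [DecidableEq ι] {P : Subgroup (GL ι F)} (p : ℕ)
  [hp : Fact p.Prime] [hFp : CharP F p]

include hp hFp in
/-- **Own characteristic.** -/
theorem own8 (hp2 : p ≠ 2) (hC : Core P) (h8 : Fintype.card ι = 8) (hA : FixA P) (hL : IsLieTypeChar p (Soc P)) :
    (∃ (K : Type) (_ : Field K) (_ : Fintype K) (_ : CharP K p), 4 ≤ Nat.card K ∧
      Nonempty (Soc P ≃* ProjectiveSpecialLinearGroup (Fin 2) K)) ∨ H925.Nat.CjOf (spGL 4 F) P := by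
  have hs := hC.simple
  have hne := hC.nonempty
  let ε : ι ≃ Fin 8 := Fintype.equivFinOfCardEq h8
  have hC' := H912.Rx.core_re ε hC
  have hA' := H912.Rx.fixA_re_of ε hA
  have E : Soc (H912.Rx.re ε P) ≃* Soc P := (H912.Rx.socEquiv ε).symm
  have hF2 : (2 : F) ≠ 0 := Sp6E.two_ne_zero_of (p := p) hp2
  have hsd : SD P := by
    obtain ⟨f, hf, hfix⟩ := hA
    have hJ0 := H914.det_gram_ne_zero (H914.IsSesq.of_bilinear hf.bilinear) hf.nondegenerate
    exact H929.U3.sd_of_gram hJ0 (fun g hg => H929.U3.gram_fix hf.bilinear hfix hg)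
  have hfrob : ∀ {T : Type} [Group T], (Soc P ≃* T) → Par.Frob8 T → False := by
    intro T _ e hT
    have h1 := (Par.pa_of_fixA hA hF2 e).of_frob8 hF2 hT
    rw [h8] at h1
    omega
  rcases H905.Md.small_dc (p := p) hC.absIrred.1 hC.perfect hL (by rw [h8]; norm_num) with
    ⟨K, i1, i2, i3, l, hl, h4, ⟨e⟩⟩ | ⟨K, i1, i2, i3, m, hm, hmn, h3, ⟨e⟩⟩ | ⟨K, i1, i2, i3, N, q, hK, hN, hNn, h32, ⟨e⟩⟩ |
    ⟨h2, -⟩ | ⟨h3, h⟩ | ⟨K, i1, i2, i3, m, hm, hmn, ho, ⟨e⟩⟩ | ⟨K, i1, i2, i3, m, hm, hmn, ⟨e⟩⟩ |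
    ⟨K, i1, i2, i3, m, a, b, hm, hmn, hab, ⟨e⟩⟩ | ⟨-, K, i1, i2, i3, hK, ⟨e⟩⟩ | ⟨-, K, i1, i2, i3, q, hq, hK, ⟨e⟩⟩ |
    ⟨-, h2, -⟩
  · -- `PSL`
    rcases (show l = 1 ∨ l = 2 ∨ 3 ≤ l by omega) with rfl | rfl | hl3
    · exact Or.inl ⟨K, i1, i2, i3, h4 rfl, ⟨e⟩⟩
    · exact (Sign.not_fixA_psl3 p hF2 hC hA e).elim
    · exfalso
      have h5 := H905.Md.psl_rank p hC.absIrred hC.perfect hl h4 e
      rw [h8] at h5
      rcases (show l + 1 = 8 ∨ l + 1 < 8 by omega) with h6 | h6
      · have h7 := (H905.Md.psl_eq p hC'.absIrred hC'.perfect hl h4 (E.trans e) hC'.no_subfield h6.symm).2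
        obtain ⟨f, hf, hfix⟩ := hA'
        rw [h7] at hfix
        exact not_fix_sl (by norm_num) hf.bilinear hf.nondegenerate hf.alternating hfix
      · have h7 := H887.DS.dim_cases p hC (m := l + 1) (by omega) (by rw [h8]; exact h6) (by rw [h8]; norm_num) e
        rw [h8] at h7
        omega
  · -- `PSp`
    rw [h8] at hmn
    rcases (show m = 2 ∨ m = 3 ∨ m = 4 by omega) with rfl | rfl | rfl
    · exfalso
      have h5 := (H905.Sp4.core_psp4 p hC (by rw [Nat.card_eq_fintype_card]; exact h3 rfl) e (by rw [h8]; norm_num)).2.2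
      rw [h8] at h5
      omega
    · exact (Sp6E.sp6_eight p hC hp2 e h8).elim
    · exact Or.inr (H925.Nat.psp (p := p) hC (by rw [h8]; norm_num) le_rfl (by norm_num) e).2
  · -- `PSU`
    exfalso
    rcases (show N = 3 ∨ N = 4 ∨ 5 ≤ N by omega) with rfl | rfl | hN5
    · have hq3 : 3 ≤ q := by
        have h1 : 1 < Fintype.card K := Fintype.one_lt_card
        rw [hK] at h1
        have h5 : q ≠ 0 := by rintro rfl; simp at h1
        have h6 : q ≠ 1 := by rintro rfl; simp at h1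
        omega
      exact H929.U3.not_fixA_psu3 p hp2 hC hA hq3 hK e (by rw [h8]; norm_num)
    · have h5 := H876.D3.core_psu_four p K (by rw [h8]; norm_num) hK hC e
      rw [h8] at h5
      omega
    · exact H879.Nine.own_psu (p := p) (by norm_num) hC' ((H912.Rx.sd_re ε).2 hsd) hN5 hK (E.trans e)
  · exact (hp2 h2).elim
  · exfalso
    subst h3
    obtain ⟨K, i1, i2, m, hm, hK, ⟨e⟩⟩ := h
    exact H708.ReeSix.ree_fixA_false hC hA hm hK e (by rw [h8]; norm_num)
  · exact (hfrob e (Par.frob8_pomega_odd (p := p) (Sp6E.two_ne_zero_of (p := p) hp2) hm)).elim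
  · exact (hfrob e (Par.frob8_pomega_plus (p := p) (Sp6E.two_ne_zero_of (p := p) hp2) hm)).elim
  · exact (hfrob e (Par.frob8_pomega_minus (p := p) (Sp6E.two_ne_zero_of (p := p) hp2) (by omega) a b)).elim
  · exfalso
    have h5 := (H927.G2.core_g2 p hC (by rw [Nat.card_eq_fintype_card]; exact hK) e (by rw [h8]; norm_num)).2.2.2.2
    rw [h8] at h5
    omega
  · exfalso
    have h5 := (H392.TD.d4_small p hC hq hK e (by rw [h8]; norm_num)).2.2.2.1
    exact hF2 (two_eq_zero_of hC h5 hA)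
  · exact (hp2 h2).elim

end Cfsg.Agent.H871.Sp8
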