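import Cfsg.Agent.H464.L2TrG

/-!
# The Weil representation of `SL₂(q)`, `q` odd, on the functions `K → k`

`k` is any field in which `q ≠ 0`, with a primitive additive character `ψ : K → k`.
`weil : SL₂(K) →* End (K → k)`.
-/

set_option autoImplicit false
set_option linter.unusedSectionVars false

namespace Cfsg.Agent.H871.Weil

open Matrix Module Cfsg.Agent.H464.Sl2

variable {K : Type*} [Field K] [Fintype K] [DecidableEq K] {k : Type*} [Field k]

theorem sum_sq (h2 : ringChar K ≠ 2) (f : K → k) : ∑ z : K, f (z ^ 2) = ∑ s : K, (1 + eta k s) * f s := by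
  classical
  rw [← Finset.sum_fiberwise_of_maps_to (g := fun z : K => z ^ 2) (s := Finset.univ) (t := Finset.univ)
    (fun _ _ => Finset.mem_univ _)]
  refine Finset.sum_congr rfl fun s _ => ?_
  have h1 : ∀ z ∈ Finset.univ.filter (fun z : K => z ^ 2 = s), f (z ^ 2) = f s := by
    intro z hz
    rw [(Finset.mem_filter.1 hz).2]
  rw [Finset.sum_congr rfl h1, Finset.sum_const, nsmul_eq_mul]
  congr 1
  have h3 := quadraticChar_card_sqrts h2 s
  have h4 : (Finset.univ.filter (fun z : K => z ^ 2 = s)) = {x : K | x ^ 2 = s}.toFinset := by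
    ext z
    simp
  rw [h4]
  have h5 : (({x : K | x ^ 2 = s}.toFinset.card : ℤ) : k) = ((quadraticChar K s + 1 : ℤ) : k) := by rw [h3]
  rw [Int.cast_natCast] at h5
  rw [h5, Int.cast_add, Int.cast_one, eta, add_comm]

variable {ψ : AddChar K k}

theorem sum_psi {a : K} (hψ : ψ.IsPrimitive) (ha : a ≠ 0) : ∑ s : K, ψ (a * s) = 0 := by
  have h3 := AddChar.sum_mulShift a hψ
  rw [if_neg ha, Nat.cast_zero] at h3
  rw [← h3]
  exact Finset.sum_congr rfl fun s _ => by rw [mul_comm]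

theorem two_ne (h2 : ringChar K ≠ 2) : (2 : K) ≠ 0 := by
  intro h
  apply h2
  have h3 : ringChar K ∣ 2 := (ringChar.spec K 2).1 (by exact_mod_cast h)
  exact (Nat.prime_dvd_prime_iff_eq (CharP.char_is_prime K (ringChar K)) Nat.prime_two).1 h3

/-- The Gaussian integral. -/
theorem gauss (hψ : ψ.IsPrimitive) (h2 : ringChar K ≠ 2) {x : K} (hx : x ≠ 0) (y : K) :
    ∑ z : K, ψ (x * z ^ 2 - 2 * y * z) = ψ (-(y ^ 2 / x)) * (eta k x * Gs ψ) := by
  have h1 : ∑ z : K, ψ (x * z ^ 2) = eta k x * Gs ψ := by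
    rw [sum_sq h2 (fun s => ψ (x * s))]
    rw [Finset.sum_congr rfl fun s _ => add_mul 1 (eta k s) (ψ (x * s)), Finset.sum_add_distrib]
    rw [Finset.sum_congr rfl fun s _ => one_mul (ψ (x * s)), sum_psi hψ hx, zero_add, ← sum_eta_psi hx]
    exact Finset.sum_congr rfl fun s _ => mul_comm _ _
  rw [← h1, Finset.mul_sum, ← Equiv.sum_comp (Equiv.addRight (y / x)) (fun z : K => ψ (x * z ^ 2 - 2 * y * z))]
  refine Finset.sum_congr rfl fun z _ => ?_
  rw [← AddChar.map_add_eq_mul]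
  congr 1
  change x * (z + y / x) ^ 2 - 2 * y * (z + y / x) = _
  field_simp
  ring

/-- The orthogonality relation. -/
theorem orth (hψ : ψ.IsPrimitive) (x : K) : ∑ s : K, ψ (x * s) = if x = 0 then (Fintype.card K : k) else 0 := by
  have h3 := AddChar.sum_mulShift x hψ
  rw [Finset.sum_congr rfl fun s _ => by rw [mul_comm x s], h3]
  split_ifs <;> simp

variable (ψ) in
/-- The operators of the Weil representation. -/
noncomputable def W (g : SpecialLinearGroup (Fin 2) K) : Module.End k (K → k) where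
  toFun f s := if g.1 1 0 = 0 then eta k (g.1 0 0) * (ψ (g.1 0 0 * g.1 0 1 * s ^ 2) * f (g.1 0 0 * s))
    else eta k (g.1 1 0) / Gs ψ * ∑ z, ψ ((g.1 0 0 * s ^ 2 - 2 * s * z + g.1 1 1 * z ^ 2) / g.1 1 0) * f z
  map_add' f f' := by
    ext s
    simp only [Pi.add_apply]
    split_ifs
    · ring
    · rw [← mul_add, ← Finset.sum_add_distrib]
      congr 1
      exact Finset.sum_congr rfl fun z _ => by ring
  map_smul' c f := by
    ext s
    simp only [Pi.smul_apply, smul_eq_mul, RingHom.id_apply]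
    split_ifs
    · ring
    · simp only [Finset.mul_sum]
      exact Finset.sum_congr rfl fun z _ => by ring

theorem W_zero {g : SpecialLinearGroup (Fin 2) K} (h : g.1 1 0 = 0) (f : K → k) (s : K) :
    W ψ g f s = eta k (g.1 0 0) * (ψ (g.1 0 0 * g.1 0 1 * s ^ 2) * f (g.1 0 0 * s)) := if_pos h

theorem W_ne {g : SpecialLinearGroup (Fin 2) K} (h : g.1 1 0 ≠ 0) (f : K → k) (s : K) :
    W ψ g f s = eta k (g.1 1 0) / Gs ψ * ∑ z, ψ ((g.1 0 0 * s ^ 2 - 2 * s * z + g.1 1 1 * z ^ 2) / g.1 1 0) * f z :=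
  if_neg h

theorem W_u (x : K) (f : K → k) (s : K) : W ψ (u x) f s = ψ (x * s ^ 2) * f s := by
  rw [W_zero (by simp)]
  simp [eta_one]

theorem W_t (a : Kˣ) (f : K → k) (s : K) : W ψ (t a) f s = eta k (a : K) * f (a * s) := by
  rw [W_zero (by simp)]
  simp

theorem W_w (f : K → k) (s : K) : W ψ (w 1) f s = (Gs ψ)⁻¹ * ∑ z, ψ (-(2 * s * z)) * f z := by
  rw [W_ne (by simp)]
  simp [eta_one]

theorem W_one : W ψ (1 : SpecialLinearGroup (Fin 2) K) = 1 := by
  ext f s
  rw [← u_zero, LinearMap.comp_apply, W_u]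
  simp

theorem W_u_mul (x : K) (h : SpecialLinearGroup (Fin 2) K) : W ψ (u x * h) = W ψ (u x) * W ψ h := by
  apply LinearMap.ext
  intro f
  ext s
  rw [Module.End.mul_apply, W_u]
  have e : (u x * h).1 = !![1, x; 0, 1] * h.1 := rfl
  have e00 : (u x * h).1 0 0 = h.1 0 0 + x * h.1 1 0 := by rw [e]; simp [Matrix.mul_apply, Fin.sum_univ_two]
  have e01 : (u x * h).1 0 1 = h.1 0 1 + x * h.1 1 1 := by rw [e]; simp [Matrix.mul_apply, Fin.sum_univ_two]
  have e10 : (u x * h).1 1 0 = h.1 1 0 := by rw [e]; simp [Matrix.mul_apply, Fin.sum_univ_two]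
  have e11 : (u x * h).1 1 1 = h.1 1 1 := by rw [e]; simp [Matrix.mul_apply, Fin.sum_univ_two]
  have hdet : h.1 0 0 * h.1 1 1 - h.1 0 1 * h.1 1 0 = 1 := by
    have := h.2
    rwa [Matrix.det_fin_two] at this
  by_cases hc : h.1 1 0 = 0
  · rw [W_zero (by rw [e10, hc]), W_zero hc, e00, e01, hc, mul_zero, add_zero]
    rw [hc, mul_zero, sub_zero] at hdet
    have h1 : h.1 0 0 * (h.1 0 1 + x * h.1 1 1) * s ^ 2 = x * s ^ 2 + h.1 0 0 * h.1 0 1 * s ^ 2 := by
      linear_combination (x * s ^ 2) * hdet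
    rw [h1, AddChar.map_add_eq_mul]
    ring
  · rw [W_ne (by rwa [e10]), W_ne hc, e00, e10, e11, mul_left_comm (ψ (x * s ^ 2)), Finset.mul_sum, Finset.mul_sum]
    rw [Finset.mul_sum]
    refine Finset.sum_congr rfl fun z _ => ?_
    have h1 : ((h.1 0 0 + x * h.1 1 0) * s ^ 2 - 2 * s * z + h.1 1 1 * z ^ 2) / h.1 1 0 =
        x * s ^ 2 + (h.1 0 0 * s ^ 2 - 2 * s * z + h.1 1 1 * z ^ 2) / h.1 1 0 := by
      field_simp
      ring
    rw [h1, AddChar.map_add_eq_mul]
    ring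

theorem W_t_mul (a : Kˣ) (h : SpecialLinearGroup (Fin 2) K) : W ψ (t a * h) = W ψ (t a) * W ψ h := by
  apply LinearMap.ext
  intro f
  ext s
  rw [Module.End.mul_apply, W_t]
  have e : (t a * h).1 = !![(a : K), 0; 0, ((a⁻¹ : Kˣ) : K)] * h.1 := rfl
  have e00 : (t a * h).1 0 0 = a * h.1 0 0 := by rw [e]; simp [Matrix.mul_apply, Fin.sum_univ_two]
  have e01 : (t a * h).1 0 1 = a * h.1 0 1 := by rw [e]; simp [Matrix.mul_apply, Fin.sum_univ_two]
  have e10 : (t a * h).1 1 0 = (a : K)⁻¹ * h.1 1 0 := by rw [e]; simp [Matrix.mul_apply, Fin.sum_univ_two]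
  have e11 : (t a * h).1 1 1 = (a : K)⁻¹ * h.1 1 1 := by rw [e]; simp [Matrix.mul_apply, Fin.sum_univ_two]
  have ha : (a : K) ≠ 0 := a.ne_zero
  by_cases hc : h.1 1 0 = 0
  · rw [W_zero (by rw [e10, hc, mul_zero]), W_zero hc, e00, e01, eta_mul]
    have h1 : (a : K) * h.1 0 0 * (a * h.1 0 1) * s ^ 2 = h.1 0 0 * h.1 0 1 * (a * s) ^ 2 := by ring
    have h2 : (a : K) * h.1 0 0 * s = h.1 0 0 * (a * s) := by ring
    rw [h1, h2]
    ring
  · rw [W_ne (by rw [e10]; exact mul_ne_zero (inv_ne_zero ha) hc), W_ne hc, e00, e10, e11, eta_mul, eta_inv ha,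
      ← mul_assoc, ← mul_div_assoc]
    congr 1
    refine Finset.sum_congr rfl fun z _ => ?_
    congr 2
    field_simp

theorem W_w_mul (hψ : ψ.IsPrimitive) (h2 : ringChar K ≠ 2) (hK : (Fintype.card K : k) ≠ 0)
    (h : SpecialLinearGroup (Fin 2) K) : W ψ (w 1 * h) = W ψ (w 1) * W ψ h := by
  have hG : Gs ψ ≠ 0 := by
    intro h0
    have h3 := Gs_sq hψ h2
    rw [h0, zero_pow two_ne_zero] at h3
    rcases mul_eq_zero.1 h3.symm with h4 | h4
    · have h5 := eta_sq (k := k) (show (-1 : K) ≠ 0 from neg_ne_zero.2 one_ne_zero)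
      rw [h4, mul_zero] at h5
      exact zero_ne_one h5
    · exact hK h4
  apply LinearMap.ext
  intro f
  ext s
  rw [Module.End.mul_apply, W_w]
  have e : (w 1 * h).1 = !![0, -(((1 : Kˣ)⁻¹ : Kˣ) : K); ((1 : Kˣ) : K), 0] * h.1 := rfl
  have e00 : (w 1 * h).1 0 0 = -h.1 1 0 := by rw [e]; simp [Matrix.mul_apply, Fin.sum_univ_two]
  have e01 : (w 1 * h).1 0 1 = -h.1 1 1 := by rw [e]; simp [Matrix.mul_apply, Fin.sum_univ_two]
  have e10 : (w 1 * h).1 1 0 = h.1 0 0 := by rw [e]; simp [Matrix.mul_apply, Fin.sum_univ_two]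
  have e11 : (w 1 * h).1 1 1 = h.1 0 1 := by rw [e]; simp [Matrix.mul_apply, Fin.sum_univ_two]
  have hdet : h.1 0 0 * h.1 1 1 - h.1 0 1 * h.1 1 0 = 1 := by
    have := h.2
    rwa [Matrix.det_fin_two] at this
  by_cases hc : h.1 1 0 = 0
  · rw [hc, mul_zero, sub_zero] at hdet
    have ha : h.1 0 0 ≠ 0 := left_ne_zero_of_mul_eq_one hdet
    rw [W_ne (by rwa [e10]), e00, e10, e11, hc]
    simp only [W_zero hc]
    rw [← Equiv.sum_comp (Equiv.mulLeft₀ (h.1 0 0) ha), Finset.mul_sum, Finset.mul_sum]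
    refine Finset.sum_congr rfl fun z _ => ?_
    change eta k (h.1 0 0) / Gs ψ * (ψ ((-0 * s ^ 2 - 2 * s * (h.1 0 0 * z) + h.1 0 1 * (h.1 0 0 * z) ^ 2) / h.1 0 0) *
      f (h.1 0 0 * z)) = _
    have h3 : (-0 * s ^ 2 - 2 * s * (h.1 0 0 * z) + h.1 0 1 * (h.1 0 0 * z) ^ 2) / h.1 0 0 =
        -(2 * s * z) + h.1 0 0 * h.1 0 1 * z ^ 2 := by
      field_simp
      ring
    rw [h3, AddChar.map_add_eq_mul]
    ring
  · simp only [W_ne hc]
    have hsw : (Gs ψ)⁻¹ * ∑ y, ψ (-(2 * s * y)) * (eta k (h.1 1 0) / Gs ψ *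
        ∑ z, ψ ((h.1 0 0 * y ^ 2 - 2 * y * z + h.1 1 1 * z ^ 2) / h.1 1 0) * f z) =
        eta k (h.1 1 0) / Gs ψ ^ 2 * ∑ z, f z * (ψ (h.1 1 1 * z ^ 2 / h.1 1 0) *
          ∑ y, ψ (h.1 0 0 / h.1 1 0 * y ^ 2 - 2 * (s + z / h.1 1 0) * y)) := by
      simp only [Finset.mul_sum]
      rw [Finset.sum_comm]
      refine Finset.sum_congr rfl fun z _ => Finset.sum_congr rfl fun y _ => ?_
      have h3 : ψ (h.1 1 1 * z ^ 2 / h.1 1 0) * ψ (h.1 0 0 / h.1 1 0 * y ^ 2 - 2 * (s + z / h.1 1 0) * y) =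
          ψ (-(2 * s * y)) * ψ ((h.1 0 0 * y ^ 2 - 2 * y * z + h.1 1 1 * z ^ 2) / h.1 1 0) := by
        rw [← AddChar.map_add_eq_mul, ← AddChar.map_add_eq_mul]
        congr 1
        field_simp
        ring
      rw [h3]
      field_simp
    rw [hsw]
    have hη := eta_sq (k := k) hc
    by_cases ha : h.1 0 0 = 0
    · rw [W_zero (by rwa [e10]), e00, e01, ha]
      rw [ha, zero_mul, zero_sub] at hdet
      have h3 : ∀ z : K, ∑ y, ψ (0 / h.1 1 0 * y ^ 2 - 2 * (s + z / h.1 1 0) * y) =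
          if z = -h.1 1 0 * s then (Fintype.card K : k) else 0 := by
        intro z
        have h4 := orth hψ (-2 * (s + z / h.1 1 0))
        rw [Finset.sum_congr rfl fun y _ => by rw [show (0 / h.1 1 0 * y ^ 2 - 2 * (s + z / h.1 1 0) * y) =
          -2 * (s + z / h.1 1 0) * y by ring], h4]
        have h5 : (-2 * (s + z / h.1 1 0) = 0) ↔ z = -h.1 1 0 * s := by
          rw [mul_eq_zero, or_iff_right (neg_ne_zero.2 (two_ne h2))]
          constructor
          · intro h6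
            field_simp at h6
            linear_combination h6
          · intro h6
            rw [h6]
            field_simp
            ring
        simp only [h5]
      simp only [h3, mul_ite, mul_zero, Finset.sum_ite_eq', Finset.mem_univ, if_true]
      have h6 : -h.1 1 0 * -h.1 1 1 * s ^ 2 = h.1 1 1 * (-h.1 1 0 * s) ^ 2 / h.1 1 0 := by
        field_simp
      rw [h6, show -h.1 1 0 = (-1 : K) * h.1 1 0 by ring, eta_mul]
      have h7 := Gs_sq hψ h2
      have h8 := eta_sq (k := k) (show (-1 : K) ≠ 0 from neg_ne_zero.2 one_ne_zero)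
      have h9 : (Fintype.card K : k) / Gs ψ ^ 2 = eta k (-1 : K) := by
        rw [h7]
        have h10 : eta k (-1 : K) ≠ 0 := fun h => by rw [h, mul_zero] at h8; exact zero_ne_one h8
        field_simp
        linear_combination -h8
      calc _ = eta k (h.1 1 0) * eta k (-1 : K) * (f (-1 * h.1 1 0 * s) * ψ (h.1 1 1 * (-1 * h.1 1 0 * s) ^ 2 / h.1 1 0)) := by
            ring
        _ = _ := by rw [← h9]; ring
    · rw [W_ne (by rwa [e10]), e00, e10, e11]
      have hac : h.1 0 0 / h.1 1 0 ≠ 0 := div_ne_zero ha hc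
      simp only [gauss hψ h2 hac]
      have h3 : eta k (h.1 0 0 / h.1 1 0) = eta k (h.1 0 0) * eta k (h.1 1 0) := by
        rw [div_eq_mul_inv, eta_mul, eta_inv hc]
      rw [h3, Finset.mul_sum, Finset.mul_sum]
      refine Finset.sum_congr rfl fun z _ => ?_
      have h4 : ψ ((-h.1 1 0 * s ^ 2 - 2 * s * z + h.1 0 1 * z ^ 2) / h.1 0 0) =
          ψ (h.1 1 1 * z ^ 2 / h.1 1 0) * ψ (-((s + z / h.1 1 0) ^ 2 / (h.1 0 0 / h.1 1 0))) := by
        rw [← AddChar.map_add_eq_mul]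
        congr 1
        field_simp
        linear_combination (-(z ^ 2)) * hdet
      rw [h4]
      generalize ψ (-((s + z / h.1 1 0) ^ 2 / (h.1 0 0 / h.1 1 0))) = X
      generalize ψ (h.1 1 1 * z ^ 2 / h.1 1 0) = Y
      field_simp
      linear_combination (-(eta k (h.1 0 0) * Y * X * f z)) * hη

/-- **The Weil representation.** -/
noncomputable def weil (hψ : ψ.IsPrimitive) (h2 : ringChar K ≠ 2) (hK : (Fintype.card K : k) ≠ 0) :
    SpecialLinearGroup (Fin 2) K →* Module.End k (K → k) where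
  toFun := W ψ
  map_one' := W_one
  map_mul' g h := by
    have key : ∀ x a y, W ψ (u x * w a * u y * h) = W ψ (u x * w a * u y) * W ψ h := by
      intro x a y
      rw [← w_one_mul_t, mul_assoc (u x * (w 1 * t a)), mul_assoc (u x), W_u_mul, mul_assoc (w 1), W_w_mul hψ h2 hK,
        W_t_mul, W_u_mul, mul_assoc (u x), W_u_mul, mul_assoc (w 1), W_w_mul hψ h2 hK, W_t_mul]
      simp only [mul_assoc]
    rcases bruhat g with ⟨x, a, rfl⟩ | ⟨x, a, y, rfl⟩
    · rw [mul_assoc, W_u_mul, W_t_mul, W_u_mul, mul_assoc]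
    · exact key x a y

end Cfsg.Agent.H871.Weil
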