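import Cfsg.Agent.H871.Weil1
import Cfsg.Agent.H464.L2TrK
import Cfsg.Agent.H464.Sl2Uniq
import Mathlib.LinearAlgebra.GeneralLinearGroup.AlgEquiv

/-!
# The odd part of the Weil representation and its uniqueness
-/

set_option autoImplicit false
set_option linter.unusedSectionVars false

namespace Cfsg.Agent.H871.Weil

open Matrix Module Cfsg.Agent.H464.Sl2

section Conj

variable {G : Type*} [Group G] [Finite G] {k : Type*} [Field k] {V : Type*} [AddCommGroup V] [Module k V]
  [FiniteDimensional k V] {V' : Type*} [AddCommGroup V'] [Module k V'] [FiniteDimensional k V']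

theorem eq_zero_of_trace {A : Module.End k V} (h : ∀ X : Module.End k V, LinearMap.trace k V (A * X) = 0) : A = 0 := by
  classical
  let b := Module.finBasis k V
  have h1 : LinearMap.toMatrix b b A = 0 := by
    rw [Matrix.ext_iff_trace_mul_right]
    intro x
    have h2 := h (LinearMap.toMatrix b b |>.symm x)
    rw [LinearMap.trace_eq_matrix_trace k b, Module.End.mul_eq_comp, LinearMap.toMatrix_comp b b b,
      LinearEquiv.apply_symm_apply] at h2
    rw [h2, Matrix.zero_mul, Matrix.trace_zero]
  exact (LinearEquiv.map_eq_zero_iff _).1 h1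

/-- **Equal traces imply equivalence** if one representation spans. -/
theorem exists_intertwiner (R : G →* Module.End k V) (R' : G →* Module.End k V')
    (hspan : Submodule.span k (Set.range R) = ⊤) (hdim : finrank k V' ≤ finrank k V)
    (htr : ∀ g, LinearMap.trace k V (R g) = LinearMap.trace k V' (R' g)) :
    ∃ Φ : V ≃ₗ[k] V', ∀ g v, Φ (R g v) = R' g (Φ v) := by
  classical
  let α : MonoidAlgebra k G →ₐ[k] Module.End k V := MonoidAlgebra.lift k (Module.End k V) G R
  let α' : MonoidAlgebra k G →ₐ[k] Module.End k V' := MonoidAlgebra.lift k (Module.End k V') G R'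
  have hα : ∀ g, α (MonoidAlgebra.of k G g) = R g := fun g => MonoidAlgebra.lift_of _ _
  have hα' : ∀ g, α' (MonoidAlgebra.of k G g) = R' g := fun g => MonoidAlgebra.lift_of _ _
  have hsurj : Function.Surjective α := by
    rw [← AlgHom.coe_toLinearMap, ← LinearMap.range_eq_top, eq_top_iff, ← hspan, Submodule.span_le]
    rintro _ ⟨g, rfl⟩
    exact ⟨_, hα g⟩
  have htr' : ∀ a, LinearMap.trace k V (α a) = LinearMap.trace k V' (α' a) := by
    have h : (LinearMap.trace k V).comp α.toLinearMap = (LinearMap.trace k V').comp α'.toLinearMap := by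
      apply MonoidAlgebra.lhom_ext'
      intro g
      apply LinearMap.ext_ring
      have h1 := htr g
      rw [← hα, ← hα'] at h1
      exact h1
    exact fun a => LinearMap.congr_fun h a
  have hker : ∀ a, α' a = 0 → α a = 0 := by
    intro a ha
    apply eq_zero_of_trace
    intro X
    obtain ⟨b, rfl⟩ := hsurj X
    rw [← map_mul, htr', map_mul, ha, zero_mul, map_zero]
  have hfin : FiniteDimensional k (MonoidAlgebra k G) := by
    exact Module.Finite.of_basis (MonoidAlgebra.basis G k)
  have h1 := LinearMap.finrank_range_add_finrank_ker α.toLinearMap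
  have h2 := LinearMap.finrank_range_add_finrank_ker α'.toLinearMap
  have h3 : finrank k (LinearMap.range α.toLinearMap) = finrank k (Module.End k V) := by
    rw [LinearMap.range_eq_top.2 hsurj, finrank_top]
  have h4 : LinearMap.ker α'.toLinearMap ≤ LinearMap.ker α.toLinearMap := fun a ha => hker a ha
  have h5 := Submodule.finrank_mono h4
  have h6 : finrank k (Module.End k V') ≤ finrank k (Module.End k V) := by
    rw [Module.finrank_linearMap, Module.finrank_linearMap]
    exact Nat.mul_le_mul hdim hdim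
  have h7 : finrank k (LinearMap.range α'.toLinearMap) ≤ finrank k (Module.End k V') := Submodule.finrank_le _
  have hsurj' : Function.Surjective α' := by
    have h8 : LinearMap.range α'.toLinearMap = ⊤ := Submodule.eq_top_of_finrank_eq (by omega)
    exact LinearMap.range_eq_top.1 h8
  have hkk : LinearMap.ker α'.toLinearMap = LinearMap.ker α.toLinearMap :=
    Submodule.eq_of_le_of_finrank_le h4 (by omega)
  have hkr : RingHom.ker α = RingHom.ker α' := by
    ext a
    have h9 := congrArg (fun N : Submodule k (MonoidAlgebra k G) => a ∈ N) hkk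
    exact (iff_of_eq h9).symm
  let θ : Module.End k V ≃ₐ[k] Module.End k V' :=
    (Ideal.quotientKerAlgEquivOfSurjective hsurj).symm.trans
      ((Ideal.quotientEquivAlgOfEq k hkr).trans (Ideal.quotientKerAlgEquivOfSurjective hsurj'))
  have hθ : ∀ a, θ (α a) = α' a := by
    intro a
    change Ideal.quotientKerAlgEquivOfSurjective hsurj' (Ideal.quotientEquivAlgOfEq k hkr
      ((Ideal.quotientKerAlgEquivOfSurjective hsurj).symm (α a))) = _
    have : (Ideal.quotientKerAlgEquivOfSurjective hsurj).symm (α a) = Ideal.Quotient.mk _ a := by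
      rw [AlgEquiv.symm_apply_eq]
      rfl
    rw [this]
    rfl
  obtain ⟨Φ, hΦ⟩ := θ.eq_linearEquivConjAlgEquiv
  refine ⟨Φ, fun g v => ?_⟩
  have h8 := hθ (MonoidAlgebra.of k G g)
  rw [hα, hα', hΦ] at h8
  rw [← h8, LinearEquiv.conjAlgEquiv_apply]
  simp

end Conj

section Odd

variable {K : Type*} [Field K] [Fintype K] [DecidableEq K] {k : Type*} [Field k] {ψ : AddChar K k}

variable (K k) in
/-- odd functions -/
def Od : Submodule k (K → k) where
  carrier := {f | ∀ s, f (-s) = -f s}
  add_mem' {f g} hf hg s := by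
    simp only [Pi.add_apply]
    rw [hf, hg]
    ring
  zero_mem' s := by simp
  smul_mem' c f hf s := by
    simp only [Pi.smul_apply, smul_eq_mul]
    rw [hf]
    ring

theorem mem_Od {f : K → k} : f ∈ Od K k ↔ ∀ s, f (-s) = -f s := Iff.rfl

theorem W_refl (g : SpecialLinearGroup (Fin 2) K) (f : K → k) (s : K) :
    W ψ g (fun z => f (-z)) s = W ψ g f (-s) := by
  by_cases h : g.1 1 0 = 0
  · rw [W_zero h, W_zero h, neg_sq, mul_neg]
  · rw [W_ne h, W_ne h]
    congr 1
    rw [← Equiv.sum_comp (Equiv.neg K)]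
    refine Finset.sum_congr rfl fun z _ => ?_
    change ψ ((g.1 0 0 * s ^ 2 - 2 * s * (-z) + g.1 1 1 * (-z) ^ 2) / g.1 1 0) * f (-(-z)) = _
    rw [neg_neg]
    congr 2
    ring

theorem W_mem (g : SpecialLinearGroup (Fin 2) K) {f : K → k} (hf : f ∈ Od K k) : W ψ g f ∈ Od K k := by
  intro s
  rw [← W_refl]
  have h1 : (fun z => f (-z)) = -f := by
    ext z
    exact hf z
  rw [h1, map_neg]
  rfl

/-- the odd part of the Weil representation -/
noncomputable def weilO (hψ : ψ.IsPrimitive) (h2 : ringChar K ≠ 2) (hK : (Fintype.card K : k) ≠ 0) :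
    SpecialLinearGroup (Fin 2) K →* Module.End k (Od K k) where
  toFun g := (weil hψ h2 hK g).restrict fun _ hf => W_mem g hf
  map_one' := by
    apply LinearMap.ext
    intro f
    apply Subtype.ext
    change weil hψ h2 hK 1 f = f
    rw [map_one]
    rfl
  map_mul' a b := by
    apply LinearMap.ext
    intro f
    apply Subtype.ext
    change weil hψ h2 hK (a * b) f = weil hψ h2 hK a (weil hψ h2 hK b f)
    rw [map_mul]
    rfl

variable (hψ : ψ.IsPrimitive) (h2 : ringChar K ≠ 2) (hK : (Fintype.card K : k) ≠ 0)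

theorem weilO_apply (g : SpecialLinearGroup (Fin 2) K) (f : Od K k) : (weilO hψ h2 hK g f : K → k) = W ψ g f := rfl

theorem E_weilO (b : K) (f : Od K k) (s : K) :
    (E (weilO hψ h2 hK) ψ b f : K → k) s = if s ^ 2 = b then (f : K → k) s else 0 := by
  have h1 : (E (weilO hψ h2 hK) ψ b f : K → k) s =
      ((Fintype.card K : k))⁻¹ * ∑ x, ψ (-(b * x)) * (W ψ (u x) f s) := by
    unfold E
    rw [LinearMap.smul_apply, LinearMap.sum_apply, Submodule.coe_smul, Pi.smul_apply, smul_eq_mul,
      Submodule.coe_sum, Finset.sum_apply]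
    rfl
  rw [h1]
  have h3 : ∀ x : K, ψ (-(b * x)) * (W ψ (u x) f s) = ψ ((s ^ 2 - b) * x) * (f : K → k) s := by
    intro x
    rw [W_u, ← mul_assoc, ← AddChar.map_add_eq_mul]
    congr 2
    ring
  rw [Finset.sum_congr rfl fun x _ => h3 x, ← Finset.sum_mul, orth hψ]
  simp only [sub_eq_zero]
  split_ifs
  · rw [← mul_assoc, inv_mul_cancel₀ hK, one_mul]
  · rw [zero_mul, mul_zero]

variable (k) in
/-- the odd function supported on `{r, -r}` -/
def dl (r : K) : Od K k := ⟨fun s => (if s = r then 1 else 0) - (if s = -r then 1 else 0), fun s => by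
  have e1 : (-s = r) ↔ (s = -r) := neg_eq_iff_eq_neg
  have e2 : (-s = -r) ↔ (s = r) := neg_inj
  simp only [e1, e2]
  ring⟩

theorem dl_apply (r s : K) : (dl k r : K → k) s = (if s = r then 1 else 0) - (if s = -r then 1 else 0) := rfl

theorem dl_ne (h2 : ringChar K ≠ 2) {r : K} (hr : r ≠ 0) : dl k r ≠ 0 := by
  intro h
  have h1 : (dl k r : K → k) r = 0 := by rw [h]; rfl
  rw [dl_apply, if_pos rfl, if_neg, sub_zero] at h1
  · exact one_ne_zero h1
  · intro h3
    have h4 : 2 * r = 0 := by linear_combination h3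
    exact (mul_ne_zero (two_ne h2) hr) h4

theorem finrank_sq (b : K) (hb : b ≠ 0) (hs : IsSquare b) :
    finrank k (LinearMap.range (E (weilO hψ h2 hK) ψ b)) = 1 := by
  obtain ⟨r, hr⟩ := hs
  have hr0 : r ≠ 0 := by rintro rfl; exact hb (by rw [hr, mul_zero])
  have h1 : LinearMap.range (E (weilO hψ h2 hK) ψ b) = Submodule.span k {dl k r} := by
    apply le_antisymm
    · rintro _ ⟨f, rfl⟩
      rw [Submodule.mem_span_singleton]
      refine ⟨(f : K → k) r, ?_⟩
      apply Subtype.ext
      ext s
      rw [E_weilO]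
      change (f : K → k) r * (dl k r : K → k) s = _
      rw [dl_apply]
      have h3 : s ^ 2 = b ↔ s = r ∨ s = -r := by rw [hr, ← sq, sq_eq_sq_iff_eq_or_eq_neg]
      have hne : r ≠ -r := by
        intro h4
        have h5 : 2 * r = 0 := by linear_combination h4
        exact (mul_ne_zero (two_ne h2) hr0) h5
      by_cases hsr : s = r
      · rw [if_pos hsr, if_neg (by rw [hsr]; exact hne), if_pos (h3.2 (Or.inl hsr)), hsr]
        ring
      · by_cases hsr' : s = -r
        · rw [if_neg hsr, if_pos hsr', if_pos (h3.2 (Or.inr hsr')), hsr', f.2 r]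
          ring
        · rw [if_neg hsr, if_neg hsr', if_neg (fun h => (h3.1 h).elim hsr hsr')]
          ring
    · rw [Submodule.span_singleton_le_iff_mem]
      refine ⟨dl k r, ?_⟩
      apply Subtype.ext
      ext s
      rw [E_weilO, dl_apply]
      by_cases h3 : s ^ 2 = b
      · rw [if_pos h3]
      · rw [if_neg h3, if_neg (fun h4 => h3 (by rw [h4, hr, sq])), if_neg (fun h4 => h3 (by rw [h4, hr, neg_sq, sq])),
          sub_zero]
  rw [h1]
  exact finrank_span_singleton (dl_ne h2 hr0)

theorem finrank_ns (h2k : (2 : k) ≠ 0) (b : K) (hb : ¬ (b ≠ 0 ∧ IsSquare b)) :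
    finrank k (LinearMap.range (E (weilO hψ h2 hK) ψ b)) = 0 := by
  have h1 : E (weilO hψ h2 hK) ψ b = 0 := by
    apply LinearMap.ext
    intro f
    apply Subtype.ext
    ext s
    rw [E_weilO]
    change _ = 0
    split_ifs with h3
    · have hs : s = 0 := by
        by_contra hs
        exact hb ⟨by rw [← h3]; exact pow_ne_zero 2 hs, ⟨s, by rw [← h3, sq]⟩⟩
      have h4 := f.2 s
      rw [hs, neg_zero] at h4
      have h5 : (2 : k) * (f : K → k) 0 = 0 := by linear_combination h4
      rw [hs]
      exact (mul_eq_zero.1 h5).resolve_left h2k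
    · rfl
  rw [h1, LinearMap.range_zero, finrank_bot]

open Classical in
/-- **Uniqueness.** -/
theorem weil_iso {V : Type*} [AddCommGroup V] [Module k V] [FiniteDimensional k V]
    (R : SpecialLinearGroup (Fin 2) K →* Module.End k V) (hspan : Submodule.span k (Set.range R) = ⊤)
    (h2k : (2 : k) ≠ 0)
    (hw : ∀ b, finrank k (LinearMap.range (E R ψ b)) = if b ≠ 0 ∧ IsSquare b then 1 else 0) :
    ∃ Φ : V ≃ₗ[k] Od K k, ∀ g v, Φ (R g v) = weilO hψ h2 hK g (Φ v) := by
  have hw' : ∀ b, finrank k (LinearMap.range (E (weilO hψ h2 hK) ψ b)) = if b ≠ 0 ∧ IsSquare b then 1 else 0 := by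
    intro b
    split_ifs with h
    · exact finrank_sq hψ h2 hK b h.1 h.2
    · exact finrank_ns hψ h2 hK h2k b h
  obtain ⟨ν, hν⟩ := FiniteField.exists_nonsquare h2
  have hν0 : ν ≠ 0 := by rintro rfl; exact hν ⟨0, by simp⟩
  have hE : E R ψ ν = 0 := by
    have h1 := hw ν
    rw [if_neg (fun h => hν h.2), Submodule.finrank_eq_zero, LinearMap.range_eq_bot] at h1
    exact h1
  have hE' : E (weilO hψ h2 hK) ψ ν = 0 := by
    have h1 := hw' ν
    rw [if_neg (fun h => hν h.2), Submodule.finrank_eq_zero, LinearMap.range_eq_bot] at h1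
    exact h1
  have hodd : Odd (Fintype.card K) := by
    rw [Nat.odd_iff]
    exact FiniteField.odd_card_of_char_ne_two h2
  have hz : ∃ c : k, R (t (-1)) = c • 1 ∧ weilO hψ h2 hK (t (-1)) = c • 1 := by
    obtain ⟨ω, hω⟩ := central_scalar R hspan (t_sq_central (K := K) (a := -1) neg_one_sq)
    have h0 := half_omega_minus R hψ hK hodd hν0 hE (b' := 1) one_ne_zero
      (by rw [hw, if_pos ⟨one_ne_zero, ⟨1, by simp⟩⟩]) (by rw [hw, if_neg (fun h => h.1 rfl)]) hω
    refine ⟨ω, hω, ?_⟩
    apply LinearMap.ext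
    intro f
    apply Subtype.ext
    ext s
    rw [weilO_apply, W_t]
    change _ = ω * (f : K → k) s
    rw [h0]
    have h3 : (((-1 : Kˣ) : K)) * s = -s := by simp
    rw [h3, f.2 s]
    simp
  refine exists_intertwiner R _ hspan ?_ (fun g => trace_eq R (weilO hψ h2 hK) hψ hK h2 (fun x => ?_) hz hν0 hE hE' g)
  · rw [finrank_eq_sum R hψ hK, finrank_eq_sum (weilO hψ h2 hK) hψ hK]
    exact le_of_eq (Finset.sum_congr rfl fun b _ => by rw [hw, hw'])
  · rw [trace_u R hψ hK, trace_u (weilO hψ h2 hK) hψ hK]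
    exact Finset.sum_congr rfl fun b _ => by rw [hw, hw']

end Odd

end Cfsg.Agent.H871.Weil
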