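import Cfsg.Agent.H871.Weil2

/-!
# The Heisenberg group on the functions `K → k` and its images on the odd part of the Weil module
-/

set_option autoImplicit false
set_option linter.unusedSectionVars false

namespace Cfsg.Agent.H871.Weil

open Matrix Module Cfsg.Agent.H464.Sl2

variable {K : Type*} [Field K] [Fintype K] [DecidableEq K] {k : Type*} [Field k] {ψ : AddChar K k}

variable (ψ) in
/-- the Heisenberg group -/
def hs (v : K × K) : Module.End k (K → k) where
  toFun f s := ψ (2 * v.1 * s + v.1 * v.2) * f (s + v.2)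
  map_add' f g := by
    ext s
    simp only [Pi.add_apply]
    ring
  map_smul' c f := by
    ext s
    simp only [Pi.smul_apply, smul_eq_mul, RingHom.id_apply]
    ring

theorem hs_apply (v : K × K) (f : K → k) (s : K) : hs ψ v f s = ψ (2 * v.1 * s + v.1 * v.2) * f (s + v.2) := rfl

/-- the action of `SL₂` -/
def act (g : SpecialLinearGroup (Fin 2) K) (v : K × K) : K × K :=
  (g.1 0 0 * v.1 - g.1 0 1 * v.2, -(g.1 1 0 * v.1) + g.1 1 1 * v.2)

theorem act_mul (g h : SpecialLinearGroup (Fin 2) K) (v : K × K) : act (g * h) v = act g (act h v) := by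
  have e : (g * h).1 = g.1 * h.1 := rfl
  unfold act
  simp only [e, Matrix.mul_apply, Fin.sum_univ_two]
  ext
  · simp only
    ring
  · simp only
    ring

theorem act_neg (g : SpecialLinearGroup (Fin 2) K) (v : K × K) : act g (-v) = -act g v := by
  unfold act
  ext
  · simp only [Prod.fst_neg, Prod.snd_neg]
    ring
  · simp only [Prod.fst_neg, Prod.snd_neg]
    ring

theorem act_one (v : K × K) : act (1 : SpecialLinearGroup (Fin 2) K) v = v := by
  unfold act
  ext
  · simp
  · simp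

theorem act_ne {g : SpecialLinearGroup (Fin 2) K} {v : K × K} (hv : v ≠ 0) : act g v ≠ 0 := by
  intro h
  apply hv
  have h1 : act g⁻¹ (act g v) = v := by rw [← act_mul, inv_mul_cancel, act_one]
  rw [← h1, h]
  unfold act
  ext <;> simp

theorem W_hs_u (x : K) (v : K × K) : W ψ (u x) * hs ψ v = hs ψ (act (u x) v) * W ψ (u x) := by
  apply LinearMap.ext
  intro f
  ext s
  rw [Module.End.mul_apply, Module.End.mul_apply, W_u, hs_apply, hs_apply, W_u, ← mul_assoc, ← mul_assoc,
    ← AddChar.map_add_eq_mul, ← AddChar.map_add_eq_mul]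
  have e : act (u x) v = (v.1 - x * v.2, v.2) := by
    unfold act
    ext <;> simp
  rw [e]
  congr 2
  ring

theorem W_hs_t (a : Kˣ) (v : K × K) : W ψ (t a) * hs ψ v = hs ψ (act (t a) v) * W ψ (t a) := by
  apply LinearMap.ext
  intro f
  ext s
  have e : act (t a) v = (a * v.1, (a : K)⁻¹ * v.2) := by
    unfold act
    ext <;> simp
  rw [Module.End.mul_apply, Module.End.mul_apply, W_t, hs_apply, hs_apply, W_t, e]
  have ha : (a : K) ≠ 0 := a.ne_zero
  have e1 : (a : K) * (s + (a : K)⁻¹ * v.2) = a * s + v.2 := by field_simp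
  have e2 : 2 * (a * v.1) * s + a * v.1 * ((a : K)⁻¹ * v.2) = 2 * v.1 * (a * s) + v.1 * v.2 := by
    field_simp
  simp only [e1, e2]
  ring

theorem W_hs_w (v : K × K) : W ψ (w 1) * hs ψ v = hs ψ (act (w 1) v) * W ψ (w (1 : Kˣ)) := by
  apply LinearMap.ext
  intro f
  ext s
  have e : act (w (1 : Kˣ)) v = (v.2, -v.1) := by
    unfold act
    ext <;> simp
  rw [Module.End.mul_apply, Module.End.mul_apply, W_w, hs_apply, W_w, e, ← Equiv.sum_comp (Equiv.addRight v.2)
    (fun z => ψ (-(2 * (s + (v.2, -v.1).2) * z)) * f z)]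
  simp only [hs_apply, Finset.mul_sum]
  refine Finset.sum_congr rfl fun z _ => ?_
  change (Gs ψ)⁻¹ * (ψ (-(2 * s * z)) * (ψ (2 * v.1 * z + v.1 * v.2) * f (z + v.2))) =
    ψ (2 * v.2 * s + v.2 * -v.1) * ((Gs ψ)⁻¹ * (ψ (-(2 * (s + -v.1) * (z + v.2))) * f (z + v.2)))
  have e1 : ψ (-(2 * s * z)) * ψ (2 * v.1 * z + v.1 * v.2) =
      ψ (2 * v.2 * s + v.2 * -v.1) * ψ (-(2 * (s + -v.1) * (z + v.2))) := by
    rw [← AddChar.map_add_eq_mul, ← AddChar.map_add_eq_mul]
    congr 1
    ring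
  linear_combination ((Gs ψ)⁻¹ * f (z + v.2)) * e1

variable (hψ : ψ.IsPrimitive) (h2 : ringChar K ≠ 2) (hK : (Fintype.card K : k) ≠ 0)

theorem weil_hs (g : SpecialLinearGroup (Fin 2) K) (v : K × K) :
    weil hψ h2 hK g * hs ψ v = hs ψ (act g v) * weil hψ h2 hK g := by
  have hmul : ∀ g h : SpecialLinearGroup (Fin 2) K,
      (∀ v, weil hψ h2 hK g * hs ψ v = hs ψ (act g v) * weil hψ h2 hK g) →
      (∀ v, weil hψ h2 hK h * hs ψ v = hs ψ (act h v) * weil hψ h2 hK h) →
      ∀ v, weil hψ h2 hK (g * h) * hs ψ v = hs ψ (act (g * h) v) * weil hψ h2 hK (g * h) := by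
    intro g h hg hh v
    rw [map_mul, mul_assoc, hh, ← mul_assoc, hg, mul_assoc, act_mul]
  rcases bruhat g with ⟨x, a, rfl⟩ | ⟨x, a, y, rfl⟩
  · exact hmul _ _ (W_hs_u x) (W_hs_t a) v
  · rw [← w_one_mul_t]
    exact hmul _ _ (hmul _ _ (W_hs_u x) (hmul _ _ W_hs_w (W_hs_t a))) (W_hs_u y) v

variable (ψ) in
/-- the operators `h(v) + h(-v)` on the odd functions -/
def TO (v : K × K) : Module.End k (Od K k) :=
  (hs ψ v + hs ψ (-v)).restrict fun f hf s => by
    simp only [LinearMap.add_apply, Pi.add_apply, hs_apply, Prod.fst_neg, Prod.snd_neg]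
    have e1 := hf (s + v.2)
    have e2 := hf (s + -v.2)
    have e3 : -s + v.2 = -(s + -v.2) := by ring
    have e4 : -s + -v.2 = -(s + v.2) := by ring
    rw [e3, e4, e1, e2]
    have e5 : 2 * v.1 * -s + v.1 * v.2 = 2 * -v.1 * s + -v.1 * -v.2 := by ring
    have e6 : 2 * -v.1 * -s + -v.1 * -v.2 = 2 * v.1 * s + v.1 * v.2 := by ring
    rw [e5, e6]
    ring

theorem TO_apply (v : K × K) (f : Od K k) (s : K) : (TO ψ v f : K → k) s =
    ψ (2 * v.1 * s + v.1 * v.2) * (f : K → k) (s + v.2) + ψ (2 * -v.1 * s + -v.1 * -v.2) * (f : K → k) (s + -v.2) := rfl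

theorem weilO_TO (g : SpecialLinearGroup (Fin 2) K) (v : K × K) :
    weilO hψ h2 hK g * TO ψ v = TO ψ (act g v) * weilO hψ h2 hK g := by
  apply LinearMap.ext
  intro f
  apply Subtype.ext
  have h1 := congrArg (fun A : Module.End k (K → k) => A (f : K → k)) (weil_hs hψ h2 hK g v)
  have h3 := congrArg (fun A : Module.End k (K → k) => A (f : K → k)) (weil_hs hψ h2 hK g (-v))
  rw [act_neg] at h3
  change weil hψ h2 hK g (hs ψ v f + hs ψ (-v) f) = hs ψ (act g v) (weil hψ h2 hK g f) +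
    hs ψ (-act g v) (weil hψ h2 hK g f)
  rw [map_add]
  exact congrArg₂ (· + ·) h1 h3

/-- the diagonal operators -/
def DO (d : K → k) (hd : ∀ s, d (-s) = d s) : Module.End k (Od K k) where
  toFun f := ⟨fun s => d s * (f : K → k) s, fun s => by
    change d (-s) * (f : K → k) (-s) = -(d s * (f : K → k) s)
    rw [hd, f.2 s]
    ring⟩
  map_add' f g := by
    apply Subtype.ext
    ext s
    change d s * ((f : K → k) s + (g : K → k) s) = d s * (f : K → k) s + d s * (g : K → k) s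
    ring
  map_smul' c f := by
    apply Subtype.ext
    ext s
    change d s * (c * (f : K → k) s) = c * (d s * (f : K → k) s)
    ring

theorem DO_apply (d : K → k) (hd : ∀ s, d (-s) = d s) (f : Od K k) (s : K) :
    (DO d hd f : K → k) s = d s * (f : K → k) s := rfl

/-- **The norm form normalises the Heisenberg group.** -/
theorem DO_TO {q : ℕ} (hodd : Even (q + 1)) (hadd : ∀ x y : K, (x + y) ^ q = x ^ q + y ^ q)
    (hqq : ∀ x : K, (x ^ q) ^ q = x) (hψq : ∀ x : K, ψ (x ^ q) = ψ x) (v : K × K) :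
    DO (fun s => ψ (s ^ (q + 1))) (fun s => by rw [hodd.neg_pow]) * TO ψ v =
      TO ψ (v.1 - v.2 ^ q, v.2) * DO (fun s => ψ (s ^ (q + 1))) (fun s => by rw [hodd.neg_pow]) := by
  have key : ∀ s a b : K, ψ (s ^ (q + 1)) * ψ (2 * a * s + a * b) =
      ψ (2 * (a - b ^ q) * s + (a - b ^ q) * b) * ψ ((s + b) ^ (q + 1)) := by
    intro s a b
    have e1 : (s + b) ^ (q + 1) = s ^ (q + 1) + s ^ q * b + b ^ q * s + b ^ (q + 1) := by
      rw [pow_succ, hadd]
      ring
    have e2 : ψ (s ^ q * b) = ψ (b ^ q * s) := by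
      rw [← hψq, mul_pow, hqq, mul_comm]
    rw [e1, AddChar.map_add_eq_mul ψ (s ^ (q + 1) + s ^ q * b + b ^ q * s), AddChar.map_add_eq_mul ψ (s ^ (q + 1) + s ^ q * b),
      AddChar.map_add_eq_mul ψ (s ^ (q + 1)), e2, ← AddChar.map_add_eq_mul, ← AddChar.map_add_eq_mul,
      ← AddChar.map_add_eq_mul, ← AddChar.map_add_eq_mul, ← AddChar.map_add_eq_mul]
    congr 1
    ring
  apply LinearMap.ext
  intro f
  apply Subtype.ext
  ext s
  rw [Module.End.mul_apply, Module.End.mul_apply, DO_apply, TO_apply, TO_apply, DO_apply, DO_apply]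
  have k1 := key s v.1 v.2
  have k2 := key s (-v.1) (-v.2)
  have hq1 : (-v.2) ^ q = -v.2 ^ q := by
    have h3 := hadd v.2 (-v.2)
    rw [add_neg_cancel, zero_pow] at h3
    · linear_combination -h3
    · rintro rfl
      exact absurd hodd (by decide)
  rw [hq1] at k2
  simp only
  have e1 : -(v.1 - v.2 ^ q) = -v.1 - -v.2 ^ q := by ring
  rw [e1]
  linear_combination (f : K → k) (s + v.2) * k1 + (f : K → k) (s + -v.2) * k2

end Cfsg.Agent.H871.Weil
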